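import Mathlib

/-!
A computed certificate: over a field of nine elements, with `i² = -1`, the transvections
`[[1,0],[1,1]]` and `[[1,i],[0,1]]` generate a group of order 120.
-/

set_option autoImplicit false

namespace CfsgLib.PSL2Sub.Nine

/-- A code for `a + b i`. -/
def pair (a b : ℕ) : ℕ := a % 3 + 3 * (b % 3)

/-- Addition of codes. -/
def add (x y : ℕ) : ℕ := pair (x % 3 + y % 3) (x / 3 + y / 3)

/-- Multiplication of a code by `i`. -/
def mulI (x : ℕ) : ℕ := pair (2 * (x / 3)) (x % 3)

/-- A code for a matrix. -/
abbrev Mat := ℕ × ℕ × ℕ × ℕ

/-- Right multiplication by `[[1,i],[0,1]]`. -/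
def mulU : Mat → Mat
  | (a, b, c, d) => (a, add (mulI a) b, c, add (mulI c) d)

/-- Right multiplication by `[[1,0],[1,1]]`. -/
def mulL : Mat → Mat
  | (a, b, c, d) => (add a b, b, add c d, d)

/-- Adjoins a candidate to both lists unless it has been seen. -/
def insertNew : List Mat × List Mat → Mat → List Mat × List Mat
  | (seen, new), m => if seen.contains m then (seen, new) else (m :: seen, m :: new)

/-- Breadth-first search. -/
def search : ℕ → List Mat → List Mat → List Mat
  | 0, seen, _ => seen
  | n + 1, seen, front =>
    let r := (front.map mulU ++ front.map mulL).foldl insertNew (seen, [])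
    search n r.1 r.2

/-- The matrices found. -/
def group : List Mat := search 30 [(1, 0, 0, 1)] [(1, 0, 0, 1)]

set_option maxRecDepth 100000 in
theorem group_closed :
    group.all (fun m => group.contains (mulU m) && group.contains (mulL m)) = true := by
  decide +kernel

set_option maxRecDepth 100000 in
theorem group_small :
    group.all (fun m => decide (m.1 < 9) && decide (m.2.1 < 9) && decide (m.2.2.1 < 9) &&
      decide (m.2.2.2 < 9)) = true := by
  decide +kernel

set_option maxRecDepth 100000 in
theorem group_length : group.length = 120 := by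
  decide +kernel

set_option maxRecDepth 100000 in
theorem group_nodup : group.Nodup := by
  decide +kernel

theorem one_mem_group : (1, 0, 0, 1) ∈ group := by
  decide +kernel

/-- Whatever holds of the identity and is preserved by the two generators holds of every member. -/
theorem group_induction (P : Mat → Prop) (h1 : P (1, 0, 0, 1))
    (hU : ∀ m, P m → P (mulU m)) (hL : ∀ m, P m → P (mulL m)) : ∀ m ∈ group, P m := by
  have fold : ∀ (l : List Mat) (r : List Mat × List Mat), (∀ m ∈ l, P m) →
      (∀ m ∈ r.1, P m) → (∀ m ∈ r.2, P m) →
      (∀ m ∈ (l.foldl insertNew r).1, P m) ∧ (∀ m ∈ (l.foldl insertNew r).2, P m) := by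
    intro l
    induction l with
    | nil => exact fun r _ h2 h3 => ⟨h2, h3⟩
    | cons a l ih =>
      intro r hl h2 h3
      obtain ⟨seen, new⟩ := r
      rw [List.foldl_cons]
      refine ih _ (fun m hm => hl m (List.mem_cons_of_mem a hm)) ?_ ?_ <;>
        intro m hm <;> simp only [insertNew] at hm <;> split_ifs at hm
      · exact h2 m hm
      · rcases List.mem_cons.mp hm with rfl | h
        · exact hl _ List.mem_cons_self
        · exact h2 m h
      · exact h3 m hm
      · rcases List.mem_cons.mp hm with rfl | h
        · exact hl _ List.mem_cons_self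
        · exact h3 m h
  have main : ∀ (n : ℕ) (seen front : List Mat), (∀ m ∈ seen, P m) → (∀ m ∈ front, P m) →
      ∀ m ∈ search n seen front, P m := by
    intro n
    induction n with
    | zero => exact fun seen front h2 _ => h2
    | succ n ih =>
      intro seen front h2 h3
      have hl : ∀ m ∈ front.map mulU ++ front.map mulL, P m := by
        intro m hm
        rcases List.mem_append.mp hm with h | h <;> obtain ⟨a, ha, rfl⟩ := List.mem_map.mp h
        · exact hU a (h3 a ha)
        · exact hL a (h3 a ha)
      obtain ⟨h4, h5⟩ := fold _ (seen, []) hl h2 (fun m hm => absurd hm List.not_mem_nil)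
      exact ih _ _ h4 h5
  refine main 30 _ _ ?_ ?_ <;> simpa using h1

end CfsgLib.PSL2Sub.Nine
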