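import Cfsg.Agent.Lib.PSL2Sub.Transfer
import Cfsg.Agent.Lib.PSL2Sub.Nine
import Cfsg.Agent.Lib.SL2Trace.Orders

/-!
Dickson's generation theorem: for odd `q`, `[[1,0],[1,1]]` and `[[1,λ],[0,1]]` generate `SL₂(q)`
when `λ` generates the field, except for `q = 9`, `λ² = -1`, where they generate a group of
order 120.
-/

set_option autoImplicit false
set_option linter.unusedSectionVars false

namespace CfsgLib.PSL2Sub

open Matrix OnePoint

section Field

variable {F : Type*} [Field F] [Finite F] (p : ℕ) [hp : Fact p.Prime] [CharP F p]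

theorem card_le_of_pow_eq (lam : F) (hgen : Subfield.closure ({lam} : Set F) = ⊤) (i : ℕ)
    (hi : 0 < i) (h : lam ^ (p ^ i) = lam) : Nat.card F ≤ p ^ i := by
  classical
  letI := Fintype.ofFinite F
  have hall : ∀ x : F, x ^ (p ^ i) = x := by
    intro x
    have hle : Subfield.closure ({lam} : Set F) ≤
        RingHom.eqLocusField (iterateFrobenius F p i) (RingHom.id F) := by
      rw [Subfield.closure_le]
      intro y hy
      rw [Set.mem_singleton_iff] at hy
      subst hy
      show iterateFrobenius F p i y = y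
      rw [iterateFrobenius_def, h]
    rw [hgen] at hle
    have := hle (Subfield.mem_top x)
    rw [← iterateFrobenius_def]
    exact this
  have h1 : 1 < p ^ i := one_lt_pow₀ hp.out.one_lt hi.ne'
  have hd : (Polynomial.X ^ p ^ i - Polynomial.X : Polynomial F).natDegree = p ^ i :=
    FiniteField.X_pow_card_sub_X_natDegree_eq F h1
  rw [Nat.card_eq_fintype_card, ← hd, ← Finset.card_univ]
  refine Polynomial.card_le_degree_of_subset_roots ?_
  intro x hx
  rw [Polynomial.mem_roots (FiniteField.X_pow_card_sub_X_ne_zero F h1)]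
  simp [hall x]

end Field

section Entries

variable {F : Type*} [Field F]

theorem lower_left_pow (M : SpecialLinearGroup (Fin 2) F)
    (h : (M : Matrix (Fin 2) (Fin 2) F) 1 0 = 1) :
    ((M ^ 2 : SpecialLinearGroup (Fin 2) F) : Matrix (Fin 2) (Fin 2) F) 1 0 =
      (M : Matrix (Fin 2) (Fin 2) F).trace ∧
    ((M ^ 3 : SpecialLinearGroup (Fin 2) F) : Matrix (Fin 2) (Fin 2) F) 1 0 =
      (M : Matrix (Fin 2) (Fin 2) F).trace ^ 2 - 1 ∧
    ((M ^ 5 : SpecialLinearGroup (Fin 2) F) : Matrix (Fin 2) (Fin 2) F) 1 0 =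
      (M : Matrix (Fin 2) (Fin 2) F).trace ^ 4 - 3 * (M : Matrix (Fin 2) (Fin 2) F).trace ^ 2 + 1 := by
  set τ := (M : Matrix (Fin 2) (Fin 2) F).trace with hτ
  set A := (M : Matrix (Fin 2) (Fin 2) F) with hA
  have h2 : A * A = τ • A - 1 := CfsgLib.SL2Trace.mul_self_eq M
  have h3 : A * A * A = (τ ^ 2 - 1) • A - τ • 1 := by
    rw [h2, sub_mul, one_mul, smul_mul_assoc, h2, smul_sub, smul_smul, sub_smul, one_smul, pow_two]
    abel
  have h5 : A * A * A * (A * A) =
      (τ ^ 4 - 3 * τ ^ 2 + 1) • A - (τ ^ 3 - 2 * τ) • 1 := by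
    rw [h3, h2]
    have : ((τ ^ 2 - 1) • A - τ • (1 : Matrix (Fin 2) (Fin 2) F)) * (τ • A - 1) =
        ((τ ^ 2 - 1) * τ) • (A * A) - (τ ^ 2 - 1) • A - (τ * τ) • A + τ • 1 := by
      simp only [sub_mul, mul_sub, smul_mul_assoc, mul_smul_comm, one_mul, mul_one, smul_sub,
        smul_smul, mul_comm τ]
      abel
    rw [this, h2]
    ext i j
    simp only [Matrix.sub_apply, Matrix.add_apply, Matrix.smul_apply, smul_eq_mul]
    ring
  refine ⟨?_, ?_, ?_⟩
  · rw [pow_two]
    show (A * A) 1 0 = τ
    rw [h2]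
    simp [h]
  · rw [pow_succ, pow_two]
    show (A * A * A) 1 0 = τ ^ 2 - 1
    rw [h3]
    simp [h]
  · rw [show M ^ 5 = M * M * M * (M * M) by simp only [pow_succ, pow_zero, one_mul, mul_assoc]]
    show (A * A * A * (A * A)) 1 0 = τ ^ 4 - 3 * τ ^ 2 + 1
    rw [h5]
    simp [h]

theorem toPGL_eq_one {g : SpecialLinearGroup (Fin 2) F}
    (h : (SpecialLinearGroup.toPGL g : PG F) = 1) :
    g ∈ Subgroup.center (SpecialLinearGroup (Fin 2) F) := by
  have h' : ProjectiveSpecialLinearGroup.toPGL
      (QuotientGroup.mk g : ProjectiveSpecialLinearGroup (Fin 2) F) = (1 : PG F) := h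
  rw [← map_one (ProjectiveSpecialLinearGroup.toPGL :
    ProjectiveSpecialLinearGroup (Fin 2) F →* PG F)] at h'
  exact (QuotientGroup.eq_one_iff g).mp (ProjectiveSpecialLinearGroup.toPGL_injective h')

end Entries

theorem alt_five_pow : ∀ g : alternatingGroup (Fin 5), g ^ 2 = 1 ∨ g ^ 3 = 1 ∨ g ^ 5 = 1 := by
  decide +kernel

variable {F : Type*} [Field F] [Finite F]

/-- The two generators. -/
def genLower : SpecialLinearGroup (Fin 2) F := CfsgLib.SL2Trace.mk2 1 0 1 1 (by ring)

/-- The two generators. -/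
def genUpper (lam : F) : SpecialLinearGroup (Fin 2) F := CfsgLib.SL2Trace.mk2 1 lam 0 1 (by ring)

/-- Two transvections generate `SL₂(q)`, apart from one exception. -/
theorem closure_eq_top (h2 : (2 : F) ≠ 0) (lam : F) (hlam : lam ≠ 0)
    (hgen : Subfield.closure ({lam} : Set F) = ⊤) (h9 : ¬ (Nat.card F = 9 ∧ lam ^ 2 = -1)) :
    Subgroup.closure ({genLower, genUpper lam} : Set (SpecialLinearGroup (Fin 2) F)) = ⊤ := by
  classical
  obtain ⟨p, hpF⟩ := CharP.exists F
  haveI : Fact p.Prime := ⟨CharP.char_is_prime F p⟩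
  have hp2 : p ≠ 2 := by
    rintro rfl
    exact h2 (by exact_mod_cast CharP.cast_eq_zero F 2)
  set S := Subgroup.closure ({genLower, genUpper lam} : Set (SpecialLinearGroup (Fin 2) F)) with hS
  set T : SpecialLinearGroup (Fin 2) F →* PG F := SpecialLinearGroup.toPGL with hT
  set H := S.map T with hH
  have hUS : genUpper lam ∈ S := Subgroup.subset_closure (Set.mem_insert_of_mem _ rfl)
  have hLS : genLower ∈ S := Subgroup.subset_closure (Set.mem_insert _ _)
  have hu : T (genUpper lam) = aff 1 lam := upper_eq _ lam rfl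
  have hl : T genLower = invol * aff 1 1 * invol := lower_eq _ 1 rfl
  have huH : aff 1 lam ∈ H := ⟨_, hUS, hu⟩
  have hlH : invol * aff 1 1 * invol ∈ H := ⟨_, hLS, hl⟩
  have hu1 : (aff 1 lam : PG F) ≠ 1 := by
    rw [← aff_one_zero]
    exact fun e => hlam (aff_injective e).2
  have hup : (aff 1 lam : PG F) ^ p = 1 := translation_pow_char p lam
  have hlp : (invol * aff 1 1 * invol : PG F) ^ p = 1 := by
    nth_rewrite 2 [← invol_inv]
    rw [conj_pow, translation_pow_char p, mul_one, mul_inv_cancel]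
  have hl1 : (invol * aff 1 1 * invol : PG F) ≠ 1 := by
    nth_rewrite 2 [← invol_inv]
    rw [Ne, conj_eq_one_iff, ← aff_one_zero]
    exact fun e => one_ne_zero (aff_injective e).2
  have hl0 : (invol * aff 1 1 * invol : PG F) • ((0 : F) : OnePoint F) = ((0 : F) : OnePoint F) := by
    rw [mul_smul, mul_smul, invol_zero, aff_smul_infty, invol_infty]
  have hlinf : (invol * aff 1 1 * invol : PG F) • (∞ : OnePoint F) = ((1 : F) : OnePoint F) := by
    rw [mul_smul, mul_smul, invol_infty, aff_smul_coe, mul_zero, zero_add, invol_one]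
  haveI : Finite (PG F) := Finite.of_surjective _ ProjGenLinGroup.mk_surjective
  have hdvd : p ∣ Nat.card H := by
    have : orderOf (⟨_, huH⟩ : H) = p :=
      orderOf_eq_prime (Subtype.ext hup) fun e => hu1 (congrArg Subtype.val e)
    exact this ▸ orderOf_dvd_natCard _
  have key : (SpecialLinearGroup.toPGL : SpecialLinearGroup (Fin 2) F →* PG F).range ≤ H := by
    rcases classify_finite p H with h | h | h | h | h | h | h
    · exact absurd hdvd h.2
    · obtain ⟨A, hidx, -, hpA, -, -⟩ := h
      rw [← Subgroup.card_mul_index A, hidx] at hdvd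
      rcases (Nat.Prime.dvd_mul Fact.out).mp hdvd with h | h
      · exact absurd h hpA
      · exact absurd ((Nat.prime_dvd_prime_iff_eq Fact.out Nat.prime_two).mp h) hp2
    · obtain ⟨-, x, hx⟩ := h
      have e1 : x = ∞ := unique_fixed_of_pow_char p hu1 hup (aff_smul_infty 1 lam) (hx ⟨_, huH⟩)
      have e2 : x = ((0 : F) : OnePoint F) :=
        unique_fixed_of_pow_char p hl1 hlp hl0 (hx ⟨_, hlH⟩)
      exact absurd (e1.symm.trans e2) (OnePoint.infty_ne_coe _)
    · exact absurd hdvd h.1
    · exact absurd hdvd h.1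
    · obtain ⟨h3, ⟨e⟩⟩ := h
      exfalso
      obtain rfl : p = 3 := h3.resolve_left fun h => h hdvd
      have c3 : (3 : F) = 0 := by exact_mod_cast CharP.cast_eq_zero F 3
      have hH60 : Nat.card H = 60 := by
        have h2' := two_mul_nat_card_alternatingGroup (α := Fin 5)
        rw [Nat.card_perm, Nat.card_fin] at h2'
        rw [Nat.card_congr e.toEquiv]
        rw [show Nat.factorial 5 = 120 from rfl] at h2'
        omega
      have hq : ¬ Nat.card F ≤ 3 := by
        intro hle
        letI := Fintype.ofFinite F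
        have hS' : Nat.card H ≤ Nat.card (SpecialLinearGroup (Fin 2) F) :=
          (Nat.card_le_card_of_surjective (fun g : S => (⟨T g, g, g.2, rfl⟩ : H)) (by
            rintro ⟨_, g, hg, rfl⟩; exact ⟨⟨g, hg⟩, rfl⟩)).trans (Subgroup.card_le_card_group S)
        rw [hH60, Linear.card_SL_two, ← Nat.card_eq_fintype_card] at hS'
        have h9 : Nat.card F ^ 2 ≤ 9 := le_of_le_of_eq (Nat.pow_le_pow_left hle 2) (by norm_num)
        have : Nat.card F * (Nat.card F ^ 2 - 1) ≤ 3 * 8 := Nat.mul_le_mul hle (by omega)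
        omega
      have hne : lam ^ 3 ≠ lam := fun h => hq (card_le_of_pow_eq 3 lam hgen 1 one_pos h)
      have poly : ∀ M ∈ S, (M : Matrix (Fin 2) (Fin 2) F) 1 0 = 1 →
          (M : Matrix (Fin 2) (Fin 2) F).trace = 0 ∨
          (M : Matrix (Fin 2) (Fin 2) F).trace ^ 2 - 1 = 0 ∨
          (M : Matrix (Fin 2) (Fin 2) F).trace ^ 4 - 3 * (M : Matrix (Fin 2) (Fin 2) F).trace ^ 2 + 1
            = 0 := by
        intro M hM h10
        obtain ⟨a, b, c⟩ := lower_left_pow M h10
        have : ∀ n, e ⟨T M, M, hM, rfl⟩ ^ n = 1 →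
            ((M ^ n : SpecialLinearGroup (Fin 2) F) : Matrix (Fin 2) (Fin 2) F) 1 0 = 0 := by
          intro n hn
          rw [← map_pow, map_eq_one_iff e e.injective] at hn
          have : T (M ^ n) = 1 := by
            rw [map_pow]; exact congrArg Subtype.val hn
          exact (CfsgLib.SL2Trace.mem_center_iff_entries.1 (toPGL_eq_one this)).2.1
        rcases alt_five_pow (e ⟨T M, M, hM, rfl⟩) with h | h | h
        · exact Or.inl (a ▸ this 2 h)
        · exact Or.inr (Or.inl (b ▸ this 3 h))
        · exact Or.inr (Or.inr (c ▸ this 5 h))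
      have h1 := poly (genUpper lam * genLower) (S.mul_mem hUS hLS) (by
        simp [genUpper, genLower, CfsgLib.SL2Trace.coe_mk2])
      have h2' := poly ((genUpper lam)⁻¹ * genLower) (S.mul_mem (S.inv_mem hUS) hLS) (by
        simp [genUpper, genLower, CfsgLib.SL2Trace.coe_mk2, SpecialLinearGroup.coe_inv,
          Matrix.adjugate_fin_two])
      rw [show ((genUpper lam * genLower : SpecialLinearGroup (Fin 2) F) :
          Matrix (Fin 2) (Fin 2) F).trace = 2 + lam by
        simp [genUpper, genLower, CfsgLib.SL2Trace.coe_mk2, trace_fin_two]; ring] at h1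
      rw [show (((genUpper lam)⁻¹ * genLower : SpecialLinearGroup (Fin 2) F) :
          Matrix (Fin 2) (Fin 2) F).trace = 2 - lam by
        simp [genUpper, genLower, CfsgLib.SL2Trace.coe_mk2, SpecialLinearGroup.coe_inv,
          Matrix.adjugate_fin_two, trace_fin_two]; ring] at h2'
      have key1 : ∀ r : F, r * (r - 1) * (r + 1) = 0 → r ^ 3 = r := fun r h => by
        linear_combination h
      have hA : (2 + lam) ^ 4 - 3 * (2 + lam) ^ 2 + 1 = 0 := by
        rcases h1 with h | h | h
        · refine absurd (key1 lam ?_) hne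
          linear_combination (lam * (lam + 1)) * h - lam * (lam + 1) * c3
        · refine absurd (key1 lam ?_) hne
          linear_combination (lam - 1) * h - (lam - 1) * (lam + 1) * c3
        · exact h
      have hB : (2 - lam) ^ 4 - 3 * (2 - lam) ^ 2 + 1 = 0 := by
        rcases h2' with h | h | h
        · refine absurd (key1 lam ?_) hne
          linear_combination (-lam * (lam - 1)) * h + lam * (lam - 1) * c3
        · refine absurd (key1 lam ?_) hne
          linear_combination (lam + 1) * h - (lam + 1) * (1 - lam) * c3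
        · exact h
      have hsq : lam ^ 2 = -1 := by
        have : (16 : F) * lam * (lam ^ 2 + 1) = 0 := by
          linear_combination hA - hB - 8 * lam * c3
        rcases mul_eq_zero.mp this with h | h
        · exfalso
          have h8 : (16 : F) ≠ 0 := by
            intro h8
            exact h2 (by linear_combination 2 * h8 - 10 * c3)
          exact (mul_ne_zero h8 hlam) h
        · linear_combination h
      refine h9 ⟨?_, hsq⟩
      have hle : Nat.card F ≤ 3 ^ 2 := card_le_of_pow_eq 3 lam hgen 2 two_pos (by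
        linear_combination lam * (lam ^ 6 - lam ^ 4 + lam ^ 2 - 1) * hsq)
      obtain ⟨n, -, hn⟩ := @FiniteField.card F _ (Fintype.ofFinite F) 3 _
      rw [← @Nat.card_eq_fintype_card _ (Fintype.ofFinite F)] at hn
      have hn2 : (n : ℕ) ≤ 2 := (Nat.pow_le_pow_iff_right (by norm_num)).mp (hn ▸ hle)
      have := n.pos
      rcases (show (n : ℕ) = 1 ∨ (n : ℕ) = 2 by omega) with h | h <;> rw [h] at hn
      · omega
      · simpa using hn
    · obtain ⟨g₁, E, -, hpts, hH'⟩ := h
      have pts : ∀ x : OnePoint F, ∀ h : PG F, h ∈ H → h ≠ 1 → h ^ p = 1 → h • x = x →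
          ∃ z : OnePoint E, g₁⁻¹ • x = OnePoint.map E.subtype z := by
        intro x h hh h1 hp' hx
        obtain ⟨z, hz⟩ := (hpts x).mp ⟨⟨h, hh⟩, fun e => h1 (congrArg Subtype.val e), hp', hx⟩
        exact ⟨z, hz.symm⟩
      obtain ⟨a, ha⟩ := pts ∞ _ huH hu1 hup (aff_smul_infty 1 lam)
      obtain ⟨b, hb⟩ := pts _ _ hlH hl1 hlp hl0
      have hconj : ∀ (g h : PG F) (x : OnePoint F), h • x = x → (g * h * g⁻¹) • (g • x) = g • x := fun g h x hx => by
        rw [mul_smul, inv_smul_smul, mul_smul, hx]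
      obtain ⟨c, hc⟩ := pts ((1 : F) : OnePoint F) _
        (H.mul_mem (H.mul_mem hlH huH) (H.inv_mem hlH)) (fun e => hu1 (conj_eq_one_iff.mp e))
        (by rw [conj_pow, hup, mul_one, mul_inv_cancel])
        (by rw [← hlinf]; exact hconj _ _ _ (aff_smul_infty 1 lam))
      obtain ⟨d, hd⟩ := pts ((lam : F) : OnePoint F) _
        (H.mul_mem (H.mul_mem huH hlH) (H.inv_mem huH)) (fun e => hl1 (conj_eq_one_iff.mp e))
        (by rw [conj_pow, hlp, mul_one, mul_inv_cancel])
        (by
          have := hconj (aff 1 lam) _ _ hl0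
          rwa [aff_smul_coe, mul_zero, zero_add] at this)
      obtain ⟨g₂, hg₂⟩ := mem_range_map_of_three E.subtype (g := g₁⁻¹)
        (a := ∞) (b := ((0 : E) : OnePoint E)) (c := ((1 : E) : OnePoint E))
        (OnePoint.infty_ne_coe _) (OnePoint.infty_ne_coe _) zero_ne_one_onePoint
        (x := a) (y := b) (z := c) ha (by simpa using hb) (by simpa using hc)
      have hEt : E = ⊤ := by
        rw [eq_top_iff, ← hgen, Subfield.closure_le, Set.singleton_subset_iff]
        rw [← hg₂] at hd
        rw [← smul_inv_smul g₂ d, ← map_smul_onePoint] at hd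
        have h' := MulAction.injective _ hd
        cases hz : g₂⁻¹ • d with
        | infty => rw [hz] at h'; exact absurd h' (OnePoint.coe_ne_infty lam)
        | coe e =>
          rw [hz] at h'
          show lam ∈ E
          rw [OnePoint.coe_eq_coe.mp h']
          exact e.2
      subst hEt
      have hbij : Function.Bijective ((⊤ : Subfield F).subtype) :=
        ⟨Subtype.coe_injective, fun x => ⟨⟨x, trivial⟩, rfl⟩⟩
      rintro x hx
      obtain ⟨y, hy⟩ := (range_toPGL_normal F).conj_mem x hx g₁⁻¹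
      obtain ⟨y', rfl⟩ := sl_map_surjective _ hbij y
      have hin : g₁⁻¹ * x * g₁⁻¹⁻¹ ∈ H.map (MulAut.conj g₁⁻¹).toMonoidHom := by
        rw [← hy]
        rcases hH' with h | ⟨-, h⟩ <;> rw [h, ← pg_map_toPGL]
        · exact ⟨_, rfl⟩
        · exact ⟨y', rfl⟩
      obtain ⟨h', hh', he⟩ := Subgroup.mem_map.mp hin
      have he' : g₁⁻¹ * h' * g₁⁻¹⁻¹ = g₁⁻¹ * x * g₁⁻¹⁻¹ := he
      rw [mul_right_cancel_iff, mul_left_cancel_iff] at he'
      rwa [he'] at hh'
  rw [eq_top_iff]
  intro g _
  refine Linear.SL_transvection_induction (fun g => g ∈ S) S.one_mem ?_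
    (fun a b ha hb => S.mul_mem ha hb) g
  intro i j hij c
  obtain ⟨s, hs, he⟩ := key ⟨SpecialLinearGroup.transvection hij (c / 2), rfl⟩
  have hz : s⁻¹ * SpecialLinearGroup.transvection hij (c / 2) ∈
      Subgroup.center (SpecialLinearGroup (Fin 2) F) :=
    toPGL_eq_one (by rw [map_mul, map_inv, ← he]; exact inv_mul_cancel _)
  set z := s⁻¹ * SpecialLinearGroup.transvection hij (c / 2) with hzdef
  have ht : SpecialLinearGroup.transvection hij (c / 2) = s * z := by
    rw [hzdef, mul_inv_cancel_left]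
  have hsq : SpecialLinearGroup.transvection hij c = s * s := by
    have : SpecialLinearGroup.transvection hij c =
        SpecialLinearGroup.transvection hij (c / 2) * SpecialLinearGroup.transvection hij (c / 2) := by
      apply Subtype.ext
      show ((SpecialLinearGroup.transvection hij c : SpecialLinearGroup (Fin 2) F) :
          Matrix (Fin 2) (Fin 2) F) =
        ((SpecialLinearGroup.transvection hij (c / 2) : SpecialLinearGroup (Fin 2) F) :
          Matrix (Fin 2) (Fin 2) F) *
        ((SpecialLinearGroup.transvection hij (c / 2) : SpecialLinearGroup (Fin 2) F) :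
          Matrix (Fin 2) (Fin 2) F)
      fin_cases i <;> fin_cases j <;> first | exact absurd rfl hij | skip
      all_goals
        ext a b
        fin_cases a <;> fin_cases b <;>
          simp [SpecialLinearGroup.transvection_coe, Matrix.mul_apply, Fin.sum_univ_two,
            Matrix.one_apply, Matrix.single_apply] <;> field_simp <;> ring
    rw [this, ht, mul_assoc, ← mul_assoc z, ← Subgroup.mem_center_iff.mp hz s, mul_assoc,
      CfsgLib.SL2Trace.mul_self_eq_one_of_mem_center hz, mul_one]
  rw [hsq]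
  exact S.mul_mem hs hs

/-- The exceptional group of order 120. -/
theorem card_closure_nine (lam : F) (h9 : Nat.card F = 9) (hsq : lam ^ 2 = -1) :
    Nat.card (Subgroup.closure ({genLower, genUpper lam} : Set (SpecialLinearGroup (Fin 2) F)))
      = 120 := by
  classical
  obtain ⟨p, hpF⟩ := CharP.exists F
  haveI : Fact p.Prime := ⟨CharP.char_is_prime F p⟩
  obtain rfl : p = 3 := by
    obtain ⟨n, hp, hn⟩ := @FiniteField.card F _ (Fintype.ofFinite F) p _
    rw [← @Nat.card_eq_fintype_card _ (Fintype.ofFinite F), h9] at hn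
    have : p ∣ 3 ^ 2 := ⟨p ^ ((n : ℕ) - 1), by
      rw [← pow_succ', Nat.sub_add_cancel n.pos, ← hn]; norm_num⟩
    exact (Nat.prime_dvd_prime_iff_eq hp Nat.prime_three).mp (hp.dvd_of_dvd_pow this)
  let φ : ℕ → F := fun x => (x : F) + ((x / 3 : ℕ) : F) * lam
  have hpair : ∀ a b : ℕ, φ (Nine.pair a b) = (a : F) + (b : F) * lam := by
    intro a b
    have h1 : (Nine.pair a b) / 3 = b % 3 := by simp only [Nine.pair]; omega
    show ((Nine.pair a b : ℕ) : F) + ((Nine.pair a b / 3 : ℕ) : F) * lam = _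
    rw [h1, ← CharP.cast_eq_mod F 3 b]
    congr 1
    rw [CharP.cast_eq_mod F 3 (Nine.pair a b), CharP.cast_eq_mod F 3 a]
    congr 1
    simp only [Nine.pair]
    omega
  have hφ : ∀ x, φ x = ((x % 3 : ℕ) : F) + ((x / 3 : ℕ) : F) * lam := fun x => by
    rw [← CharP.cast_eq_mod F 3 x]
  have hadd : ∀ x y, φ (Nine.add x y) = φ x + φ y := fun x y => by
    rw [Nine.add, hpair, hφ x, hφ y]; push_cast; ring
  have hmulI : ∀ x, φ (Nine.mulI x) = lam * φ x := fun x => by
    have c3 : (3 : F) = 0 := by exact_mod_cast CharP.cast_eq_zero F 3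
    rw [Nine.mulI, hpair, hφ x]; push_cast
    linear_combination -((x / 3 : ℕ) : F) * hsq + ((x / 3 : ℕ) : F) * c3
  have hinj : ∀ x y : ℕ, x < 9 → y < 9 → φ x = φ y → x = y := by
    intro x y hx hy h
    rw [hφ, hφ] at h
    have hfrob : ∀ a : ℕ, (a : F) ^ 3 = a := fun a =>
      map_natCast (frobenius F 3) a
    have hb : ((x / 3 : ℕ) : F) = ((y / 3 : ℕ) : F) := by
      by_contra hne
      set u : F := ((x / 3 : ℕ) : F) - ((y / 3 : ℕ) : F) with hu
      set v : F := ((y % 3 : ℕ) : F) - ((x % 3 : ℕ) : F) with hv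
      have hu0 : u ≠ 0 := sub_ne_zero.mpr hne
      have e : u * lam = v := by linear_combination h
      have h3u : u ^ 3 = u := by rw [hu, sub_pow_char, hfrob, hfrob]
      have h3v : v ^ 3 = v := by rw [hv, sub_pow_char, hfrob, hfrob]
      have h2 : (2 : F) ≠ 0 := Ring.two_ne_zero (by rw [ringChar.eq F 3]; decide)
      have : (u * lam) * ((lam : F) ^ 2 - 1) = 0 := by
        linear_combination h3v + ((u * lam) ^ 2 + u * lam * v + v ^ 2) * e - lam ^ 3 * h3u - e
      rcases mul_eq_zero.mp this with h0 | h0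
      · rcases mul_eq_zero.mp h0 with h0 | h0
        · exact hu0 h0
        · rw [h0] at hsq; simp at hsq
      · exact h2 (by linear_combination hsq - h0)
    have ha : ((x % 3 : ℕ) : F) = ((y % 3 : ℕ) : F) := by rw [hb] at h; exact add_right_cancel h
    rw [CharP.natCast_eq_natCast F 3] at ha hb
    have h1 : (x % 3) % 3 = (y % 3) % 3 := ha
    have h2 : (x / 3) % 3 = (y / 3) % 3 := hb
    omega
  let toM : Nine.Mat → Matrix (Fin 2) (Fin 2) F := fun m =>
    !![φ m.1, φ m.2.1; φ m.2.2.1, φ m.2.2.2]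
  have hU : ∀ m, toM (Nine.mulU m) =
      toM m * ((genUpper lam : SpecialLinearGroup (Fin 2) F) : Matrix (Fin 2) (Fin 2) F) := by
    rintro ⟨a, b, c, d⟩
    ext i j
    fin_cases i <;> fin_cases j <;>
      simp [toM, Nine.mulU, genUpper, CfsgLib.SL2Trace.coe_mk2, Matrix.mul_apply,
        Fin.sum_univ_two, hadd, hmulI] <;> ring
  have hL : ∀ m, toM (Nine.mulL m) =
      toM m * ((genLower : SpecialLinearGroup (Fin 2) F) : Matrix (Fin 2) (Fin 2) F) := by
    rintro ⟨a, b, c, d⟩
    ext i j
    fin_cases i <;> fin_cases j <;>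
      simp [toM, Nine.mulL, genLower, CfsgLib.SL2Trace.coe_mk2, Matrix.mul_apply,
        Fin.sum_univ_two, hadd]
  have hone : toM (1, 0, 0, 1) = 1 := by
    ext i j
    fin_cases i <;> fin_cases j <;> simp [toM, φ]
  set S := Subgroup.closure ({genLower, genUpper lam} : Set (SpecialLinearGroup (Fin 2) F)) with hS
  have hsub : ∀ m ∈ Nine.group,
      ∃ s ∈ S, (s : Matrix (Fin 2) (Fin 2) F) = toM m := by
    refine Nine.group_induction _ ⟨1, S.one_mem, hone.symm⟩ ?_ ?_
    · rintro m ⟨s, hs, e⟩
      exact ⟨s * genUpper lam, S.mul_mem hs (Subgroup.subset_closure (Set.mem_insert_of_mem _ rfl)),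
        by rw [hU, ← e]; rfl⟩
    · rintro m ⟨s, hs, e⟩
      exact ⟨s * genLower, S.mul_mem hs (Subgroup.subset_closure (Set.mem_insert _ _)),
        by rw [hL, ← e]; rfl⟩
  have hall : ∀ s ∈ S, ∃ m ∈ Nine.group, (s : Matrix (Fin 2) (Fin 2) F) = toM m := by
    intro s hs
    rw [← Subgroup.mem_toSubmonoid, hS, Subgroup.closure_toSubmonoid_of_finite] at hs
    induction hs using Submonoid.closure_induction_right with
    | one => exact ⟨_, Nine.one_mem_group, hone.symm⟩
    | mul_right x hx y hy ih =>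
      obtain ⟨m, hm, e⟩ := ih
      have hc := List.all_eq_true.mp Nine.group_closed m hm
      rw [Bool.and_eq_true, List.contains_iff_mem, List.contains_iff_mem] at hc
      rcases hy with rfl | rfl
      · exact ⟨_, hc.2, by rw [hL, ← e]; rfl⟩
      · exact ⟨_, hc.1, by rw [hU, ← e]; rfl⟩
  have himg : (fun s : SpecialLinearGroup (Fin 2) F => (s : Matrix (Fin 2) (Fin 2) F)) ''
      (S : Set (SpecialLinearGroup (Fin 2) F)) =
      ↑(Nine.group.toFinset.image toM) := by
    ext A
    rw [Finset.coe_image, Set.mem_image, Set.mem_image]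
    constructor
    · rintro ⟨s, hs, rfl⟩
      obtain ⟨m, hm, e⟩ := hall s hs
      exact ⟨m, by simpa using hm, e.symm⟩
    · rintro ⟨m, hm, rfl⟩
      obtain ⟨s, hs, e⟩ := hsub m (by simpa using hm)
      exact ⟨s, hs, e⟩
  rw [← SetLike.coe_sort_coe, Nat.card_coe_set_eq,
    ← Set.ncard_image_of_injective _
      (f := fun s : SpecialLinearGroup (Fin 2) F => (s : Matrix (Fin 2) (Fin 2) F))
      (fun a b h => Subtype.ext h)]
  rw [himg, Set.ncard_coe_finset, Finset.card_image_of_injOn,
    List.toFinset_card_of_nodup Nine.group_nodup, Nine.group_length]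
  intro m hm m' hm' e
  rw [Finset.mem_coe, List.mem_toFinset] at hm hm'
  have h1 := List.all_eq_true.mp Nine.group_small m hm
  have h2 := List.all_eq_true.mp Nine.group_small m' hm'
  simp only [Bool.and_eq_true, decide_eq_true_eq] at h1 h2
  obtain ⟨⟨⟨a1, b1⟩, c1⟩, d1⟩ := h1
  obtain ⟨⟨⟨a2, b2⟩, c2⟩, d2⟩ := h2
  have e00 := congrFun (congrFun e 0) 0
  have e01 := congrFun (congrFun e 0) 1
  have e10 := congrFun (congrFun e 1) 0
  have e11 := congrFun (congrFun e 1) 1
  exact Prod.ext (hinj _ _ a1 a2 e00) (Prod.ext (hinj _ _ b1 b2 e01)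
    (Prod.ext (hinj _ _ c1 c2 e10) (hinj _ _ d1 d2 e11)))

end CfsgLib.PSL2Sub
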