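import Cfsg.Agent.Lib.PSL2Sub.Bounds
import Cfsg.Agent.Lib.PSL2Sub.Generation

/-! The minimal index of a proper subgroup of `PSL₂(q)` and its maximal dihedral subgroups. -/

set_option autoImplicit false
set_option linter.unusedSectionVars false

namespace CfsgLib.PSL2Sub

open Matrix OnePoint

theorem card_alt_four : Nat.card (alternatingGroup (Fin 4)) = 12 := by
  have h := two_mul_nat_card_alternatingGroup (α := Fin 4)
  rw [Nat.card_perm, Nat.card_fin, show Nat.factorial 4 = 24 from rfl] at h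
  omega

theorem card_sym_four : Nat.card (Equiv.Perm (Fin 4)) = 24 := by
  rw [Nat.card_perm, Nat.card_fin]; rfl

theorem card_alt_five : Nat.card (alternatingGroup (Fin 5)) = 60 := by
  have h := two_mul_nat_card_alternatingGroup (α := Fin 5)
  rw [Nat.card_perm, Nat.card_fin, show Nat.factorial 5 = 120 from rfl] at h
  omega

theorem alt_four_pow : ∀ g : alternatingGroup (Fin 4), g ^ 2 = 1 ∨ g ^ 3 = 1 := by
  decide +kernel

theorem sym_four_pow : ∀ g : Equiv.Perm (Fin 4), g ^ 3 = 1 ∨ g ^ 4 = 1 := by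
  decide +kernel

theorem alt_four_no_inverted_aux :
    ∀ a b : alternatingGroup (Fin 4), ¬ (a ^ 3 = 1 ∧ b * b = 1 ∧ b * a * b⁻¹ = a⁻¹ ∧ a ≠ 1) := by
  decide +kernel

theorem alt_four_no_inverted (a b : alternatingGroup (Fin 4)) (h1 : a ^ 3 = 1) (h2 : b * b = 1)
    (h3 : b * a * b⁻¹ = a⁻¹) : a = 1 := by
  by_contra h4
  exact alt_four_no_inverted_aux a b ⟨h1, h2, h3, h4⟩

theorem orderOf_le_of_pow_cases {G : Type*} [Monoid G] {g : G} {a b : ℕ} (ha : 0 < a) (hb : 0 < b)
    (h : g ^ a = 1 ∨ g ^ b = 1) : orderOf g ≤ max a b :=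
  h.elim (fun h => (orderOf_le_of_pow_eq_one ha h).trans (le_max_left a b))
    (fun h => (orderOf_le_of_pow_eq_one hb h).trans (le_max_right a b))

theorem dihedral_not_cyclic {n : ℕ} (hn : n ≠ 1) {G : Type*} [Group G]
    (e : G ≃* DihedralGroup n) : ¬ IsCyclic G := fun h =>
  DihedralGroup.not_isCyclic hn (isCyclic_of_surjective e.toMonoidHom e.surjective)

variable {F : Type*} [Field F] [Fintype F]

/-- The subgroups of tetrahedral, octahedral and icosahedral type only occur in odd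
characteristic; this records their orders and element orders. -/
theorem exceptional_facts (p : ℕ) [Fact p.Prime] {K : Subgroup (PS F)}
    (h : (¬ p ∣ Nat.card K ∧ Nonempty (K ≃* alternatingGroup (Fin 4))) ∨
      (¬ p ∣ Nat.card K ∧ Nonempty (K ≃* Equiv.Perm (Fin 4))) ∨
      ((¬ p ∣ Nat.card K ∨ p = 3) ∧ Nonempty (K ≃* alternatingGroup (Fin 5)))) :
    p ≠ 2 ∧ ((Nat.card K = 12 ∧ ∀ g ∈ K, orderOf g ≤ 3) ∨ (Nat.card K = 24 ∧ ∀ g ∈ K, orderOf g ≤ 4) ∨
      (Nat.card K = 60 ∧ ∀ g ∈ K, orderOf g ≤ 5)) := by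
  have hord : ∀ {G : Type} [Group G] (e : K ≃* G) (m : ℕ), (∀ x : G, orderOf x ≤ m) →
      ∀ g ∈ K, orderOf g ≤ m := fun e m hm g hg => by
    rw [← Subgroup.orderOf_mk g hg, ← MulEquiv.orderOf_eq e]
    exact hm _
  rcases h with ⟨hp, ⟨e⟩⟩ | ⟨hp, ⟨e⟩⟩ | ⟨hp, ⟨e⟩⟩
  · have hc := (Nat.card_congr e.toEquiv).trans card_alt_four
    refine ⟨fun h2 => hp (by rw [h2, hc]; norm_num), Or.inl ⟨hc, hord e 3 fun x => ?_⟩⟩
    exact (orderOf_le_of_pow_cases (by norm_num) (by norm_num) (alt_four_pow x)).trans (by norm_num)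
  · have hc := (Nat.card_congr e.toEquiv).trans card_sym_four
    refine ⟨fun h2 => hp (by rw [h2, hc]; norm_num), Or.inr (Or.inl ⟨hc, hord e 4 fun x => ?_⟩)⟩
    exact (orderOf_le_of_pow_cases (by norm_num) (by norm_num) (sym_four_pow x)).trans (by norm_num)
  · have hc := (Nat.card_congr e.toEquiv).trans card_alt_five
    refine ⟨fun h2 => hp.elim (fun h => h (by rw [h2, hc]; norm_num)) (fun h => by omega),
      Or.inr (Or.inr ⟨hc, hord e 5 fun x => ?_⟩)⟩
    rcases alt_five_pow x with h | h | h <;>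
      exact (orderOf_le_of_pow_eq_one (by norm_num) h).trans (by norm_num)

theorem card_parity (p : ℕ) [Fact p.Prime] [CharP F p] :
    (p ≠ 2 → Fintype.card F % 2 = 1 ∧ Nat.gcd 2 (Fintype.card F - 1) = 2) ∧
    (p = 2 → Fintype.card F % 2 = 0 ∧ Nat.gcd 2 (Fintype.card F - 1) = 1) ∧
    2 ≤ Fintype.card F := by
  obtain ⟨n, -, hn⟩ := FiniteField.card F p
  have h2 : 2 ≤ Fintype.card F := Fintype.one_lt_card
  rcases gcd_two_sub (Fintype.card F) with ⟨h, hd⟩ | ⟨h, hd⟩
  · refine ⟨fun _ => ⟨h, hd⟩, fun hp => ?_, h2⟩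
    exfalso
    subst hp
    have : 2 ∣ Fintype.card F := hn ▸ dvd_pow_self 2 n.ne_zero
    omega
  · refine ⟨fun hp => ?_, fun _ => ⟨h, hd.resolve_left (by omega)⟩, h2⟩
    exfalso
    have := ((Fact.out : p.Prime).odd_of_ne_two hp).pow (n := (n : ℕ))
    rw [← hn, Nat.odd_iff] at this
    omega

theorem dvdTorus_bound {q k : ℕ} (hq : 2 ≤ q) (h : DvdTorus q k) :
    Nat.gcd 2 (q - 1) * k ≤ q + 1 := by
  have hd1 : Nat.gcd 2 (q - 1) ∣ q - 1 := Nat.gcd_dvd_right 2 (q - 1)
  have hd2 : Nat.gcd 2 (q - 1) ∣ q + 1 := by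
    rcases gcd_two_sub q with ⟨h', hd⟩ | ⟨h', h0 | hd⟩
    · rw [hd]; exact Nat.dvd_of_mod_eq_zero (by omega)
    · omega
    · rw [hd]; exact one_dvd _
  have hpos : 0 < Nat.gcd 2 (q - 1) := Nat.gcd_pos_of_pos_left _ two_pos
  rcases h with h | h
  · calc _ ≤ Nat.gcd 2 (q - 1) * ((q + 1) / Nat.gcd 2 (q - 1)) := Nat.mul_le_mul_left _ (Nat.le_of_dvd
        (Nat.div_pos (Nat.le_of_dvd (by omega) hd2) hpos) h)
      _ = q + 1 := Nat.mul_div_cancel' hd2
  · calc _ ≤ Nat.gcd 2 (q - 1) * ((q - 1) / Nat.gcd 2 (q - 1)) := Nat.mul_le_mul_left _ (Nat.le_of_dvd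
        (Nat.div_pos (Nat.le_of_dvd (by omega) hd1) hpos) h)
      _ = q - 1 := Nat.mul_div_cancel' hd1
      _ ≤ q + 1 := by omega

/-- Proper subgroups are no bigger than point stabilisers, apart from six small fields. -/
theorem min_index (hq : Fintype.card F ∉ ({2, 3, 5, 7, 9, 11} : Finset ℕ)) (H : Subgroup (PS F))
    (hH : H ≠ ⊤) : Fintype.card F + 1 ≤ H.index := by
  classical
  obtain ⟨p, hpF⟩ := CharP.exists F
  haveI : Fact p.Prime := ⟨CharP.char_is_prime F p⟩
  obtain ⟨hodd, heven, hq2⟩ := card_parity (F := F) p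
  simp only [Finset.mem_insert, Finset.mem_singleton, not_or] at hq
  have hq4 : 4 ≤ Fintype.card F := by omega
  set q := Fintype.card F with hqdef
  set d := Nat.gcd 2 (q - 1) with hd
  have hdpos : 0 < d := Nat.gcd_pos_of_pos_left _ two_pos
  have key : d * Nat.card H ≤ q * (q - 1) := by
    have h3 : q * 3 ≤ q * (q - 1) := Nat.mul_le_mul_left q (by omega)
    rcases classify_psl p H with h | ⟨k, -, -, hk, ⟨e⟩⟩ | ⟨-, y, hy⟩ | h | h | h | ⟨E, hE⟩
    · exact (dvdTorus_bound hq2 h.2.2).trans (by omega)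
    · rw [Nat.card_congr e.toEquiv, DihedralGroup.nat_card]
      have := dvdTorus_bound hq2 hk
      rw [← hd] at this
      rw [show d * (2 * k) = 2 * (d * k) by ring]
      omega
    · rw [← gcd_mul_card_pointStab y]
      exact Nat.mul_le_mul_left _ (Subgroup.card_le_of_le fun g hg => hy g hg)
    · obtain ⟨hp2, hc⟩ := exceptional_facts p (Or.inl h)
      obtain ⟨h1, h2⟩ := hodd hp2
      have : 13 * 12 ≤ q * (q - 1) := Nat.mul_le_mul (by omega) (by omega)
      rw [h2]
      rcases hc with ⟨hc, -⟩ | ⟨hc, -⟩ | ⟨hc, -⟩ <;> rw [hc] <;> omega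
    · obtain ⟨hp2, hc⟩ := exceptional_facts p (Or.inr (Or.inl h))
      obtain ⟨h1, h2⟩ := hodd hp2
      have : 13 * 12 ≤ q * (q - 1) := Nat.mul_le_mul (by omega) (by omega)
      rw [h2]
      rcases hc with ⟨hc, -⟩ | ⟨hc, -⟩ | ⟨hc, -⟩ <;> rw [hc] <;> omega
    · obtain ⟨hp2, hc⟩ := exceptional_facts p (Or.inr (Or.inr h))
      obtain ⟨h1, h2⟩ := hodd hp2
      have : 13 * 12 ≤ q * (q - 1) := Nat.mul_le_mul (by omega) (by omega)
      rw [h2]
      rcases hc with ⟨hc, -⟩ | ⟨hc, -⟩ | ⟨hc, -⟩ <;> rw [hc] <;> omega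
    · obtain ⟨he2, -, heq, hc, -⟩ := field_bounds p hH hE
      have hd2 : d ≤ 2 := Nat.le_of_dvd two_pos (Nat.gcd_dvd_left 2 _)
      calc d * Nat.card H ≤ 2 * (Nat.card E * (Nat.card E ^ 2 - 1)) := Nat.mul_le_mul hd2 hc
        _ = (2 * Nat.card E) * (Nat.card E ^ 2 - 1) := by ring
        _ ≤ q * (q - 1) := Nat.mul_le_mul ((Nat.mul_le_mul_right _ he2).trans heq)
            (Nat.sub_le_sub_right (by rw [sq]; exact heq) 1)
  have h1 : d * Nat.card H * H.index = q * (q - 1) * (q + 1) := by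
    rw [mul_assoc, Subgroup.card_mul_index, gcd_mul_card_PS, mul_assoc]
    congr 1
    rw [mul_comm]
    simpa using Nat.sq_sub_sq q 1
  refine Nat.le_of_mul_le_mul_left ?_ (show 0 < q * (q - 1) from
    Nat.mul_pos (by omega) (by omega))
  rw [← h1]
  exact Nat.mul_le_mul_right _ key

set_option maxHeartbeats 1000000 in
/-- A maximal dihedral subgroup of order `2(q+1)/d`. -/
theorem exists_maximal_dihedral_plus (hq : Fintype.card F ∉ ({2, 7, 9} : Finset ℕ)) :
    ∃ H : Subgroup (PS F), IsCoatom H ∧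
      Nonempty (H ≃* DihedralGroup ((Fintype.card F + 1) / Nat.gcd 2 (Fintype.card F - 1))) := by
  classical
  obtain ⟨p, hpF⟩ := CharP.exists F
  haveI : Fact p.Prime := ⟨CharP.char_is_prime F p⟩
  obtain ⟨hodd, heven, hq2⟩ := card_parity (F := F) p
  simp only [Finset.mem_insert, Finset.mem_singleton, not_or] at hq
  set q := Fintype.card F with hqdef
  set d := Nat.gcd 2 (q - 1) with hd
  obtain ⟨τ, hτ⟩ := CfsgLib.SL2Trace.exists_anisotropic_trace (F := F)
  have hτ4 : τ ^ 2 ≠ 4 := fun h => hτ (CfsgLib.SL2Trace.exists_root_of_sq_eq_four τ h)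
  obtain ⟨c, s, hc, hs, hsc, hout⟩ := exists_torus τ hτ4 (q + 1)
    ((CfsgLib.SL2Trace.card_centralizer_comp τ hτ4).2 hτ) (by omega)
  rw [← hqdef, ← hd] at hc
  obtain ⟨H, hcH, hsH, hHcard, he⟩ := exists_dihedral c s hs hsc hout
  rw [hc] at hHcard he
  refine ⟨H, ?_, he⟩
  obtain ⟨eH⟩ := he
  set n := (q + 1) / d with hn
  have hdn : d * n = q + 1 := by
    rcases gcd_two_sub q with ⟨h', hd'⟩ | ⟨h', h0 | hd'⟩
    · rw [hn, hd, hd']; omega
    · omega
    · rw [hn, hd, hd']; omega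
  have hn2 : 2 ≤ n := by
    rcases gcd_two_sub q with ⟨h', hd'⟩ | ⟨h', h0 | hd'⟩
    · rw [hd, hd'] at hdn; omega
    · omega
    · rw [hd, hd'] at hdn; omega
  have hG := gcd_mul_card_PS (F := F)
  have hsq : q ^ 2 - 1 = (q + 1) * (q - 1) := by simpa using Nat.sq_sub_sq q 1
  rw [← hqdef, ← hd, hsq] at hG
  have hdpos : 0 < d := Nat.gcd_pos_of_pos_left _ two_pos
  refine ⟨fun htop => ?_, fun K hK => ?_⟩
  · have h1 : 2 * (q + 1) = d * Nat.card (PS F) := by
      rw [← hdn, show d * (Nat.card (PS F)) = d * (2 * n) by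
        rw [← hHcard, htop, Subgroup.card_top]]
      ring
    rw [hG] at h1
    have h3 : 2 < q → False := fun h => by
      have h4 : (q + 1) * 6 ≤ (q + 1) * ((q - 1) * q) :=
        Nat.mul_le_mul_left _ (Nat.mul_le_mul (show 2 ≤ q - 1 by omega) (show 3 ≤ q by omega))
      rw [show q * ((q + 1) * (q - 1)) = (q + 1) * ((q - 1) * q) by ring] at h1
      omega
    exact h3 (by omega)
  · by_contra htop
    have hlt : Nat.card H < Nat.card K := lt_of_le_of_ne (Subgroup.card_le_of_le hK.le)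
      fun e => hK.ne (Subgroup.eq_of_le_of_card_ge hK.le e.ge)
    have hdvd : 2 * n ∣ Nat.card K := hHcard ▸ Subgroup.card_dvd_of_le hK.le
    have hord : ∀ m, (∀ g ∈ K, orderOf g ≤ m) → n ≤ m := fun m hm =>
      hc ▸ hm c (hK.le hcH)
    rcases classify_psl p K with h | ⟨k, -, -, hk, ⟨e⟩⟩ | ⟨-, y, hy⟩ | h | h | h | ⟨E, hE⟩
    · haveI := h.1
      exact dihedral_not_cyclic (by omega) eH (isCyclic_of_injective (Subgroup.inclusion hK.le)
        (Subgroup.inclusion_injective hK.le))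
    · rw [Nat.card_congr e.toEquiv, DihedralGroup.nat_card] at hdvd hlt
      have hnk : n ∣ k := Nat.dvd_of_mul_dvd_mul_left two_pos hdvd
      rcases hk with h | h
      · rw [← hd, ← hn] at h
        have := Nat.dvd_antisymm hnk h
        omega
      · rw [← hd] at h
        have h1 : d * n ∣ d * ((q - 1) / d) := Nat.mul_dvd_mul_left d (hnk.trans h)
        rw [hdn, Nat.mul_div_cancel' (Nat.gcd_dvd_right 2 (q - 1))] at h1
        have := Nat.le_of_dvd (by omega) h1
        omega
    · have hb := gcd_mul_card_pointStab y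
      have h1 : d * (2 * n) ∣ q * (q - 1) := hb ▸ Nat.mul_dvd_mul_left d
        (hdvd.trans (Subgroup.card_dvd_of_le fun g hg => hy g hg))
      rw [show d * (2 * n) = (d * n) * 2 by ring, hdn] at h1
      have h2 : q + 1 ∣ q - 1 := Nat.Coprime.dvd_of_dvd_mul_left (by simp)
        ((dvd_mul_right _ 2).trans h1)
      have := Nat.le_of_dvd (by omega) h2
      omega
    · obtain ⟨hp2, hc'⟩ := exceptional_facts p (Or.inl h)
      obtain ⟨hq1, hd2⟩ := hodd hp2
      rw [hd2] at hdn hG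
      obtain ⟨-, ⟨e⟩⟩ := h
      have h12 : Nat.card K = 12 := (Nat.card_congr e.toEquiv).trans card_alt_four
      have hn3 : n ≤ 3 := hord 3 (by
        rcases hc' with ⟨-, h⟩ | ⟨h, -⟩ | ⟨h, -⟩ <;> first | exact h | omega)
      rcases (show q = 3 ∨ q = 5 by omega) with hq' | hq'
      · exact htop (Subgroup.eq_top_of_le_card _ (by rw [hq'] at hG; omega))
      · have hn' : n = 3 := by omega
        have h1 : e ⟨c, hK.le hcH⟩ = 1 := by
          refine alt_four_no_inverted _ (e ⟨s, hK.le hsH⟩) ?_ ?_ ?_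
          · rw [← map_pow, map_eq_one_iff _ e.injective]
            exact Subtype.ext (orderOf_dvd_iff_pow_eq_one.mp (by rw [hc, hn']))
          · rw [← map_mul, map_eq_one_iff _ e.injective]
            exact Subtype.ext hs
          · rw [← map_inv, ← map_mul, ← map_mul, ← map_inv]
            exact congrArg e (Subtype.ext hsc)
        rw [map_eq_one_iff _ e.injective] at h1
        have : c = 1 := congrArg Subtype.val h1
        rw [this, orderOf_one] at hc
        omega
    · obtain ⟨hp2, hc'⟩ := exceptional_facts p (Or.inr (Or.inl h))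
      obtain ⟨hq1, hd2⟩ := hodd hp2
      rw [hd2] at hdn hG
      have h24 : Nat.card K = 24 := (Nat.card_congr h.2.some.toEquiv).trans card_sym_four
      have hn4 : n ≤ 4 := hord 4 (by
        rcases hc' with ⟨h, -⟩ | ⟨-, h⟩ | ⟨h, -⟩ <;> first | exact h | omega)
      have hd' : 24 ∣ Nat.card (PS F) := h24 ▸ Subgroup.card_subgroup_dvd_card K
      rcases (show q = 3 ∨ q = 5 by omega) with hq' | hq' <;> rw [hq'] at hG <;> omega
    · obtain ⟨hp2, hc'⟩ := exceptional_facts p (Or.inr (Or.inr h))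
      obtain ⟨hq1, hd2⟩ := hodd hp2
      rw [hd2] at hdn hG
      have h60 : Nat.card K = 60 := (Nat.card_congr h.2.some.toEquiv).trans card_alt_five
      have hn5 : n ≤ 5 := hord 5 (by
        rcases hc' with ⟨h, -⟩ | ⟨h, -⟩ | ⟨-, h⟩ <;> first | exact h | omega)
      have hd' : 60 ∣ Nat.card (PS F) := h60 ▸ Subgroup.card_subgroup_dvd_card K
      rcases (show q = 3 ∨ q = 5 by omega) with hq' | hq'
      · rw [hq'] at hG; omega
      · exact htop (Subgroup.eq_top_of_le_card _ (by rw [hq'] at hG; omega))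
    · obtain ⟨he2, he3, heq, -, ho⟩ := field_bounds p htop hE
      have hne := hord _ ho
      by_cases hp2 : p = 2
      · have hd1 : d = 1 := (heven hp2).2
        rw [hd1] at hdn
        have := Nat.mul_le_mul_right (Nat.card E) he2
        omega
      · have hd2 : d = 2 := (hodd hp2).2
        rw [hd2] at hdn
        have := Nat.mul_le_mul_right (Nat.card E) (he3 hp2)
        omega

set_option maxHeartbeats 1000000 in
/-- A maximal dihedral subgroup of order `2(q-1)/d`. -/
theorem exists_maximal_dihedral_minus (hq : Fintype.card F ∉ ({2, 3, 5, 7, 9, 11} : Finset ℕ)) :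
    ∃ H : Subgroup (PS F), IsCoatom H ∧
      Nonempty (H ≃* DihedralGroup ((Fintype.card F - 1) / Nat.gcd 2 (Fintype.card F - 1))) := by
  classical
  obtain ⟨p, hpF⟩ := CharP.exists F
  haveI : Fact p.Prime := ⟨CharP.char_is_prime F p⟩
  obtain ⟨hodd, heven, hq2⟩ := card_parity (F := F) p
  simp only [Finset.mem_insert, Finset.mem_singleton, not_or] at hq
  set q := Fintype.card F with hqdef
  set d := Nat.gcd 2 (q - 1) with hd
  obtain ⟨τ, hτ4, hτ⟩ := CfsgLib.SL2Trace.exists_isotropic_trace (F := F) (by omega)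
  obtain ⟨c, s, hc, hs, hsc, hout⟩ := exists_torus τ hτ4 (q - 1)
    ((CfsgLib.SL2Trace.card_centralizer_comp τ hτ4).1 hτ) rfl
  rw [← hqdef, ← hd] at hc
  obtain ⟨H, hcH, hsH, hHcard, he⟩ := exists_dihedral c s hs hsc hout
  rw [hc] at hHcard he
  refine ⟨H, ?_, he⟩
  obtain ⟨eH⟩ := he
  set n := (q - 1) / d with hn
  have hdn : d * n = q - 1 := Nat.mul_div_cancel' (Nat.gcd_dvd_right 2 (q - 1))
  have hd12 : d = 1 ∨ d = 2 := (Nat.dvd_prime Nat.prime_two).mp (Nat.gcd_dvd_left 2 _)
  have hn2 : 2 ≤ n := by rcases hd12 with h | h <;> rw [h] at hdn <;> omega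
  have hG := gcd_mul_card_PS (F := F)
  have hsq : q ^ 2 - 1 = (q + 1) * (q - 1) := by simpa using Nat.sq_sub_sq q 1
  rw [← hqdef, ← hd, hsq] at hG
  refine ⟨fun htop => ?_, fun K hK => ?_⟩
  · have h1 : 2 * (q - 1) = d * Nat.card (PS F) := by
      rw [← hdn, show d * (Nat.card (PS F)) = d * (2 * n) by
        rw [← hHcard, htop, Subgroup.card_top]]
      ring
    rw [hG] at h1
    have h4 : (q - 1) * 12 ≤ (q - 1) * ((q + 1) * q) :=
      Nat.mul_le_mul_left _ (Nat.mul_le_mul (show 3 ≤ q + 1 by omega) (show 4 ≤ q by omega))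
    rw [show q * ((q + 1) * (q - 1)) = (q - 1) * ((q + 1) * q) by ring] at h1
    omega
  · by_contra htop
    have hlt : Nat.card H < Nat.card K := lt_of_le_of_ne (Subgroup.card_le_of_le hK.le)
      fun e => hK.ne (Subgroup.eq_of_le_of_card_ge hK.le e.ge)
    have hdvd : 2 * n ∣ Nat.card K := hHcard ▸ Subgroup.card_dvd_of_le hK.le
    have hord : ∀ m, (∀ g ∈ K, orderOf g ≤ m) → n ≤ m := fun m hm =>
      hc ▸ hm c (hK.le hcH)
    have hexc : p ≠ 2 ∧ ((Nat.card K = 12 ∧ ∀ g ∈ K, orderOf g ≤ 3) ∨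
        (Nat.card K = 24 ∧ ∀ g ∈ K, orderOf g ≤ 4) ∨
        (Nat.card K = 60 ∧ ∀ g ∈ K, orderOf g ≤ 5)) → False := by
      rintro ⟨hp2, hc'⟩
      obtain ⟨hq1, hd2⟩ := hodd hp2
      rw [hd2] at hdn
      rcases hc' with ⟨-, h⟩ | ⟨-, h⟩ | ⟨-, h⟩ <;> have := hord _ h <;> omega
    rcases classify_psl p K with h | ⟨k, -, -, hk, ⟨e⟩⟩ | ⟨-, y, hy⟩ | h | h | h | ⟨E, hE⟩
    · haveI := h.1
      exact dihedral_not_cyclic (by omega) eH (isCyclic_of_injective (Subgroup.inclusion hK.le)
        (Subgroup.inclusion_injective hK.le))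
    · rw [Nat.card_congr e.toEquiv, DihedralGroup.nat_card] at hdvd hlt
      have hnk : n ∣ k := Nat.dvd_of_mul_dvd_mul_left two_pos hdvd
      rcases hk with h | h
      · rw [← hd] at h
        have hd' : d ∣ q + 1 := by
          rcases hd12 with hd' | hd' <;> rw [hd']
          · exact one_dvd _
          · rw [hd'] at hdn; omega
        have h1 : d * n ∣ d * ((q + 1) / d) := Nat.mul_dvd_mul_left d (hnk.trans h)
        rw [hdn, Nat.mul_div_cancel' hd', show q + 1 = (q - 1) + 2 by omega] at h1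
        have := Nat.le_of_dvd two_pos ((Nat.dvd_add_right dvd_rfl).mp h1)
        omega
      · rw [← hd, ← hn] at h
        have := Nat.dvd_antisymm hnk h
        omega
    · by_cases hp2 : p = 2
      · have hmem : ∀ g ∈ K, g * g = 1 → g ∈ pointUnip p y := fun g hg h =>
          ⟨hy g hg, by rw [hp2, pow_two]; exact h⟩
        have hcs : c * s * (c * s) = 1 := by
          have e1 : s * c * s = c⁻¹ := by
            rw [← hsc, inv_eq_of_mul_eq_one_right hs]
          rw [mul_assoc, ← mul_assoc s c s, e1, mul_inv_cancel]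
        have hc2 := pointUnip_mul p (hmem _ (K.mul_mem (hK.le hcH) (hK.le hsH)) hcs)
          (hmem s (hK.le hsH) hs)
        rw [mul_assoc, hs, mul_one] at hc2
        have h2 : n ∣ 2 := by
          have := orderOf_dvd_of_pow_eq_one hc2.2
          rwa [hc, hp2] at this
        have hd1 : d = 1 := (heven hp2).2
        rw [hd1] at hdn
        have := (heven hp2).1
        have := Nat.le_of_dvd two_pos h2
        omega
      · have hb := gcd_mul_card_pointStab y
        have h1 : d * (2 * n) ∣ q * (q - 1) := hb ▸ Nat.mul_dvd_mul_left d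
          (hdvd.trans (Subgroup.card_dvd_of_le fun g hg => hy g hg))
        rw [show d * (2 * n) = 2 * (d * n) by ring, hdn] at h1
        have := Nat.dvd_of_mul_dvd_mul_right (by omega) h1
        have := (hodd hp2).1
        omega
    · exact hexc (exceptional_facts p (Or.inl h))
    · exact hexc (exceptional_facts p (Or.inr (Or.inl h)))
    · exact hexc (exceptional_facts p (Or.inr (Or.inr h)))
    · obtain ⟨he2, he3, heq, hKc, ho⟩ := field_bounds p htop hE
      have hne := hord _ ho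
      by_cases hp2 : p = 2
      · have hd1 : d = 1 := (heven hp2).2
        rw [hd1] at hdn
        have he : Nat.card E = 2 := by
          by_contra hne2
          have := Nat.mul_le_mul_right (Nat.card E) (show 3 ≤ Nat.card E by omega)
          omega
        rw [he] at hKc hne heq
        rw [show 2 * (2 ^ 2 - 1) = 6 from rfl] at hKc
        omega
      · have hd2 : d = 2 := (hodd hp2).2
        rw [hd2] at hdn
        have he : Nat.card E = 3 := by
          have := he3 hp2
          by_contra hne2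
          have := Nat.mul_le_mul_right (Nat.card E) (show 4 ≤ Nat.card E by omega)
          omega
        rw [he] at hne
        omega

end CfsgLib.PSL2Sub
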