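import Cfsg.Agent.Lib.PSL2Sub.Polyhedral
import Cfsg.Agent.Lib.PSL2Sub.Maximal

/-!
When `PSL₂(q)` contains `A₄`, `S₄`, `A₅`, and how it contains `PSL₂` and `PGL₂` of a subfield.
-/

set_option autoImplicit false
set_option linter.unusedSectionVars false

namespace CfsgLib.PSL2Sub

open Matrix

variable {F : Type*} [Field F] [Fintype F]

theorem exists_trace_five (h : 5 ∣ Fintype.card F * (Fintype.card F ^ 2 - 1)) :
    ∃ τ : F, τ ^ 2 + τ = 1 := by
  by_cases h5 : (5 : F) = 0
  · exact ⟨2, by linear_combination h5⟩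
  haveI : Fact (Nat.Prime 5) := ⟨Nat.prime_five⟩
  obtain ⟨M, hM⟩ := exists_prime_orderOf_dvd_card' (G := SpecialLinearGroup (Fin 2) F) 5
    (by rw [Linear.card_SL_two]; exact h)
  set τ := (M : Matrix (Fin 2) (Fin 2) F).trace with hτ
  set A := (M : Matrix (Fin 2) (Fin 2) F) with hA
  have h2 : A * A = τ • A - 1 := CfsgLib.SL2Trace.mul_self_eq M
  have h3 : A * A * A = (τ ^ 2 - 1) • A - τ • 1 := by
    rw [h2, sub_mul, one_mul, smul_mul_assoc, h2, smul_sub, smul_smul, sub_smul, one_smul, pow_two]
    abel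
  have h5' : A * A * A * (A * A) =
      (τ ^ 4 - 3 * τ ^ 2 + 1) • A - (τ ^ 3 - 2 * τ) • (1 : Matrix (Fin 2) (Fin 2) F) := by
    rw [h3, h2]
    have e : ((τ ^ 2 - 1) • A - τ • (1 : Matrix (Fin 2) (Fin 2) F)) * (τ • A - 1) =
        ((τ ^ 2 - 1) * τ) • (A * A) - (τ ^ 2 - 1) • A - (τ * τ) • A + τ • 1 := by
      simp only [sub_mul, mul_sub, smul_mul_assoc, mul_smul_comm, one_mul, mul_one, smul_sub,
        smul_smul, mul_comm τ]
      abel
    rw [e, h2]
    ext i j
    simp only [Matrix.sub_apply, Matrix.add_apply, Matrix.smul_apply, smul_eq_mul]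
    ring
  have h1 : A * A * A * (A * A) = 1 := by
    have e : M * M * M * (M * M) = 1 := by
      rw [show M * M * M * (M * M) = M ^ 5 by simp only [pow_succ, pow_zero, one_mul, mul_assoc],
        ← hM, pow_orderOf_eq_one]
    exact congrArg Subtype.val e
  by_cases ha : τ ^ 4 - 3 * τ ^ 2 + 1 = 0
  · have : (τ ^ 2 + τ - 1) * ((-τ) ^ 2 + (-τ) - 1) = 0 := by linear_combination ha
    rcases mul_eq_zero.mp this with e | e
    · exact ⟨τ, by linear_combination e⟩
    · exact ⟨-τ, by linear_combination e⟩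
  · exfalso
    rw [h5'] at h1
    have hA' : A = Matrix.scalar (Fin 2) ((1 + (τ ^ 3 - 2 * τ)) / (τ ^ 4 - 3 * τ ^ 2 + 1)) := by
      ext i j
      have := congrFun (congrFun h1 i) j
      simp only [Matrix.sub_apply, Matrix.smul_apply, smul_eq_mul, Matrix.one_apply] at this
      rw [Matrix.scalar_apply, Matrix.diagonal_apply]
      by_cases hij : i = j <;> simp only [hij, if_true, if_false] at this ⊢
      · rw [eq_div_iff ha]; linear_combination this
      · rw [mul_zero, sub_zero] at this
        exact (mul_eq_zero.mp this).resolve_left ha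
    have hc := CfsgLib.SL2Trace.mul_self_eq_one_of_mem_center
      (CfsgLib.SL2Trace.mem_center_of_scalar (M := M) _ hA')
    rw [← pow_two] at hc
    have := orderOf_dvd_of_pow_eq_one hc
    rw [hM] at this
    omega

theorem alt_five_has_tetrahedral_pair :
    ∃ a b : alternatingGroup (Fin 5), a ^ 3 = 1 ∧ b ^ 3 = 1 ∧ (a * b) ^ 2 = 1 ∧ a * b ≠ 1 := by
  decide +kernel

/-- `A₅` contains `A₄`. -/
theorem alt_four_into_alt_five :
    ∃ f : alternatingGroup (Fin 4) →* alternatingGroup (Fin 5), Function.Injective f := by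
  obtain ⟨a, b, ha, hb, hab, hwords, hmin⟩ := alt_four_pair
  obtain ⟨x, y, hx, hy, hxy, hne⟩ := alt_five_has_tetrahedral_pair
  have hgen : Subgroup.closure {a, b} = ⊤ := by
    rw [eq_top_iff]
    intro g _
    obtain ⟨i, j, l, rfl⟩ := hwords g
    exact mul_mem (mul_mem (pow_mem (Subgroup.subset_closure (by simp)) _)
      (pow_mem (Subgroup.subset_closure (by simp)) _)) (pow_mem (Subgroup.subset_closure (by simp)) _)
  obtain ⟨f, hfa, hfb⟩ := exists_hom_of_bound (x := x) (y := y) hgen (fun Γ u v hu hv htop => by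
      refine (tetrahedral_card_le u v ?_ ?_ ?_ htop).imp id fun h => ?_
      · exact Subtype.ext (by rw [Subgroup.coe_pow, hu, Prod.pow_mk, hx, ha]; rfl)
      · exact Subtype.ext (by rw [Subgroup.coe_pow, hv, Prod.pow_mk, hy, hb]; rfl)
      · exact Subtype.ext (by
          rw [Subgroup.coe_pow, Subgroup.coe_mul, hu, hv, Prod.mk_mul_mk, Prod.pow_mk, hxy, hab]
          rfl)
      · exact h.trans card_alt_four.ge)
  refine ⟨f, (injective_iff_map_eq_one f).mpr fun g hg => ?_⟩
  rcases hmin g with h | ⟨h₁, h₂, h⟩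
  · exact h
  · exfalso
    apply hne
    rw [← hfa, ← hfb, ← map_mul, ← h]
    simp [hg]

/-- `PSL₂(q)` contains `A₄` unless `q` is an odd power of two. -/
theorem alt_four_iff (p n : ℕ) [Fact p.Prime] [CharP F p] (hF : Fintype.card F = p ^ n) :
    (∃ H : Subgroup (PS F), Nonempty (H ≃* alternatingGroup (Fin 4))) ↔ ¬ (p = 2 ∧ Odd n) := by
  classical
  constructor
  · rintro ⟨H, ⟨e⟩⟩ ⟨hp, hn⟩
    subst hp
    have hq := (card_parity (F := F) 2).2.1 rfl
    have h12 : Nat.card H = 12 := (Nat.card_congr e.toEquiv).trans card_alt_four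
    have h2 : 2 ∣ Nat.card H := by rw [h12]; norm_num
    obtain ⟨j, rfl⟩ := hn
    have h3 : ¬ 3 ∣ Fintype.card F * (Fintype.card F - 1) := by
      have h2q : Fintype.card F % 3 = 2 := by
        rw [hF, pow_succ, pow_mul, Nat.mul_mod, Nat.pow_mod]
        norm_num
      intro h
      rcases (Nat.Prime.dvd_mul Nat.prime_three).mp h with h | h <;> omega
    rcases classify_psl 2 H with h | ⟨k, -, hk, -, ⟨e'⟩⟩ | ⟨-, y, hy⟩ | h | h | h | ⟨E, hE⟩
    · exact h.2.1 h2
    · have := (Nat.card_congr e'.toEquiv).trans DihedralGroup.nat_card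
      omega
    · have hd := Subgroup.card_dvd_of_le (show H ≤ pointStab y from fun g hg => hy g hg)
      rw [h12] at hd
      have h4 := gcd_mul_card_pointStab (F := F) y
      rw [hq.2, one_mul] at h4
      exact h3 (h4 ▸ (show 3 ∣ 12 by norm_num).trans hd)
    · exact h.1 h2
    · exact h.1 h2
    · exact h.1.elim (fun h' => h' h2) (fun h' => absurd h' (by norm_num))
    · rcases hE with ⟨⟨e'⟩⟩ | ⟨h', -⟩
      · letI := Fintype.ofFinite E
        have hc := Nat.card_congr e'.toEquiv
        rw [h12, Linear.card_PGL, Linear.card_SL_two] at hc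
        have hE2 : 2 ≤ Fintype.card E := Fintype.one_lt_card
        have hle : Fintype.card E < 3 := by
          by_contra hge
          have := Nat.mul_le_mul (show 3 ≤ Fintype.card E by omega)
            (Nat.sub_le_sub_right (Nat.pow_le_pow_left (show 3 ≤ Fintype.card E by omega) 2) 1)
          omega
        interval_cases (Fintype.card E)
        omega
      · exact h' rfl
  · intro h
    by_cases hp : p = 2
    · have hn : Even n := Nat.not_odd_iff_even.mp fun hn => h ⟨hp, hn⟩
      obtain ⟨j, rfl⟩ := hn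
      obtain ⟨τ, hτ⟩ := exists_trace_five (F := F) (by
        refine Dvd.dvd.mul_left ?_ _
        rw [hF, hp, ← pow_mul, show (j + j) * 2 = 4 * j by ring, pow_mul]
        simpa using Nat.sub_dvd_pow_sub_pow (2 ^ 4) 1 j |> (dvd_trans (by norm_num : 5 ∣ 2 ^ 4 - 1)))
      obtain ⟨H, ⟨e⟩⟩ := exists_alt_five τ hτ
      obtain ⟨f, hf⟩ := alt_four_into_alt_five
      let g : alternatingGroup (Fin 4) →* PS F :=
        (H.subtype.comp e.symm.toMonoidHom).comp f
      have hg : Function.Injective g :=
        (H.subtype_injective.comp e.symm.injective).comp hf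
      exact ⟨g.range, ⟨(MonoidHom.ofInjective hg).symm⟩⟩
    · refine exists_alt_four (Ring.two_ne_zero ?_)
      rw [ringChar.eq F p]
      exact hp

theorem two_ne_zero_of_card_odd (h : Fintype.card F % 2 = 1) : (2 : F) ≠ 0 :=
  Ring.two_ne_zero fun hc => by
    have := FiniteField.even_card_of_char_two hc
    omega

/-- `PSL₂(q)` contains `S₄` exactly when `q ≡ ±1 (mod 8)`. -/
theorem sym_four_iff :
    (∃ H : Subgroup (PS F), Nonempty (H ≃* Equiv.Perm (Fin 4))) ↔
      Fintype.card F ^ 2 % 16 = 1 := by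
  classical
  have hiff : Fintype.card F ^ 2 % 16 = 1 ↔ Fintype.card F % 8 = 1 ∨ Fintype.card F % 8 = 7 := by
    have h1 : Fintype.card F ^ 2 % 16 = (Fintype.card F % 16) ^ 2 % 16 := Nat.pow_mod _ 2 16
    rw [h1]
    have h2 : Fintype.card F % 8 = Fintype.card F % 16 % 8 := (Nat.mod_mod_of_dvd _ (by norm_num)).symm
    rw [h2]
    have : Fintype.card F % 16 < 16 := Nat.mod_lt _ (by norm_num)
    interval_cases Fintype.card F % 16 <;> norm_num
  rw [hiff]
  constructor
  · rintro ⟨H, ⟨e⟩⟩
    obtain ⟨p, hpF⟩ := CharP.exists F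
    haveI : Fact p.Prime := ⟨CharP.char_is_prime F p⟩
    obtain ⟨g, hg⟩ : ∃ g : Equiv.Perm (Fin 4), g ^ 4 = 1 ∧ g ^ 2 ≠ 1 := by decide +kernel
    set x : PS F := (e.symm g : PS F) with hx
    have hord : orderOf x = 4 := by
      rw [hx, Subgroup.orderOf_coe, MulEquiv.orderOf_eq]
      exact orderOf_eq_prime_pow (p := 2) (n := 1) (by simpa using hg.2) (by simpa using hg.1)
    rcases gcd_two_sub (Fintype.card F) with ⟨hq, hd⟩ | ⟨hq, hd⟩
    · rcases CfsgLib.SL2Trace.psl_pow_cases p x with h | h | h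
      · have := orderOf_dvd_of_pow_eq_one h
        rw [hord] at this
        rcases (Nat.dvd_prime (Fact.out : p.Prime)).mp this with h' | h'
        · omega
        · exact absurd (h' ▸ (Fact.out : p.Prime)) (by norm_num)
      all_goals
        have := orderOf_dvd_of_pow_eq_one h
        rw [hord, hd] at this
        omega
    · exfalso
      have hd1 : Nat.gcd 2 (Fintype.card F - 1) = 1 :=
        hd.resolve_left Fintype.card_pos.ne'
      rcases CfsgLib.SL2Trace.psl_pow_cases p x with h | h | h
      · have := orderOf_dvd_of_pow_eq_one h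
        rw [hord] at this
        rcases (Nat.dvd_prime (Fact.out : p.Prime)).mp this with h' | h'
        · omega
        · exact absurd (h' ▸ (Fact.out : p.Prime)) (by norm_num)
      all_goals
        have := orderOf_dvd_of_pow_eq_one h
        rw [hord, hd1, Nat.div_one] at this
        have := Fintype.card_pos (α := F)
        omega
  · intro h
    have h2 : (2 : F) ≠ 0 := two_ne_zero_of_card_odd (by omega)
    obtain ⟨τ, hτ⟩ := (FiniteField.isSquare_two_iff (F := F)).mpr (by omega)
    exact exists_sym_four h2 τ (by rw [hτ, pow_two])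

/-- `PSL₂(q)` contains `A₅` exactly when five divides its order. -/
theorem alt_five_iff :
    (∃ H : Subgroup (PS F), Nonempty (H ≃* alternatingGroup (Fin 5))) ↔
      5 ∣ Fintype.card F * (Fintype.card F ^ 2 - 1) := by
  constructor
  · rintro ⟨H, ⟨e⟩⟩
    rw [← gcd_mul_card_PS]
    exact ((show 5 ∣ 60 by norm_num).trans
      (((Nat.card_congr e.toEquiv).trans card_alt_five) ▸ H.card_subgroup_dvd_card)).mul_left _
  · intro h
    obtain ⟨τ, hτ⟩ := exists_trace_five h
    exact exists_alt_five τ hτ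

section Subfield

variable {K : Type*} [Field K] [Fintype K]

/-- A field embeds in a larger one whose order is a power of its order. -/
theorem exists_ringHom (m : ℕ) (hm : 1 ≤ m) (hK : Fintype.card K ^ m = Fintype.card F) :
    Nonempty (K →+* F) := by
  obtain ⟨p, hpK⟩ := CharP.exists K
  haveI : Fact p.Prime := ⟨CharP.char_is_prime K p⟩
  obtain ⟨r, hrF⟩ := CharP.exists F
  haveI : Fact r.Prime := ⟨CharP.char_is_prime F r⟩
  obtain ⟨a, -, ha⟩ := FiniteField.card K p
  obtain ⟨b, -, hb⟩ := FiniteField.card F r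
  obtain rfl : r = p := by
    have : r ∣ p ^ ((a : ℕ) * m) := by
      rw [pow_mul, ← ha, hK, hb]
      exact dvd_pow_self r b.ne_zero
    exact (Nat.prime_dvd_prime_iff_eq Fact.out Fact.out).mp ((Fact.out : r.Prime).dvd_of_dvd_pow this)
  letI : Algebra (ZMod r) K := ZMod.algebra _ _
  letI : Algebra (ZMod r) F := ZMod.algebra _ _
  have h : Module.finrank (ZMod r) K ∣ Module.finrank (ZMod r) F := by
    refine ⟨m, Nat.pow_right_injective (Fact.out : r.Prime).two_le ?_⟩
    show r ^ Module.finrank (ZMod r) F = r ^ (Module.finrank (ZMod r) K * m)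
    rw [FiniteField.pow_finrank_eq_card, pow_mul, FiniteField.pow_finrank_eq_card, hK]
  exact (FiniteField.nonempty_algHom_of_finrank_dvd h).map fun f => f.toRingHom

/-- A subgroup of `PSL₂` isomorphic to a group mapping into its image. -/
theorem exists_subgroup_equiv {L : Type*} [Group L] (φ : L →* PG F) (hφ : Function.Injective φ)
    (h : φ.range ≤ (toPG : PS F →* PG F).range) : ∃ H : Subgroup (PS F), Nonempty (H ≃* L) :=
  ⟨φ.range.comap toPG, ⟨(((φ.range.comap toPG).equivMapOfInjective _ toPG_injective).trans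
    (MulEquiv.subgroupCongr (Subgroup.map_comap_eq_self h))).trans (MonoidHom.ofInjective hφ).symm⟩⟩

theorem exists_psl_subfield (f : K →+* F) : ∃ H : Subgroup (PS F), Nonempty (H ≃* PS K) := by
  classical
  refine exists_subgroup_equiv ((ProjGenLinGroup.map (n := Fin 2) f).comp toPG)
    ((map_injective_pgl f).comp toPG_injective) ?_
  rintro _ ⟨g, rfl⟩
  induction g using QuotientGroup.induction_on with
  | H g => exact ⟨QuotientGroup.mk (SpecialLinearGroup.map f g), (pg_map_toPGL f g).symm⟩

theorem pgl_subfield_le_range (f : K →+* F) (m : ℕ) (hK : Fintype.card K ^ m = Fintype.card F)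
    (hodd : Fintype.card F % 2 = 1) (heven : Even m) :
    (ProjGenLinGroup.map (n := Fin 2) f).range ≤ (toPG : PS F →* PG F).range := by
  classical
  rintro _ ⟨g, rfl⟩
  induction g using ProjGenLinGroup.induction_on with
  | mk a =>
    set δ : K := (a : Matrix (Fin 2) (Fin 2) K).det with hδ
    have hδ0 : δ ≠ 0 := a.det_ne_zero
    have hdvd : Fintype.card K - 1 ∣ Fintype.card F / 2 := by
      obtain ⟨j, rfl⟩ := heven
      have h1 : Fintype.card K ^ 2 - 1 ∣ Fintype.card F - 1 := by
        have := Nat.sub_dvd_pow_sub_pow (Fintype.card K ^ 2) 1 j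
        rwa [one_pow, ← pow_mul, two_mul, hK] at this
      have hk : Fintype.card K % 2 = 1 := by
        by_contra hk
        have : 2 ∣ Fintype.card F := hK ▸ dvd_pow (by omega) (fun h0 => by
          rw [h0, pow_zero] at hK
          exact absurd hK.symm Fintype.one_lt_card.ne')
        omega
      have h2 : 2 * (Fintype.card K - 1) ∣ Fintype.card K ^ 2 - 1 := by
        rw [show Fintype.card K ^ 2 - 1 = (Fintype.card K + 1) * (Fintype.card K - 1) by
          simpa using Nat.sq_sub_sq (Fintype.card K) 1]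
        exact Nat.mul_dvd_mul (by omega) dvd_rfl
      obtain ⟨c, hc⟩ := h2.trans h1
      exact ⟨c, by rw [mul_assoc] at hc; omega⟩
    obtain ⟨r, hr⟩ : IsSquare (f δ) := by
      rw [FiniteField.isSquare_iff (fun h => by
        have := FiniteField.even_card_of_char_two h; omega) ((map_ne_zero f).mpr hδ0), ← map_pow]
      obtain ⟨c, hc⟩ := hdvd
      rw [hc, pow_mul, FiniteField.pow_card_sub_one_eq_one δ hδ0, one_pow, map_one]
    have hr0 : r ≠ 0 := fun h0 => by
      rw [h0, mul_zero, map_eq_zero] at hr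
      exact hδ0 hr
    set b : GL (Fin 2) F := GeneralLinearGroup.map f a with hb
    have hdetb : (b : Matrix (Fin 2) (Fin 2) F).det = r * r := by
      rw [← hr, hδ, RingHom.map_det]
      rfl
    let s : SpecialLinearGroup (Fin 2) F := ⟨r⁻¹ • (b : Matrix (Fin 2) (Fin 2) F), by
      rw [det_smul, Fintype.card_fin, hdetb]
      field_simp⟩
    refine ⟨QuotientGroup.mk s, ?_⟩
    show ProjGenLinGroup.mk (SpecialLinearGroup.toGL s) = ProjGenLinGroup.map f (ProjGenLinGroup.mk a)
    rw [ProjGenLinGroup.map_mk, ← hb]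
    have : SpecialLinearGroup.toGL s = GeneralLinearGroup.scalar (Fin 2) (Units.mk0 r⁻¹ (inv_ne_zero hr0)) * b := by
      apply Units.ext
      rw [Units.val_mul, GeneralLinearGroup.coe_scalar, Units.val_mk0, Matrix.scalar_apply,
        ← Matrix.smul_eq_diagonal_mul]
      rfl
    rw [this, map_mul, show (ProjGenLinGroup.mk (GeneralLinearGroup.scalar (Fin 2)
        (Units.mk0 r⁻¹ (inv_ne_zero hr0))) : PG F) = 1 from ProjGenLinGroup.mk_eq_one.mpr
      (by rw [GeneralLinearGroup.center_eq_range_scalar]; exact ⟨_, rfl⟩), one_mul]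

theorem exists_pgl_subfield (f : K →+* F) (m : ℕ) (hK : Fintype.card K ^ m = Fintype.card F)
    (hodd : Fintype.card F % 2 = 1) (heven : Even m) :
    ∃ H : Subgroup (PS F), Nonempty (H ≃* PG K) :=
  by
    classical
    exact exists_subgroup_equiv (ProjGenLinGroup.map (n := Fin 2) f) (map_injective_pgl f)
      (pgl_subfield_le_range f m hK hodd heven)

theorem even_of_pgl_subfield (m : ℕ) (hK : Fintype.card K ^ m = Fintype.card F)
    (hodd : Fintype.card F % 2 = 1) (H : Subgroup (PS F)) (e : H ≃* PG K) : Even m := by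
  classical
  by_contra hm
  obtain ⟨j, rfl⟩ := Nat.not_even_iff_odd.mp hm
  set k := Fintype.card K with hk
  obtain ⟨p, hpF⟩ := CharP.exists F
  haveI : Fact p.Prime := ⟨CharP.char_is_prime F p⟩
  have hk2 : k % 2 = 1 := by
    by_contra hk'
    have : 2 ∣ Fintype.card F := hK ▸ dvd_pow (by omega) (by omega)
    omega
  have hk3 : 3 ≤ k := by have := Fintype.one_lt_card (α := K); omega
  have hp2 : p ≠ 2 := fun h => by
    have := ((card_parity (F := F) p).2.1 h).1
    omega
  have hd : Nat.gcd 2 (Fintype.card F - 1) = 2 := ((card_parity (F := F) p).1 hp2).2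
  have key : ¬ 2 * (k - 1) ∣ Fintype.card F - 1 := by
    intro h
    have h1 : k ^ 2 - 1 ∣ (k ^ 2) ^ j - 1 := by simpa using Nat.sub_dvd_pow_sub_pow (k ^ 2) 1 j
    have h2 : 2 * (k - 1) ∣ k ^ 2 - 1 := by
      rw [show k ^ 2 - 1 = (k + 1) * (k - 1) by simpa using Nat.sq_sub_sq k 1]
      exact Nat.mul_dvd_mul (by omega) dvd_rfl
    have h3 : k ^ (2 * j + 1) - 1 = k * ((k ^ 2) ^ j - 1) + (k - 1) := by
      rw [pow_succ, pow_mul, Nat.mul_sub, mul_one, mul_comm]
      have : k ≤ k * (k ^ 2) ^ j := Nat.le_mul_of_pos_right _ (pow_pos (by positivity) _)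
      omega
    rw [← hK, h3] at h
    have := Nat.le_of_dvd (by omega) ((Nat.dvd_add_right ((h2.trans h1).mul_left k)).mp h)
    omega
  have horder : ∀ y : PG K, orderOf y ∣ p ∨ orderOf y ∣ (Fintype.card F - 1) / 2 ∨
      orderOf y ∣ (Fintype.card F + 1) / 2 := by
    intro y
    rw [← MulEquiv.orderOf_eq e.symm y, ← Subgroup.orderOf_coe]
    rcases CfsgLib.SL2Trace.psl_pow_cases p (e.symm y : PS F) with h | h | h
    · exact Or.inl (orderOf_dvd_of_pow_eq_one h)
    · exact Or.inr (Or.inl (orderOf_dvd_of_pow_eq_one (by rwa [hd] at h)))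
    · exact Or.inr (Or.inr (orderOf_dvd_of_pow_eq_one (by rwa [hd] at h)))
  obtain ⟨u, hu⟩ := IsCyclic.exists_ofOrder_eq_natCard (α := Kˣ)
  let φ : Kˣ →* PG K := MonoidHom.mk' (fun u => aff u (0 : K))
    (fun a b => by rw [aff_mul, mul_zero, zero_add])
  have hφ : orderOf (φ u) = k - 1 := by
    rw [orderOf_injective φ (fun a b h => (aff_injective h).1), hu, Nat.card_eq_fintype_card,
      Fintype.card_units]
  have hodd' : p % 2 = 1 := Nat.odd_iff.mp ((Fact.out : p.Prime).odd_of_ne_two hp2)
  rcases horder (φ u) with h | h | h <;> rw [hφ] at h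
  · have : 2 ∣ p := (show 2 ∣ k - 1 by omega).trans h
    omega
  · exact key (by
      have := Nat.mul_dvd_mul_left 2 h
      rwa [Nat.mul_div_cancel' (show 2 ∣ Fintype.card F - 1 by omega)] at this)
  · have h1 : k - 1 ∣ Fintype.card F - 1 := by
      have := Nat.sub_dvd_pow_sub_pow k 1 (2 * j + 1)
      rwa [one_pow, hK] at this
    have h2 : k - 1 ∣ Fintype.card F + 1 := h.trans (Nat.div_dvd_of_dvd (by omega))
    rw [show Fintype.card F + 1 = (Fintype.card F - 1) + 2 by omega] at h2
    have hk' : k = 3 := by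
      have := Nat.le_of_dvd two_pos ((Nat.dvd_add_right h1).mp h2)
      omega
    have c3 : (3 : K) = 0 := by
      have := FiniteField.cast_card_eq_zero K
      rw [← hk, hk'] at this
      exact_mod_cast this
    have h2K : (2 : K) ≠ 0 := fun h => one_ne_zero (by linear_combination c3 - h : (1 : K) = 0)
    have hdet : (1 : K) * 1 - 1 * (-1) ≠ 0 := fun h => h2K (by linear_combination h)
    set y : PG K := ProjGenLinGroup.mk (mkMat 1 1 (-1) 1 hdet) with hy
    have hy4 : orderOf y = 4 := by
      refine orderOf_eq_prime_pow (p := 2) (n := 1) ?_ ?_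
      · rw [pow_one, hy, ← map_pow, ProjGenLinGroup.mk_eq_one,
          GeneralLinearGroup.center_eq_range_scalar]
        rintro ⟨c, hc⟩
        have := congrArg (fun g : GL (Fin 2) K => (g : Matrix (Fin 2) (Fin 2) K) 0 1) hc
        simp [GeneralLinearGroup.coe_scalar, pow_two, coe_mkMat, Matrix.mul_apply,
          Fin.sum_univ_two] at this
        exact h2K (by linear_combination -this)
      · rw [show (2 : ℕ) ^ (1 + 1) = 4 from rfl, hy, ← map_pow, ProjGenLinGroup.mk_eq_one,
          GeneralLinearGroup.center_eq_range_scalar]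
        refine ⟨Units.mk0 (-4) (fun h => h2K (pow_eq_zero_iff two_ne_zero |>.mp
          (by linear_combination -h : (2 : K) ^ 2 = 0))), ?_⟩
        apply Units.ext
        rw [Units.val_pow_eq_pow_val, GeneralLinearGroup.coe_scalar, Units.val_mk0, coe_mkMat]
        ext i j
        fin_cases i <;> fin_cases j <;>
          simp [pow_succ, Matrix.mul_apply, Fin.sum_univ_two] <;> ring
    have hq8 : Fintype.card F % 8 = 3 := by
      rw [← hK, hk', pow_succ, pow_mul, Nat.mul_mod, Nat.pow_mod]
      norm_num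
    rcases horder y with h | h | h <;> rw [hy4] at h <;> omega

end Subfield

end CfsgLib.PSL2Sub
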