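import Cfsg.Agent.Lib.PSL2Sub.Existence
import Cfsg.Agent.Lib.Linear.Simple
import Cfsg.Prelude.Def_CaseTheorems

/-! The minimal simple groups among the `PSL₂(q)`. -/

set_option autoImplicit false
set_option linter.unusedSectionVars false

namespace CfsgLib.PSL2Sub

open Matrix OnePoint

theorem isSolvable_of_abelian_ker {A B : Type*} [Group A] [CommGroup B] (f : A →* B)
    (h : ∀ a b : A, f a = 1 → f b = 1 → a * b = b * a) : Group.IsSolvable A := by
  letI : CommGroup f.ker :=
    { (inferInstance : Group f.ker) with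
      mul_comm := fun a b => Subtype.ext (h a b a.2 b.2) }
  exact Group.isSolvable_of_ker_le_range f.ker.subtype f (by rw [Subgroup.range_subtype])

/-- Dihedral groups are soluble. -/
theorem isSolvable_dihedral (k : ℕ) : Group.IsSolvable (DihedralGroup k) := by
  let χ : DihedralGroup k →* ℤˣ :=
    { toFun := fun
        | .r _ => 1
        | .sr _ => -1
      map_one' := rfl
      map_mul' := by rintro (a | a) (b | b) <;> simp }
  refine isSolvable_of_abelian_ker χ ?_
  rintro (a | a) (b | b) ha hb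
  · simp [add_comm]
  all_goals exfalso
  · exact absurd (show (-1 : ℤˣ) = 1 from hb) (by decide)
  · exact absurd (show (-1 : ℤˣ) = 1 from ha) (by decide)
  · exact absurd (show (-1 : ℤˣ) = 1 from ha) (by decide)

variable {F : Type*} [Field F] [Fintype F] [DecidableEq F]

/-- Point stabilisers in `PSL₂(q)` are soluble. -/
theorem isSolvable_pointStab (y : OnePoint F) : Group.IsSolvable (pointStab y) := by
  obtain ⟨g, rfl⟩ := exists_smul_infty y
  obtain ⟨μ, hμ⟩ := exists_multiplier g
  let ι : pointStab (g • (∞ : OnePoint F)) →*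
      MulAction.stabilizer (PG F) (g • (∞ : OnePoint F)) :=
    MonoidHom.mk' (fun h => ⟨toPG (h : PS F), h.2⟩)
      (fun a b => Subtype.ext (map_mul toPG (a : PS F) b))
  refine isSolvable_of_abelian_ker (μ.comp ι) ?_
  intro a b ha hb
  have key : ∀ h : pointStab (g • (∞ : OnePoint F)), (μ.comp ι) h = 1 →
      ∃ t : F, toPG (h : PS F) = g * aff 1 t * g⁻¹ := by
    intro h hh
    obtain ⟨t, ht⟩ := hμ (ι h)
    rw [MonoidHom.comp_apply] at hh
    rw [hh] at ht
    refine ⟨t, ?_⟩
    rw [← ht]
    show toPG (h : PS F) = g * (g⁻¹ * toPG (h : PS F) * g) * g⁻¹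
    group
  obtain ⟨s, hs⟩ := key a ha
  obtain ⟨t, ht⟩ := key b hb
  refine Subtype.ext (toPG_injective ?_)
  rw [Subgroup.coe_mul, Subgroup.coe_mul, map_mul, map_mul, hs, ht]
  calc g * aff 1 s * g⁻¹ * (g * aff 1 t * g⁻¹) = g * (aff 1 s * aff 1 t) * g⁻¹ := by group
    _ = g * (aff 1 t * aff 1 s) * g⁻¹ := by
      rw [aff_mul, aff_mul, Units.val_one, one_mul, one_mul, one_mul, add_comm]
    _ = g * aff 1 t * g⁻¹ * (g * aff 1 s * g⁻¹) := by group

theorem isSolvable_small {G : Type*} [Group G] [Finite G] {a b : ℕ}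
    (h : Nat.card G = 2 ^ a * 3 ^ b) : Group.IsSolvable G :=
  CfsgLib.Char.isSolvable_of_card_eq_prime_pow_mul Nat.prime_two Nat.prime_three h

theorem alt_five_not_solvable {G : Type*} [Group G] (e : G ≃* alternatingGroup (Fin 5)) :
    ¬ Group.IsSolvable G := by
  intro h
  haveI := h
  haveI : Group.IsSolvable (alternatingGroup (Fin 5)) :=
    Group.isSolvable_of_surjective (f := e.toMonoidHom) e.surjective
  haveI : IsSimpleGroup (alternatingGroup (Fin 5)) := alternatingGroup.isSimpleGroup_five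
  have hc := (IsSimpleGroup.comm_iff_isSolvable (G := alternatingGroup (Fin 5))).mpr inferInstance
  obtain ⟨a, b, -, -, hab, -⟩ := CfsgLib.Present.ico_pair
  obtain ⟨c, d, hcd⟩ : ∃ c d : alternatingGroup (Fin 5), c * d ≠ d * c := by decide +kernel
  exact hcd (hc c d)

theorem psl_not_solvable {K : Type*} [Field K] [Finite K] (h4 : 4 ≤ Nat.card K) :
    ¬ Group.IsSolvable (PS K) := by
  classical
  letI := Fintype.ofFinite K
  intro h
  haveI := CfsgLib.Linear.isSimpleGroup_PSL_fin (F := K) 2 le_rfl (fun _ => h4)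
  have hc := (IsSimpleGroup.comm_iff_isSolvable (G := PS K)).mpr h
  let P := pointStab (∞ : OnePoint K)
  have hidx : P.index = Fintype.card K + 1 := index_pointStab _
  have hn : P.Normal := ⟨fun a ha g => by rw [hc g a, mul_inv_cancel_right]; exact ha⟩
  rcases hn.eq_bot_or_eq_top with e | e
  · have h1 := gcd_mul_card_pointStab (∞ : OnePoint K)
    rw [show pointStab (∞ : OnePoint K) = ⊥ from e, Subgroup.card_bot, mul_one] at h1
    have h2 : Nat.gcd 2 (Fintype.card K - 1) ≤ 2 := Nat.le_of_dvd two_pos (Nat.gcd_dvd_left 2 _)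
    rw [Nat.card_eq_fintype_card] at h4
    have h3 : 4 * 3 ≤ Fintype.card K * (Fintype.card K - 1) := Nat.mul_le_mul h4 (by omega)
    omega
  · rw [e, Subgroup.index_top] at hidx
    have := Fintype.card_pos (α := K)
    omega

omit [DecidableEq F] in
theorem min_simple_mp (h : Cfsg.IsMinimalSimple (PS F)) :
    (∃ r : ℕ, r.Prime ∧ Fintype.card F = 2 ^ r) ∨
      (∃ r : ℕ, r.Prime ∧ r ≠ 2 ∧ Fintype.card F = 3 ^ r) ∨
      ((Fintype.card F).Prime ∧ 5 < Fintype.card F ∧
        (Fintype.card F % 5 = 2 ∨ Fintype.card F % 5 = 3)) ∨ Fintype.card F = 5 := by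
  classical
  obtain ⟨hsimp, hnc, hsol⟩ := h
  have hns : ¬ Group.IsSolvable (PS F) := fun hs =>
    hnc ⟨⟨(IsSimpleGroup.comm_iff_isSolvable (G := PS F)).mpr hs⟩⟩
  obtain ⟨p, hpF⟩ := CharP.exists F
  haveI : Fact p.Prime := ⟨CharP.char_is_prime F p⟩
  obtain ⟨n, hp, hn⟩ := FiniteField.card F p
  have hG := gcd_mul_card_PS (F := F)
  have hq4 : 4 ≤ Fintype.card F := by
    by_contra hlt
    have h2 : 2 ≤ Fintype.card F := Fintype.one_lt_card
    apply hns
    rcases (show Fintype.card F = 2 ∨ Fintype.card F = 3 by omega) with h | h <;> rw [h] at hG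
    · exact isSolvable_small (a := 1) (b := 1) (by simpa using hG)
    · exact isSolvable_small (a := 2) (b := 1) (by norm_num at hG ⊢; omega)
  have hA5 : 5 ∣ Fintype.card F * (Fintype.card F ^ 2 - 1) → Fintype.card F = 4 ∨ Fintype.card F = 5 := by
    intro h5
    obtain ⟨H, ⟨e⟩⟩ := (alt_five_iff (F := F)).mpr h5
    by_contra hq
    apply alt_five_not_solvable e
    refine hsol H fun htop => ?_
    have h60 : Nat.card (PS F) = 60 := by
      rw [← card_alt_five, ← Nat.card_congr e.toEquiv, htop, Subgroup.card_top]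
    rw [h60] at hG
    have h6 : 6 ≤ Fintype.card F := by omega
    have : 6 * 35 ≤ Fintype.card F * (Fintype.card F ^ 2 - 1) :=
      Nat.mul_le_mul h6 (Nat.le_sub_one_of_lt (lt_of_lt_of_le (by norm_num : 35 < 6 ^ 2)
        (Nat.pow_le_pow_left h6 2)))
    have : Nat.gcd 2 (Fintype.card F - 1) ≤ 2 := Nat.le_of_dvd two_pos (Nat.gcd_dvd_left 2 _)
    omega
  have hsub : ∀ m : ℕ, m ∣ (n : ℕ) → m < n → p ^ m < 4 := by
    intro m hm hlt
    by_contra h4
    push Not at h4
    have hm0 : m ≠ 0 := by rintro rfl; simp at h4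
    obtain ⟨c, hc⟩ := hm
    letI : Fintype (GaloisField p m) := Fintype.ofFinite _
    have hK : Fintype.card (GaloisField p m) = p ^ m := by
      rw [← Nat.card_eq_fintype_card, GaloisField.card p m hm0]
    have hKc : Fintype.card (GaloisField p m) ^ c = Fintype.card F := by rw [hK, ← pow_mul, ← hc, hn]
    have hc1 : 1 ≤ c := Nat.pos_of_ne_zero fun h0 => by rw [h0, mul_zero] at hc; exact n.ne_zero hc
    obtain ⟨f⟩ := exists_ringHom c hc1 hKc
    obtain ⟨H, ⟨e⟩⟩ := exists_psl_subfield f
    apply psl_not_solvable (K := GaloisField p m) (by rw [Nat.card_eq_fintype_card, hK]; exact h4)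
    haveI : Group.IsSolvable H := hsol H fun htop => by
      have h1 : Nat.card (PS F) = Nat.card (PS (GaloisField p m)) := by
        rw [← Nat.card_congr e.toEquiv, htop, Subgroup.card_top]
      have h2 := gcd_mul_card_PS (F := GaloisField p m)
      have hlt' : Fintype.card (GaloisField p m) < Fintype.card F := by
        rw [hK, hn]; exact Nat.pow_lt_pow_right hp.one_lt hlt
      have hd1 : Nat.gcd 2 (Fintype.card F - 1) ≤ 2 := Nat.le_of_dvd two_pos (Nat.gcd_dvd_left 2 _)
      have hd2 : 1 ≤ Nat.gcd 2 (Fintype.card (GaloisField p m) - 1) :=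
        Nat.gcd_pos_of_pos_left _ two_pos
      rw [h1] at hG
      set k := Fintype.card (GaloisField p m)
      have h3 : Fintype.card F * (Fintype.card F ^ 2 - 1) ≤ 2 * (k * (k ^ 2 - 1)) := by
        rw [← hG, ← h2]
        exact Nat.mul_le_mul hd1 (Nat.le_mul_of_pos_left _ hd2)
      have h4' : 2 * k ≤ Fintype.card F := by
        rw [show k = p ^ m from hK, hn]
        calc 2 * p ^ m ≤ p * p ^ m := Nat.mul_le_mul_right _ hp.two_le
          _ = p ^ (m + 1) := (pow_succ' p m).symm
          _ ≤ p ^ (n : ℕ) := Nat.pow_le_pow_right hp.pos hlt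
      have h5 : 2 * k * (k ^ 2 - 1) < Fintype.card F * (Fintype.card F ^ 2 - 1) :=
        Nat.mul_lt_mul_of_le_of_lt h4' (Nat.sub_lt_sub_right (Nat.one_le_pow _ _ Fintype.card_pos)
          (Nat.pow_lt_pow_left hlt' two_ne_zero)) (by omega)
      rw [← mul_assoc] at h3
      omega
    exact Group.isSolvable_of_surjective (f := e.toMonoidHom) e.surjective
  by_cases hn1 : (n : ℕ) = 1
  · rw [hn1, pow_one] at hn
    rcases (show Fintype.card F = 5 ∨ 5 < Fintype.card F by
      rcases (show Fintype.card F = 4 ∨ 5 ≤ Fintype.card F by omega) with h | h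
      · exact absurd (hn.symm.trans h ▸ hp) (by norm_num)
      · omega) with h | h
    · exact Or.inr (Or.inr (Or.inr h))
    · refine Or.inr (Or.inr (Or.inl ⟨hn.symm ▸ hp, h, ?_⟩))
      by_contra h5
      have : 5 ∣ Fintype.card F * (Fintype.card F ^ 2 - 1) := by
        have hne : Fintype.card F % 5 ≠ 0 := fun h0 => by
          have h' := (Nat.prime_dvd_prime_iff_eq Nat.prime_five (hn.symm ▸ hp)).mp
            (Nat.dvd_of_mod_eq_zero h0)
          omega
        refine Dvd.dvd.mul_left ?_ _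
        have h1 : Fintype.card F ^ 2 % 5 = 1 := by
          rw [Nat.pow_mod]
          rcases (show Fintype.card F % 5 = 1 ∨ Fintype.card F % 5 = 4 by omega) with h | h <;>
            rw [h] <;> norm_num
        have : 1 ≤ Fintype.card F ^ 2 := Nat.one_le_pow _ _ Fintype.card_pos
        omega
      rcases hA5 this with h' | h' <;> omega
  · have hn2 : 2 ≤ (n : ℕ) := by have := n.pos; omega
    have hp3 : p ≤ 3 := by
      have := hsub 1 (one_dvd _) (by omega)
      rw [pow_one] at this
      omega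
    have hnp : (n : ℕ).Prime := by
      rw [Nat.prime_def_lt]
      refine ⟨hn2, fun m hm hmd => ?_⟩
      by_contra hm1
      have hm2 : 2 ≤ m := by
        rcases Nat.eq_zero_or_pos m with h | h
        · subst h; simp at hmd
        · omega
      have := hsub m hmd hm
      have h4 : 2 ^ 2 ≤ p ^ m :=
        (Nat.pow_le_pow_left hp.two_le 2).trans (Nat.pow_le_pow_right hp.pos hm2)
      omega
    rcases (show p = 2 ∨ p = 3 by have := hp.two_le; omega) with rfl | rfl
    · exact Or.inl ⟨n, hnp, hn⟩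
    · refine Or.inr (Or.inl ⟨n, hnp, fun h2 => ?_, hn⟩)
      rw [h2] at hn
      rcases hA5 (by rw [hn]; norm_num) with h | h <;> omega

omit [DecidableEq F] in
theorem min_simple_mpr
    (h : (∃ r : ℕ, r.Prime ∧ Fintype.card F = 2 ^ r) ∨
      (∃ r : ℕ, r.Prime ∧ r ≠ 2 ∧ Fintype.card F = 3 ^ r) ∨
      ((Fintype.card F).Prime ∧ 5 < Fintype.card F ∧
        (Fintype.card F % 5 = 2 ∨ Fintype.card F % 5 = 3)) ∨ Fintype.card F = 5) :
    Cfsg.IsMinimalSimple (PS F) := by
  classical
  obtain ⟨p, hpF⟩ := CharP.exists F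
  haveI : Fact p.Prime := ⟨CharP.char_is_prime F p⟩
  obtain ⟨n, hp, hn⟩ := FiniteField.card F p
  have hp_eq : ∀ {a r : ℕ}, a.Prime → Fintype.card F = a ^ r → p = a ∧ (n : ℕ) = r := by
    intro a r ha he
    rw [hn] at he
    obtain rfl : p = a := by
      have : p ∣ a ^ r := he ▸ dvd_pow_self p n.ne_zero
      exact (Nat.prime_dvd_prime_iff_eq hp ha).mp (hp.dvd_of_dvd_pow this)
    exact ⟨rfl, Nat.pow_right_injective hp.two_le he⟩
  have hq4 : 4 ≤ Fintype.card F := by
    rcases h with ⟨r, hr, he⟩ | ⟨r, hr, -, he⟩ | ⟨-, h5, -⟩ | h5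
    · rw [he]; exact (show 4 = 2 ^ 2 from rfl) ▸ Nat.pow_le_pow_right two_pos hr.two_le
    · rw [he]; exact le_trans (by norm_num) (Nat.pow_le_pow_right (by norm_num : 0 < 3) hr.two_le)
    · omega
    · omega
  have hK4 : 4 ≤ Nat.card F := by rwa [Nat.card_eq_fintype_card]
  haveI hsimp := CfsgLib.Linear.isSimpleGroup_PSL_fin (F := F) 2 le_rfl (fun _ => hK4)
  refine ⟨hsimp, fun hc => psl_not_solvable hK4
    ((IsSimpleGroup.comm_iff_isSolvable (G := PS F)).mp fun a b => hc.is_comm.comm a b),
    fun H hH => ?_⟩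
  have no5 : Fintype.card F ≠ 5 → ∀ h60 : Nat.card H = 60, p = 2 ∨
      ¬ 5 ∣ Fintype.card F * (Fintype.card F ^ 2 - 1) := by
    intro hne5 _
    rcases h with ⟨r, hr, he⟩ | ⟨r, hr, hr2, he⟩ | ⟨-, h5, hmod⟩ | h5
    · exact Or.inl (hp_eq Nat.prime_two he).1
    · refine Or.inr ?_
      obtain ⟨j, rfl⟩ := hr.odd_of_ne_two hr2
      have h1 : Fintype.card F % 5 = 2 ∨ Fintype.card F % 5 = 3 := by
        rw [he, pow_succ, pow_mul, Nat.mul_mod, Nat.pow_mod]
        rcases Nat.even_or_odd' j with ⟨i, hi | hi⟩ <;> subst hi <;>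
          norm_num [pow_succ, pow_mul, Nat.pow_mod, Nat.mul_mod]
      intro hd
      rcases (Nat.Prime.dvd_mul Nat.prime_five).mp hd with hd | hd
      · omega
      · have h2 : Fintype.card F ^ 2 % 5 = 4 := by
          rw [Nat.pow_mod]; rcases h1 with h1 | h1 <;> rw [h1]
        omega
    · refine Or.inr fun hd => ?_
      rcases (Nat.Prime.dvd_mul Nat.prime_five).mp hd with hd | hd
      · omega
      · have h2 : Fintype.card F ^ 2 % 5 = 4 := by
          rw [Nat.pow_mod]; rcases hmod with h1 | h1 <;> rw [h1]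
        omega
    · exact absurd h5 hne5
  rcases classify_psl p H with hc | ⟨k, -, -, -, ⟨e⟩⟩ | ⟨-, y, hy⟩ | h' | h' | ⟨hp3, ⟨e⟩⟩ |
    ⟨E, hE⟩
  · haveI := hc.1
    letI : CommGroup H := IsCyclic.commGroup
    infer_instance
  · haveI := isSolvable_dihedral k
    exact Group.isSolvable_of_surjective (f := e.symm.toMonoidHom) e.symm.surjective
  · haveI := isSolvable_pointStab y
    exact Group.isSolvable_of_isSolvable_injective
      (f := Subgroup.inclusion (show H ≤ pointStab y from fun g hg => hy g hg))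
      (Subgroup.inclusion_injective _)
  · exact isSolvable_small (a := 2) (b := 1) ((Nat.card_congr h'.2.some.toEquiv).trans card_alt_four)
  · exact isSolvable_small (a := 3) (b := 1) ((Nat.card_congr h'.2.some.toEquiv).trans card_sym_four)
  · exfalso
    have h60 : Nat.card H = 60 := (Nat.card_congr e.toEquiv).trans card_alt_five
    rw [h60] at hp3
    by_cases h5 : Fintype.card F = 5
    · have h5p := hp_eq Nat.prime_five (r := 1) (by rw [h5, pow_one])
      rcases hp3 with hp3 | hp3
      · exact hp3 (by rw [h5p.1]; norm_num)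
      · omega
    rcases no5 h5 h60 with hp2 | hnd
    · rcases hp3 with hp3 | hp3
      · exact hp3 (by rw [hp2]; norm_num)
      · omega
    · exact hnd (alt_five_iff.mp ⟨H, ⟨e⟩⟩)
  · obtain ⟨he2, -, hee, -, -⟩ := field_bounds p hH hE
    obtain ⟨m, hm0, hm⟩ := card_subfield_pow E
    letI := Fintype.ofFinite E
    haveI : CharP E p := (RingHom.charP_iff E.subtype Subtype.coe_injective p).mpr inferInstance
    obtain ⟨j, -, hj⟩ := FiniteField.card E p
    rw [← Nat.card_eq_fintype_card] at hj
    have hjm : (j : ℕ) * m = n := by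
      rw [hj, ← pow_mul, hn] at hm
      exact Nat.pow_right_injective hp.two_le hm
    have hm2 : 2 ≤ m := by
      by_contra hlt
      obtain rfl : m = 1 := by omega
      rw [pow_one] at hm
      have := Nat.mul_le_mul_left (Nat.card E) he2
      omega
    have hEsmall : Nat.card E = 2 ∨ Nat.card E = 3 := by
      rcases h with ⟨r, hr, he⟩ | ⟨r, hr, -, he⟩ | ⟨hpr, -, -⟩ | h5
      · obtain ⟨rfl, hnr⟩ := hp_eq Nat.prime_two he
        rcases (Nat.dvd_prime hr).mp ⟨m, (hjm.trans hnr).symm⟩ with h1 | h1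
        · left; rw [hj, h1, pow_one]
        · rw [h1, ← hnr] at hjm
          have : (n : ℕ) * 2 ≤ (n : ℕ) * m := Nat.mul_le_mul_left _ hm2
          have := n.pos
          omega
      · obtain ⟨rfl, hnr⟩ := hp_eq Nat.prime_three he
        rcases (Nat.dvd_prime hr).mp ⟨m, (hjm.trans hnr).symm⟩ with h1 | h1
        · right; rw [hj, h1, pow_one]
        · rw [h1, ← hnr] at hjm
          have : (n : ℕ) * 2 ≤ (n : ℕ) * m := Nat.mul_le_mul_left _ hm2
          have := n.pos
          omega
      all_goals exfalso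
      · have h1 := (hp_eq hpr (r := 1) (pow_one _).symm).2
        have : 1 * 2 ≤ (j : ℕ) * m := Nat.mul_le_mul j.pos hm2
        omega
      · have h1 := (hp_eq Nat.prime_five (r := 1) (by rw [h5, pow_one])).2
        have : 1 * 2 ≤ (j : ℕ) * m := Nat.mul_le_mul j.pos hm2
        omega
    have hPG : ∀ k : ℕ, Nat.card E = k → Nat.card (PG E) = k * (k ^ 2 - 1) := fun k hk => by
      rw [Linear.card_PGL, Linear.card_SL_two, ← Nat.card_eq_fintype_card, hk]
    haveI : Finite (PG E) := Finite.of_surjective _ ProjGenLinGroup.mk_surjective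
    haveI : Group.IsSolvable (PG E) := by
      rcases hEsmall with h1 | h1
      · exact isSolvable_small (a := 1) (b := 1) (hPG 2 h1)
      · exact isSolvable_small (a := 3) (b := 1) (hPG 3 h1)
    rcases hE with ⟨⟨e⟩⟩ | ⟨-, ⟨e⟩⟩
    · exact Group.isSolvable_of_surjective (f := e.symm.toMonoidHom) e.symm.surjective
    · exact Group.isSolvable_of_isSolvable_injective (f := toPG.comp e.toMonoidHom)
        (toPG_injective.comp e.injective)

end CfsgLib.PSL2Sub
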