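import Cfsg.Agent.Lib.PSL2Sub.Transfer
import Cfsg.Agent.Lib.SL2Trace.Orders
import Cfsg.Agent.Lib.Linear.Card

/-!
Dickson's theorem for `PSL₂(q)`: the list of subgroups, with isomorphism types.
-/

set_option autoImplicit false
set_option linter.unusedSectionVars false

namespace CfsgLib.PSL2Sub

open Matrix OnePoint

/-- `PSL₂` over a field. -/
abbrev PS (K : Type*) [Field K] := Matrix.ProjectiveSpecialLinearGroup (Fin 2) K

/-- The embedding of `PSL₂` in `PGL₂`. -/
abbrev toPG {K : Type*} [Field K] : PS K →* PG K := Matrix.ProjectiveSpecialLinearGroup.toPGL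

theorem toPG_injective {K : Type*} [Field K] : Function.Injective (toPG : PS K →* PG K) :=
  Matrix.ProjectiveSpecialLinearGroup.toPGL_injective

section Equivs

variable {R S : Type*} [Field R] [Field S]

/-- A field isomorphism gives an isomorphism of `PGL₂`. -/
theorem nonempty_pgEquiv (e : R ≃+* S) : Nonempty (PG R ≃* PG S) := by
  classical
  exact ⟨MulEquiv.ofBijective (ProjGenLinGroup.map (n := Fin 2) e.toRingHom)
    ⟨map_injective_pgl _, pg_map_surjective _ e.bijective⟩⟩

/-- A field isomorphism gives an isomorphism of `PSL₂`. -/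
theorem nonempty_pslEquiv (e : R ≃+* S) : Nonempty (PS R ≃* PS S) := by
  classical
  let f : PS R →* PG S := (ProjGenLinGroup.map (n := Fin 2) e.toRingHom).comp toPG
  have hf : Function.Injective f := (map_injective_pgl _).comp toPG_injective
  have hr : f.range = (toPG : PS S →* PG S).range := by
    ext x
    constructor
    · rintro ⟨g, rfl⟩
      induction g using QuotientGroup.induction_on with
      | H g => exact ⟨QuotientGroup.mk (SpecialLinearGroup.map e.toRingHom g),
          (pg_map_toPGL _ g).symm⟩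
    · rintro ⟨g, rfl⟩
      induction g using QuotientGroup.induction_on with
      | H g =>
        obtain ⟨g', rfl⟩ := sl_map_surjective e.toRingHom e.bijective g
        exact ⟨QuotientGroup.mk g', pg_map_toPGL _ g'⟩
  exact ⟨((MonoidHom.ofInjective hf).trans (MulEquiv.subgroupCongr hr)).trans
    (MonoidHom.ofInjective toPG_injective).symm⟩

/-- The range of a conjugate description as an abstract group. -/
theorem nonempty_equiv_of_map {K : Type*} [Field K] (H : Subgroup (PS K)) (g : PG K)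
    {L : Type*} [Group L] (f : L →* PG K) (hf : Function.Injective f)
    (h : (H.map toPG).map (MulAut.conj g).toMonoidHom = f.range) : Nonempty (H ≃* L) :=
  ⟨(((H.equivMapOfInjective _ toPG_injective).trans
    ((H.map toPG).equivMapOfInjective _ (MulAut.conj g).injective)).trans
    (MulEquiv.subgroupCongr h)).trans (MonoidHom.ofInjective hf).symm⟩

end Equivs

variable {F : Type*} [Field F] [Fintype F] (p : ℕ) [hp : Fact p.Prime] [CharP F p]

/-- Divisors of the orders of the two tori of `PSL₂(q)`. -/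
def DvdTorus (q k : ℕ) : Prop :=
  k ∣ (q + 1) / Nat.gcd 2 (q - 1) ∨ k ∣ (q - 1) / Nat.gcd 2 (q - 1)

theorem dvdTorus_orderOf (g : PS F) (hg : ¬ p ∣ orderOf g) :
    DvdTorus (Fintype.card F) (orderOf g) := by
  rcases CfsgLib.SL2Trace.psl_pow_cases p g with h | h | h
  · rcases (Nat.dvd_prime hp.out).mp (orderOf_dvd_of_pow_eq_one h) with h1 | h1
    · exact Or.inl (by rw [h1]; exact one_dvd _)
    · exact absurd h1.symm.dvd hg
  · exact Or.inr (orderOf_dvd_of_pow_eq_one h)
  · exact Or.inl (orderOf_dvd_of_pow_eq_one h)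

theorem dvdTorus_card (A : Subgroup (PS F)) [IsCyclic A] (hA : ¬ p ∣ Nat.card A) :
    DvdTorus (Fintype.card F) (Nat.card A) := by
  obtain ⟨a, ha⟩ := IsCyclic.exists_ofOrder_eq_natCard (α := A)
  rw [← Subgroup.orderOf_coe] at ha
  rw [← ha] at hA ⊢
  exact dvdTorus_orderOf p _ hA

/-- An element of `p`-power order has order dividing `p`. -/
theorem pow_char_of_pow_pow (g : PS F) (i : ℕ) (h : g ^ (p ^ i) = 1) : g ^ p = 1 := by
  obtain ⟨j, -, hj⟩ := (Nat.dvd_prime_pow hp.out).mp (orderOf_dvd_of_pow_eq_one h)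
  by_cases hj1 : j ≤ 1
  · exact orderOf_dvd_iff_pow_eq_one.mp (hj ▸ (pow_dvd_pow p hj1).trans (pow_one p).dvd)
  rcases CfsgLib.SL2Trace.psl_pow_cases p g with h1 | h1 | h1
  · exact h1
  all_goals
    exfalso
    have hd := orderOf_dvd_of_pow_eq_one h1
    rw [hj] at hd
    have hp' : p ∣ _ := (dvd_pow_self p (show j ≠ 0 by omega)).trans
      (hd.trans (Nat.div_dvd_of_dvd (by
        first
          | exact Nat.gcd_dvd_right 2 _
          | (rw [← CfsgLib.SL2Trace.gcd_two_card']; exact Nat.gcd_dvd_right 2 _))))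
    obtain ⟨n, -, hn⟩ := FiniteField.card F p
    have hpq : p ∣ Fintype.card F := hn ▸ dvd_pow_self p n.ne_zero
    have h1 : 1 < Fintype.card F := Fintype.one_lt_card
    refine hp.out.not_dvd_one ?_
    first
      | exact (Nat.dvd_add_right hpq).mp hp'
      | exact (Nat.dvd_add_right hp').mp (by rwa [Nat.sub_add_cancel h1.le])

variable [DecidableEq F]

/-- The `p`-subgroup of `PSL₂` fixing a point. -/
def pointUnip (y : OnePoint F) : Set (PS F) := {g | toPG g • y = y ∧ g ^ p = 1}

theorem pointUnip_mul {y : OnePoint F} {a b : PS F} (ha : a ∈ pointUnip p y)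
    (hb : b ∈ pointUnip p y) : a * b ∈ pointUnip p y := by
  obtain ⟨c, rfl⟩ := exists_smul_infty y
  have key : ∀ g ∈ pointUnip p (c • (∞ : OnePoint F)), ∃ t : F, c⁻¹ * toPG g * c = aff 1 t := by
    rintro g ⟨hg, hgp⟩
    obtain ⟨u, t, ht⟩ := exists_aff_of_fix_infty (g := c⁻¹ * toPG g * c)
      (by rw [mul_smul, mul_smul, hg, inv_smul_smul])
    have hu : u = 1 := by
      by_contra hu
      have hp' : (aff u t : PG F) ^ p = 1 := by
        rw [← ht]
        conv_lhs => arg 1; arg 2; rw [← inv_inv c]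
        rw [conj_pow, ← map_pow, hgp, map_one, mul_one, inv_inv, inv_mul_cancel]
      have h1 : (aff u t : PG F) ≠ 1 := fun e => hu (by
        rw [← aff_one_zero] at e; exact (aff_injective e).1)
      have h10 : (1 : F) - (u : F) ≠ 0 :=
        sub_ne_zero.mpr fun e => hu (Units.ext e.symm)
      exact absurd (unique_fixed_of_pow_char p h1 hp' (aff_smul_infty u t)
        (show aff u t • ((t / (1 - u) : F) : OnePoint F) = _ by
          rw [aff_smul_coe, OnePoint.coe_eq_coe]; field_simp; ring)) (OnePoint.coe_ne_infty _)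
    exact ⟨t, hu ▸ ht⟩
  obtain ⟨s, hs⟩ := key a ha
  obtain ⟨t, ht⟩ := key b hb
  refine ⟨by rw [map_mul, mul_smul, hb.1, ha.1], toPG_injective ?_⟩
  rw [map_pow, map_one]
  have : toPG (a * b) = c * aff 1 (s + t) * c⁻¹ := by
    have e : (aff 1 (s + t) : PG F) = aff 1 s * aff 1 t := by
      rw [aff_mul, one_mul, Units.val_one, one_mul, add_comm]
    rw [e, ← hs, ← ht, map_mul]
    group
  rw [this, conj_pow, translation_pow_char p, mul_one, mul_inv_cancel]

/-- An element fixing a point normalises the Sylow subgroup fixing that point. -/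
theorem exists_sylow_normalized {u : PS F} (hu1 : u ≠ 1) (hup : u ^ p = 1) {y : OnePoint F}
    (hy : toPG u • y = y) :
    ∃ P : Sylow p (PS F), ∀ g : PS F, toPG g • y = y →
      g ∈ Subgroup.normalizer ((P : Subgroup (PS F)) : Set (PS F)) := by
  have hz : IsPGroup p (Subgroup.zpowers u) := by
    obtain ⟨i, -, hi⟩ := (Nat.dvd_prime_pow hp.out).mp
      (show orderOf u ∣ p ^ 1 by simpa using orderOf_dvd_of_pow_eq_one hup)
    exact IsPGroup.of_card (n := i) (by rw [Nat.card_zpowers, hi])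
  obtain ⟨P, hP⟩ := hz.exists_le_sylow
  letI : MulAction (P : Subgroup (PS F)) (OnePoint F) :=
    MulAction.compHom _ (toPG.comp (P : Subgroup (PS F)).subtype)
  haveI : Finite (OnePoint F) := inferInstanceAs (Finite (Option F))
  have hcard : ¬ p ∣ Nat.card (OnePoint F) := by
    obtain ⟨n, -, hn⟩ := FiniteField.card F p
    rw [show Nat.card (OnePoint F) = Nat.card F + 1 from Finite.card_option,
      Nat.card_eq_fintype_card, hn, Nat.dvd_add_right (dvd_pow_self p n.ne_zero)]
    exact hp.out.not_dvd_one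
  obtain ⟨z, hz'⟩ := P.isPGroup'.nonempty_fixed_point_of_prime_not_dvd_card (OnePoint F) hcard
  have hzy : z = y := unique_fixed_of_pow_char p
    (fun e => hu1 (toPG_injective (by rw [e, map_one]))) (by rw [← map_pow, hup, map_one]) hy
    (hz' ⟨u, hP (Subgroup.mem_zpowers u)⟩)
  subst hzy
  have hsub : ∀ g ∈ (P : Subgroup (PS F)), g ∈ pointUnip p z := by
    intro g hg
    obtain ⟨i, hi⟩ := P.isPGroup' ⟨g, hg⟩
    exact ⟨hz' ⟨g, hg⟩, pow_char_of_pow_pow p g i (congrArg Subtype.val hi)⟩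
  let Q : Subgroup (PS F) :=
    { carrier := pointUnip p z
      one_mem' := ⟨by rw [map_one, one_smul], one_pow p⟩
      mul_mem' := pointUnip_mul p
      inv_mem' := fun {a} ha => ⟨by rw [map_inv, inv_smul_eq_iff, ha.1], by
        rw [inv_pow, ha.2, inv_one]⟩ }
  have hQ : Q = (P : Subgroup (PS F)) := P.is_maximal'
    (fun a => ⟨1, by rw [pow_one]; exact Subtype.ext a.2.2⟩) hsub
  refine ⟨P, fun g hg => ?_⟩
  rw [← hQ, Subgroup.mem_normalizer_iff]
  intro a
  show a ∈ pointUnip p z ↔ g * a * g⁻¹ ∈ pointUnip p z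
  constructor
  · rintro ⟨h1, h2⟩
    refine ⟨?_, by rw [conj_pow, h2, mul_one, mul_inv_cancel]⟩
    rw [map_mul, map_mul, map_inv, mul_smul, inv_smul_eq_iff.mpr hg.symm, mul_smul, h1, hg]
  · rintro ⟨h1, h2⟩
    rw [conj_pow, conj_eq_one_iff] at h2
    refine ⟨?_, h2⟩
    rw [map_mul, map_mul, map_inv, mul_smul, inv_smul_eq_iff.mpr hg.symm, mul_smul] at h1
    exact MulAction.injective (toPG g) (h1.trans hg.symm)

omit [DecidableEq F] in
theorem isCyclic_map_iff_aux {G G' : Type*} [Group G] [Group G'] (e : G ≃* G') [IsCyclic G] :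
    IsCyclic G' :=
  isCyclic_of_surjective e.toMonoidHom e.surjective

/-- Dickson's theorem for `PSL₂(q)`. -/
theorem classify_psl (H : Subgroup (PS F)) :
    (IsCyclic H ∧ ¬ p ∣ Nat.card H ∧ DvdTorus (Fintype.card F) (Nat.card H)) ∨
    (∃ k, 2 ≤ k ∧ ¬ p ∣ k ∧ DvdTorus (Fintype.card F) k ∧ Nonempty (H ≃* DihedralGroup k)) ∨
    (p ∣ Nat.card H ∧ ∃ y : OnePoint F, ∀ h ∈ H, toPG h • y = y) ∨
    (¬ p ∣ Nat.card H ∧ Nonempty (H ≃* alternatingGroup (Fin 4))) ∨
    (¬ p ∣ Nat.card H ∧ Nonempty (H ≃* Equiv.Perm (Fin 4))) ∨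
    ((¬ p ∣ Nat.card H ∨ p = 3) ∧ Nonempty (H ≃* alternatingGroup (Fin 5))) ∨
    (∃ E : Subfield F, Nonempty (H ≃* PG E) ∨ (p ≠ 2 ∧ Nonempty (H ≃* PS E))) := by
  let e : H ≃* H.map toPG := H.equivMapOfInjective _ toPG_injective
  have hcard : Nat.card (H.map toPG) = Nat.card H := (Nat.card_congr e.toEquiv).symm
  rcases classify_finite p (H.map toPG) with h | h | h | h | h | h | h
  · haveI := h.1
    haveI : IsCyclic H := isCyclic_map_iff_aux e.symm
    exact Or.inl ⟨inferInstance, hcard ▸ h.2, dvdTorus_card p H (hcard ▸ h.2)⟩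
  · obtain ⟨A, -, hc, hpA, h2, hd⟩ := h
    haveI := hc
    let B : Subgroup (PS F) := (A.map e.symm.toMonoidHom).map H.subtype
    let eB : A ≃* B := (A.equivMapOfInjective _ e.symm.injective).trans
      ((A.map e.symm.toMonoidHom).equivMapOfInjective _ H.subtype_injective)
    haveI : IsCyclic B := isCyclic_map_iff_aux eB
    have hB : Nat.card B = Nat.card A := (Nat.card_congr eB.toEquiv).symm
    exact Or.inr (Or.inl ⟨Nat.card A, h2, hpA, hB ▸ dvdTorus_card p B (hB.symm ▸ hpA),
      hd.map fun d => e.trans d⟩)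
  · exact Or.inr (Or.inr (Or.inl ⟨hcard ▸ h.1, h.2.choose, fun g hg =>
      h.2.choose_spec ⟨toPG g, g, hg, rfl⟩⟩))
  · exact Or.inr (Or.inr (Or.inr (Or.inl ⟨hcard ▸ h.1, h.2.map fun d => e.trans d⟩)))
  · exact Or.inr (Or.inr (Or.inr (Or.inr (Or.inl ⟨hcard ▸ h.1, h.2.map fun d => e.trans d⟩))))
  · exact Or.inr (Or.inr (Or.inr (Or.inr (Or.inr (Or.inl
      ⟨h.1.imp (fun h' => hcard ▸ h') id, h.2.map fun d => e.trans d⟩)))))
  · obtain ⟨g₁, E, -, -, hH⟩ := h
    refine Or.inr (Or.inr (Or.inr (Or.inr (Or.inr (Or.inr ⟨E, ?_⟩)))))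
    rcases hH with hH | ⟨hp2, hH⟩
    · exact Or.inl (nonempty_equiv_of_map H g₁⁻¹ _ (map_injective_pgl E.subtype) hH)
    · refine Or.inr ⟨hp2, nonempty_equiv_of_map H g₁⁻¹
        ((ProjGenLinGroup.map (n := Fin 2) E.subtype).comp toPG)
        ((map_injective_pgl E.subtype).comp toPG_injective) ?_⟩
      rw [hH]
      ext x
      constructor
      · rintro ⟨g, rfl⟩
        exact ⟨QuotientGroup.mk g, rfl⟩
      · rintro ⟨g, rfl⟩
        induction g using QuotientGroup.induction_on with
        | H g => exact ⟨g, rfl⟩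

theorem card_subfield_pow (E : Subfield F) : ∃ m, 0 < m ∧ Nat.card E ^ m = Fintype.card F :=
  ⟨Module.finrank E F, Module.finrank_pos,
    by rw [← Nat.card_eq_fintype_card, Module.natCard_eq_pow_finrank (K := E) (V := F)]⟩

end CfsgLib.PSL2Sub
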