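import Mathlib
import Cfsg.Agent.Lib.InvChar.ElemFour

/-! Recognition of the small groups occurring in Dickson's list: dihedral groups, `A₄`, `A₅`. -/

set_option autoImplicit false

namespace CfsgLib.PSL2Sub

variable {G : Type*} [Group G] [Finite G]

/-- A group with a cyclic subgroup of index two all of whose outside elements are involutions. -/
theorem dihedral_of_index_two (A : Subgroup G) (hA : A.index = 2) (hc : IsCyclic A)
    (h : ∀ x, x ∉ A → x * x = 1) : Nonempty (G ≃* DihedralGroup (Nat.card A)) := by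
  obtain ⟨n, hn⟩ : ∃ n, n = Nat.card A := ⟨_, rfl⟩
  haveI : NeZero n := ⟨hn ▸ Nat.card_pos.ne'⟩
  let e : Multiplicative (ZMod n) ≃* A := hn ▸ zmodCyclicMulEquiv hc
  let φ : ZMod n → G := fun i => (e (Multiplicative.ofAdd i) : G)
  have hφ : ∀ i j, φ (i + j) = φ i * φ j := fun i j => by
    simp [φ, ← Subgroup.coe_mul, ← map_mul, ← ofAdd_add]
  have hφA : ∀ i, φ i ∈ A := fun i => (e (Multiplicative.ofAdd i)).2
  have hφ0 : φ 0 = 1 := by simp [φ]
  have hφn : ∀ i, φ (-i) = (φ i)⁻¹ := fun i =>
    eq_inv_of_mul_eq_one_left (by rw [← hφ, neg_add_cancel, hφ0])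
  have hφi : Function.Injective φ := fun i j hij =>
    Multiplicative.ofAdd.injective (e.injective (Subtype.ext hij))
  obtain ⟨w, hw⟩ : ∃ w, w ∉ A := by
    by_contra hall
    simp only [not_exists, not_not] at hall
    rw [(Subgroup.eq_top_iff' A).mpr hall, Subgroup.index_top] at hA
    exact absurd hA (by norm_num)
  have hww : w * w = 1 := h w hw
  have hinv : ∀ i, φ i * w = w * φ (-i) := by
    intro i
    have hout : w * φ i ∉ A := fun hm => hw (by
      have := A.mul_mem hm (A.inv_mem (hφA i))
      rwa [mul_assoc, mul_inv_cancel, mul_one] at this)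
    have h1 := h _ hout
    rw [hφn, eq_mul_inv_iff_mul_eq]
    have h2 : w * (φ i * w * φ i) = w * w := by rw [hww]; simpa only [mul_assoc] using h1
    exact mul_left_cancel h2
  let f : DihedralGroup n → G
    | .r i => φ i
    | .sr i => w * φ i
  have hf : ∀ a b, f (a * b) = f a * f b := by
    rintro (i | i) (j | j)
    · simp [f, hφ]
    · show w * φ (j - i) = φ i * (w * φ j)
      rw [← mul_assoc, hinv, mul_assoc, ← hφ, neg_add_eq_sub]
    · show w * φ (i + j) = w * φ i * φ j
      rw [hφ, mul_assoc]
    · show φ (j - i) = w * φ i * (w * φ j)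
      rw [mul_assoc, ← mul_assoc (φ i), hinv, mul_assoc, ← mul_assoc w, hww, one_mul, ← hφ,
        neg_add_eq_sub]
  have hinj : Function.Injective f := by
    rintro (i | i) (j | j) hij
    · exact congrArg _ (hφi hij)
    · exact absurd (by
        have hm : w * φ j ∈ A := (show φ i = w * φ j from hij) ▸ hφA i
        simpa [mul_assoc] using A.mul_mem hm (A.inv_mem (hφA j))) hw
    · exact absurd (by
        have hm : w * φ i ∈ A := (show w * φ i = φ j from hij).symm ▸ hφA j
        simpa [mul_assoc] using A.mul_mem hm (A.inv_mem (hφA i))) hw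
    · exact congrArg _ (hφi (mul_left_cancel (show w * φ i = w * φ j from hij)))
  have hcard : Nat.card (DihedralGroup n) = Nat.card G := by
    rw [DihedralGroup.nat_card, hn, ← A.card_mul_index, hA, mul_comm]
  rw [← hn]
  exact ⟨(MulEquiv.ofBijective (MonoidHom.mk' f hf)
    ((Nat.bijective_iff_injective_and_card _).mpr ⟨hinj, hcard⟩)).symm⟩

/-- A group of order twelve acting faithfully on four points is `A₄`. -/
theorem alt_four_of_faithful {α : Type*} [MulAction G α] [FaithfulSMul G α]
    (hα : Nat.card α = 4) (hG : Nat.card G = 12) : Nonempty (G ≃* alternatingGroup (Fin 4)) := by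
  haveI : Finite α := Nat.finite_of_card_ne_zero (by omega)
  obtain ⟨e⟩ : Nonempty (α ≃ Fin 4) := ⟨Finite.equivFinOfCardEq hα⟩
  let f : G →* Equiv.Perm (Fin 4) := e.permCongrHom.toMonoidHom.comp (MulAction.toPermHom G α)
  have hf : Function.Injective f := e.permCongrHom.injective.comp MulAction.toPerm_injective
  have hidx : f.range.index = 2 := by
    have h := Subgroup.card_mul_index f.range
    rw [← Nat.card_congr (MonoidHom.ofInjective hf).toEquiv, hG, Nat.card_perm,
      Nat.card_fin, show (4 : ℕ).factorial = 24 by decide] at h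
    omega
  exact ⟨(MonoidHom.ofInjective hf).trans
    (MulEquiv.subgroupCongr (Equiv.Perm.eq_alternatingGroup_of_index_eq_two hidx))⟩

/-- A group of order `60` with one class of fifteen involutions and no element of order four. -/
theorem alt_five_of_involutions (hG : Nat.card G = 60) (h4 : ∀ x : G, orderOf x ≠ 4)
    (hconj : ∀ u v : G, orderOf u = 2 → orderOf v = 2 → IsConj u v)
    (h15 : Nat.card {u : G // orderOf u = 2} = 15) :
    Nonempty (G ≃* alternatingGroup (Fin 5)) := by
  obtain ⟨⟨x, hx⟩⟩ : Nonempty {u : G // orderOf u = 2} :=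
    (Nat.card_ne_zero.mp (by omega : Nat.card {u : G // orderOf u = 2} ≠ 0)).1
  refine InvChar.ElemFour.mulEquiv_alternating x hx (fun u hu => hconj x u hx hu) (fun u hu => ?_) hG
  have hcls : (Subgroup.centralizer ({u} : Set G)).index = 15 := by
    rw [← Invol.card_isConj_eq_index, ← h15]
    exact Nat.card_congr (Equiv.subtypeEquivRight fun v =>
      ⟨fun h => Invol.orderOf_eq_two_of_isConj hu h, fun h => hconj u v hu h⟩)
  have hC : Nat.card (Subgroup.centralizer ({u} : Set G)) = 4 := by
    have h := Subgroup.card_mul_index (Subgroup.centralizer ({u} : Set G))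
    rw [hcls, hG] at h
    omega
  refine ⟨hC, fun c hc => ?_⟩
  have hd : orderOf c ∣ 4 := hC ▸ Subgroup.orderOf_dvd_natCard _ hc
  have h2 : orderOf c ∣ 2 := by
    have h1 : orderOf c ∣ 2 ^ 2 := hd
    obtain ⟨i, hi, hic⟩ := (Nat.dvd_prime_pow Nat.prime_two).mp h1
    interval_cases i
    · simp [hic]
    · simp [hic]
    · exact absurd hic (h4 c)
  exact orderOf_dvd_iff_pow_eq_one.mp h2

end CfsgLib.PSL2Sub
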