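import Cfsg.Agent.Lib.PSL2Sub.Field
import Cfsg.Agent.Lib.PSL2Sub.Small
import Cfsg.Agent.S1012

/-!
Dickson's classification of the finite subgroups of `PGL₂` over an algebraically closed field of
characteristic `p`.
-/

set_option autoImplicit false
set_option linter.unusedSectionVars false

namespace CfsgLib.PSL2Sub

open Matrix OnePoint

/-- Orbit sizes for three exceptional orbits. -/
theorem arith_three {g o₁ o₂ o₃ e₁ e₂ e₃ : ℕ} (h₁ : o₁ * e₁ = g) (h₂ : o₂ * e₂ = g)
    (h₃ : o₃ * e₃ = g) (he : 2 ≤ e₁) (h12 : e₁ ≤ e₂) (h23 : e₂ ≤ e₃)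
    (hsum : o₁ + o₂ + o₃ = g + 2) :
    e₁ = 2 ∧ ((e₂ = 2 ∧ o₃ = 2 ∧ g = 2 * e₃) ∨ (g = 12 ∧ e₂ = 3 ∧ e₃ = 3) ∨
      (g = 24 ∧ e₂ = 3 ∧ e₃ = 4) ∨ (g = 60 ∧ e₂ = 3 ∧ e₃ = 5)) := by
  have hg : 0 < g := by
    rcases Nat.eq_zero_or_pos g with h | h
    · subst h
      simp only [mul_eq_zero] at h₁ h₂ h₃
      omega
    · exact h
  have h21 : o₂ ≤ o₁ := Nat.le_of_mul_le_mul_right
    ((Nat.mul_le_mul_left o₂ h12).trans_eq (h₂.trans h₁.symm)) (by omega)
  have h32 : o₃ ≤ o₂ := Nat.le_of_mul_le_mul_right
    ((Nat.mul_le_mul_left o₃ h23).trans_eq (h₃.trans h₂.symm)) (by omega)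
  have he1 : e₁ = 2 := by
    by_contra hne
    have : o₁ * 3 ≤ o₁ * e₁ := Nat.mul_le_mul_left _ (by omega)
    omega
  subst he1
  refine ⟨rfl, ?_⟩
  have he2 : e₂ < 4 := by
    by_contra hne
    have : o₂ * 4 ≤ o₂ * e₂ := Nat.mul_le_mul_left _ (by omega)
    omega
  rcases (show e₂ = 2 ∨ e₂ = 3 by omega) with rfl | rfl
  · have h3 : o₃ = 2 := by omega
    subst h3
    exact Or.inl ⟨rfl, rfl, h₃.symm⟩
  · have he3 : e₃ < 6 := by
      by_contra hne
      have : o₃ * 6 ≤ o₃ * e₃ := Nat.mul_le_mul_left _ (by omega)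
      omega
    rcases (show e₃ = 3 ∨ e₃ = 4 ∨ e₃ = 5 by omega) with rfl | rfl | rfl <;> omega

/-- Orbit sizes when one further orbit occurs besides the one of the `p`-elements. -/
theorem arith_one {n k s t o e : ℕ} (hn : n = 1 + k * s) (hk : 1 ≤ k) (hs : 3 ≤ s) (ht0 : 0 < t)
    (ht : t ∣ s - 1) (ho : o + n = n * (s - 1) + 2) (he : o * e = n * (s * t)) :
    (n = s + 1 ∧ (t = s - 1 ∨ 2 * t = s - 1)) ∨ (s = 3 ∧ t = 2 ∧ n = 10 ∧ e = 5) := by
  obtain ⟨u, rfl⟩ : ∃ u, s = u + 2 := ⟨s - 2, by omega⟩
  rw [show u + 2 - 1 = u + 1 by omega] at ht ho ⊢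
  have ho' : o = (u + 2) * (1 + k * u) := by
    have : o = n * u + 2 := by rw [mul_add, mul_one] at ho; omega
    rw [this, hn]
    ring
  have hde : (1 + k * u) * e = (1 + k * u + 2 * k) * t := by
    refine Nat.eq_of_mul_eq_mul_left (show 0 < u + 2 by omega) ?_
    rw [← mul_assoc, ← ho', he, hn]
    ring
  have hcop : Nat.Coprime (1 + k * u) k := by simp
  have hdvd : 1 + k * u ∣ k * (2 * t) := by
    exact (Nat.dvd_add_right (dvd_mul_right _ t)).mp
      ⟨e, by rw [show k * (2 * t) = 2 * k * t by ring, ← add_mul]; exact hde.symm⟩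
  have hd2 : 1 + k * u ∣ 2 * t := hcop.dvd_of_dvd_mul_left hdvd
  have htle : t ≤ u + 1 := Nat.le_of_dvd (by omega) ht
  have hle : 1 + k * u ≤ 2 * t := Nat.le_of_dvd (by omega) hd2
  rcases (show k = 1 ∨ k = 2 ∨ 3 ≤ k by omega) with rfl | rfl | hk3
  · refine Or.inl ⟨by omega, ?_⟩
    obtain ⟨j, hj⟩ := hd2
    have hj0 : j ≠ 0 := by rintro rfl; omega
    have hj2 : j ≤ 2 := by
      by_contra hne
      have : (1 + 1 * u) * 3 ≤ (1 + 1 * u) * j := Nat.mul_le_mul_left _ (by omega)
      omega
    rcases (show j = 1 ∨ j = 2 by omega) with rfl | rfl <;> omega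
  · exfalso
    have h2 : Nat.Coprime (1 + 2 * u) 2 := by simp
    have := Nat.le_of_dvd ht0 (h2.dvd_of_dvd_mul_left hd2)
    omega
  · have h1 : u * 3 ≤ u * k := Nat.mul_le_mul_left _ hk3
    rw [mul_comm u k] at h1
    obtain rfl : u = 1 := by omega
    obtain rfl : k = 3 := by omega
    obtain rfl : t = 2 := by omega
    refine Or.inr ⟨rfl, rfl, by omega, by omega⟩

section Classify

variable {k : Type*} [Field k] [DecidableEq k] (p : ℕ) [hp : Fact p.Prime] [CharP k p]
  [IsAlgClosed k] (H : Subgroup (PG k)) [Finite H]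

/-- A cyclic group of order prime to `p` fixing two points. -/
def IsTorusType : Prop :=
  IsCyclic H ∧ ¬ p ∣ Nat.card H ∧
    ∃ x y : OnePoint k, x ≠ y ∧ ∀ h : H, h • x = x ∧ h • y = y

/-- A dihedral group with cyclic half of order prime to `p`. -/
def IsDihedralType : Prop :=
  ∃ A : Subgroup H, A.index = 2 ∧ IsCyclic A ∧ ¬ p ∣ Nat.card A ∧ 2 ≤ Nat.card A ∧
    Nonempty (H ≃* DihedralGroup (Nat.card A))

/-- A group of order divisible by `p` fixing a point. -/
def IsBorelType : Prop :=
  p ∣ Nat.card H ∧ ∃ x : OnePoint k, ∀ h : H, h • x = x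

/-- `PGL₂` or, in odd characteristic, `PSL₂` of a finite subfield, up to conjugation. -/
def IsFieldType : Prop :=
  ∃ (g₀ : PG k) (E : Subfield k), Finite E ∧
    (∀ x : OnePoint k, (∃ h : H, h ≠ 1 ∧ (h : PG k) ^ p = 1 ∧ h • x = x) ↔
      g₀⁻¹ • x ∈ Set.range (OnePoint.map E.subtype)) ∧
    (H.map (MulAut.conj g₀⁻¹).toMonoidHom = (ProjGenLinGroup.map (n := Fin 2) E.subtype).range ∨
      (p ≠ 2 ∧ H.map (MulAut.conj g₀⁻¹).toMonoidHom =
        ((ProjGenLinGroup.map (n := Fin 2) E.subtype).comp
          (SpecialLinearGroup.toPGL : SpecialLinearGroup (Fin 2) E →* PG E)).range))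

theorem card_orbit_coe (x : fixedPts H) :
    Nat.card (MulAction.orbit H (x : OnePoint k)) = Nat.card (MulAction.orbit H x) := by
  refine Nat.card_congr
    { toFun := fun y => ⟨⟨y.1, ?_⟩, ?_⟩
      invFun := fun y => ⟨(y.1 : OnePoint k), ?_⟩
      left_inv := fun y => rfl
      right_inv := fun y => rfl }
  · obtain ⟨c, hc⟩ := y.2
    rw [← hc]
    exact (c • x).2
  · obtain ⟨c, hc⟩ := y.2
    exact ⟨c, Subtype.ext hc⟩
  · obtain ⟨c, hc⟩ := y.2
    exact ⟨c, congrArg Subtype.val hc⟩

theorem finite_orbit (x : OnePoint k) : Finite (MulAction.orbit H x) :=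
  Finite.of_surjective (fun c : H => (⟨c • x, c, rfl⟩ : MulAction.orbit H x))
    fun ⟨y, c, hc⟩ => ⟨c, Subtype.ext hc⟩

theorem eq_one_of_fix_orbit (x : OnePoint k) (h3 : 3 ≤ Nat.card (MulAction.orbit H x)) (h : H)
    (hh : ∀ y : MulAction.orbit H x, h • (y : OnePoint k) = y) : h = 1 := by
  haveI := finite_orbit H x
  haveI := Fintype.ofFinite (MulAction.orbit H x)
  obtain ⟨a, b, c, -, -, -, hab, hac, hbc⟩ := Finset.two_lt_card_iff.mp
    (show 2 < (Finset.univ : Finset (MulAction.orbit H x)).card by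
      rw [Finset.card_univ, ← Nat.card_eq_fintype_card]; omega)
  exact Subtype.ext (eq_one_of_fix_three (Subtype.coe_injective.ne hab)
    (Subtype.coe_injective.ne hac) (Subtype.coe_injective.ne hbc) (hh a) (hh b) (hh c))

theorem unip_eq_one (x : OnePoint k)
    (hno : ∀ h : H, h ≠ 1 → (h : PG k) ^ p = 1 → h • x ≠ x) : Nat.card (unip p H x) = 1 := by
  haveI : Subsingleton (unip p H x) := ⟨fun a b => by
    have key : ∀ c : unip p H x, (c : H) = 1 := fun c => by
      by_contra hc
      exact hno c hc c.2.2 c.2.1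
    exact Subtype.ext ((key a).trans (key b).symm)⟩
  exact Nat.card_unique

/-- The stabiliser of a point fixed by no element of order `p`. -/
theorem torus_stab (x : OnePoint k)
    (hno : ∀ h : H, h ≠ 1 → (h : PG k) ^ p = 1 → h • x ≠ x) :
    IsCyclic (stab H x) ∧ ¬ p ∣ Nat.card (stab H x) := by
  obtain ⟨t, ht, hpt, -, -, hc⟩ := stab_structure p H x
  have h1 := unip_eq_one p H x hno
  rw [h1, one_mul] at ht
  exact ⟨hc h1, ht ▸ hpt⟩

theorem card_stab_mul (x : OnePoint k) :
    Nat.card (MulAction.orbit H x) * Nat.card (stab H x) = Nat.card H := by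
  haveI := finite_orbit H x
  rw [Nat.card_congr (MulAction.orbitEquivQuotientStabilizer H x),
    ← Subgroup.index_eq_card, mul_comm]
  exact Subgroup.card_mul_index _

/-- An orbit of size two gives a dihedral group. -/
theorem dihedral_of_orbit_two (x : OnePoint k) (ho : Nat.card (MulAction.orbit H x) = 2)
    (hno : ∀ h : H, h ≠ 1 → (h : PG k) ^ p = 1 → h • x ≠ x)
    (h2 : 2 ≤ Nat.card (stab H x)) : IsDihedralType p H := by
  haveI := finite_orbit H x
  obtain ⟨hc, hp'⟩ := torus_stab p H x hno
  have hidx : (stab H x).index = 2 := by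
    refine Nat.eq_of_mul_eq_mul_left (show 0 < Nat.card (stab H x) by omega) ?_
    rw [Subgroup.card_mul_index, ← card_stab_mul H x, ho, mul_comm]
  refine ⟨stab H x, hidx, hc, hp', h2, dihedral_of_index_two _ hidx hc fun h hh => ?_⟩
  have hx : h • x ≠ x := hh
  let a : MulAction.orbit H x := ⟨x, MulAction.mem_orbit_self x⟩
  let b : MulAction.orbit H x := ⟨h • x, h, rfl⟩
  have hab : a ≠ b := fun e => hx (congrArg Subtype.val e).symm
  have hyx : h • (h • x) = x := by
    have hc' : (h • (h • x) : OnePoint k) ∈ MulAction.orbit H x := ⟨h * h, mul_smul h h x⟩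
    obtain ⟨c, d, -, hu⟩ := Nat.card_eq_two_iff.mp ho
    have hall : ∀ z : MulAction.orbit H x, z = c ∨ z = d := fun z => by
      have := hu.ge (Set.mem_univ z)
      simpa using this
    rcases hall ⟨h • (h • x), hc'⟩ with e | e <;> rcases hall a with e₁ | e₁ <;>
      rcases hall b with e₂ | e₂ <;>
      first
        | exact absurd (e₁.trans e₂.symm) hab
        | exact congrArg Subtype.val (e.trans e₁.symm)
        | exact absurd (MulAction.injective h (congrArg Subtype.val (e.trans e₂.symm))) hx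
  obtain ⟨z, hz⟩ := exists_fixed (h : PG k)
  have hzx : z ≠ x := fun e => hx (e ▸ hz)
  have hzy : z ≠ h • x := fun e => hx (by
    subst e
    exact (hz.symm.trans hyx))
  refine Subtype.ext (eq_one_of_fix_three (Ne.symm hx) (Ne.symm hzx) (Ne.symm hzy) ?_ ?_ ?_)
  · show (h * h) • x = x
    rw [mul_smul, hyx]
  · show (h * h) • (h • x) = h • x
    rw [mul_smul, hyx]
  · show (h * h) • z = z
    rw [mul_smul, coe_smul_onePoint, coe_smul_onePoint, hz, hz]

/-- Recognition of `A₅`. -/
theorem alt_five_of_orbit (x : OnePoint k) (hg : Nat.card H = 60)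
    (h4 : ∀ h : H, orderOf h ≠ 4)
    (hinv : ∀ u : H, orderOf u = 2 → (u : PG k) ^ p ≠ 1)
    (hfix : ∀ (u : H) (y : OnePoint k), orderOf u = 2 → u • y = y → y ∈ MulAction.orbit H x)
    (hj : Nat.card (MulAction.orbit H x) * Nat.card {u : H // orderOf u = 2 ∧ u • x = x} = 30)
    (hconj : ∀ u v : H, orderOf u = 2 → orderOf v = 2 → u • x = x → v • x = x → IsConj u v) :
    Nonempty (H ≃* alternatingGroup (Fin 5)) := by
  classical
  haveI := finite_orbit H x
  refine alt_five_of_involutions hg h4 (fun u v hu hv => ?_) ?_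
  · obtain ⟨y, hy⟩ := exists_fixed (u : PG k)
    obtain ⟨z, hz⟩ := exists_fixed (v : PG k)
    obtain ⟨c, hc⟩ := hfix u y hu hy
    obtain ⟨d, hd⟩ := hfix v z hv hz
    simp only at hc hd
    have hu' : IsConj u (c⁻¹ * u * c) := isConj_iff.mpr ⟨c⁻¹, by rw [inv_inv]⟩
    have hv' : IsConj v (d⁻¹ * v * d) := isConj_iff.mpr ⟨d⁻¹, by rw [inv_inv]⟩
    refine (hu'.trans (hconj _ _ ?_ ?_ ?_ ?_)).trans hv'.symm
    · rw [show c⁻¹ * u * c = MulAut.conj c⁻¹ u by simp, MulEquiv.orderOf_eq, hu]
    · rw [show d⁻¹ * v * d = MulAut.conj d⁻¹ v by simp, MulEquiv.orderOf_eq, hv]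
    · rw [mul_smul, mul_smul, hc, coe_smul_onePoint H u y, hy, inv_smul_eq_iff, hc]
    · rw [mul_smul, mul_smul, hd, coe_smul_onePoint H v z, hz, inv_smul_eq_iff, hd]
  · let e : (Σ u : {u : H // orderOf u = 2}, {y : OnePoint k // u.1 • y = y}) ≃
        Σ y : MulAction.orbit H x, {u : H // orderOf u = 2 ∧ u • (y : OnePoint k) = y} :=
      { toFun := fun uy => ⟨⟨uy.2.1, hfix _ _ uy.1.2 uy.2.2⟩, uy.1.1, uy.1.2, uy.2.2⟩
        invFun := fun yu => ⟨⟨yu.2.1, yu.2.2.1⟩, yu.1.1, yu.2.2.2⟩
        left_inv := fun _ => rfl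
        right_inv := fun _ => rfl }
    have htwo : ∀ u : {u : H // orderOf u = 2},
        Nat.card {y : OnePoint k // u.1 • y = y} = 2 := by
      intro u
      have h1 : u.1 ≠ 1 := fun h => by
        have := u.2
        rw [h, orderOf_one] at this
        omega
      have hc := card_fixedBy p H h1
      rw [if_neg (hinv _ u.2), add_zero] at hc
      refine Eq.trans ?_ hc
      exact Nat.card_congr
        { toFun := fun y => ⟨⟨y.1, u.1, h1, y.2⟩, Subtype.ext y.2⟩
          invFun := fun y => ⟨y.1.1, congrArg Subtype.val y.2⟩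
          left_inv := fun _ => rfl
          right_inv := fun _ => rfl }
    have hsame : ∀ y : MulAction.orbit H x,
        Nat.card {u : H // orderOf u = 2 ∧ u • (y : OnePoint k) = y} =
          Nat.card {u : H // orderOf u = 2 ∧ u • x = x} := by
      rintro ⟨_, c, rfl⟩
      refine (Nat.card_congr ((MulAut.conj c).toEquiv.subtypeEquiv fun u => ?_)).symm
      simp only [MulEquiv.toEquiv_eq_coe, MulEquiv.coe_toEquiv, MulEquiv.orderOf_eq]
      refine and_congr_right fun _ => ?_
      rw [MulAut.conj_apply, mul_smul, mul_smul, inv_smul_smul, smul_left_cancel_iff]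
    have hfin : ∀ u : {u : H // orderOf u = 2}, Finite {y : OnePoint k // u.1 • y = y} :=
      fun u => Nat.finite_of_card_ne_zero (by rw [htwo]; omega)
    letI := fun u => @Fintype.ofFinite _ (hfin u)
    letI := Fintype.ofFinite (MulAction.orbit H x)
    letI := Fintype.ofFinite {u : H // orderOf u = 2}
    have hh := Nat.card_congr e
    rw [Nat.card_sigma, Nat.card_sigma, Finset.sum_congr rfl (fun u _ => htwo u),
      Finset.sum_congr rfl (fun y _ => hsame y)] at hh
    simp only [Finset.sum_const, Finset.card_univ, smul_eq_mul] at hh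
    rw [← Nat.card_eq_fintype_card, ← Nat.card_eq_fintype_card, hj] at hh
    omega

/-- The field case. -/
theorem field_type (x : OnePoint k)
    (horbit : ∀ (h : H) (y : OnePoint k), h ≠ 1 → (h : PG k) ^ p = 1 → h • y = y →
      y ∈ MulAction.orbit H x)
    {s t : ℕ} (hs : Nat.card (unip p H x) = s) (hs2 : 2 ≤ s)
    (ht : Nat.card (stab H x) = s * t) (hts : t = s - 1 ∨ 2 * t = s - 1)
    (ho : Nat.card (MulAction.orbit H x) = s + 1) : IsFieldType p H := by
  classical
  haveI := finite_orbit H x
  haveI := Fintype.ofFinite (MulAction.orbit H x)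
  obtain ⟨y, z, hy, hz, hyz⟩ : ∃ y z : MulAction.orbit H x,
      (y : OnePoint k) ≠ x ∧ (z : OnePoint k) ≠ x ∧ (y : OnePoint k) ≠ z := by
    obtain ⟨a, b, c, -, -, -, hab, hac, hbc⟩ := Finset.two_lt_card_iff.mp
      (show 2 < (Finset.univ : Finset (MulAction.orbit H x)).card by
        rw [Finset.card_univ, ← Nat.card_eq_fintype_card]; omega)
    by_cases ha : (a : OnePoint k) = x
    · exact ⟨b, c, fun h => hab (Subtype.ext (ha.trans h.symm)),
        fun h => hac (Subtype.ext (ha.trans h.symm)), Subtype.coe_injective.ne hbc⟩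
    · by_cases hb : (b : OnePoint k) = x
      · exact ⟨a, c, ha, fun h => hbc (Subtype.ext (hb.trans h.symm)),
          Subtype.coe_injective.ne hac⟩
      · exact ⟨a, b, ha, hb, Subtype.coe_injective.ne hab⟩
  obtain ⟨g₀, hg1, hg2, hg3⟩ := exists_smul_three (Ne.symm hy) (Ne.symm hz) hyz
  refine ⟨g₀, ?_⟩
  obtain ⟨c, rfl⟩ : ∃ c : PG k, g₀ = c⁻¹ := ⟨g₀⁻¹, (inv_inv g₀).symm⟩
  rw [inv_inv]
  rw [inv_smul_eq_iff] at hg1 hg2 hg3
  set H' := H.map (MulAut.conj c).toMonoidHom with hH'
  let φ : H ≃* H' := H.equivMapOfInjective _ (MulAut.conj c).injective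
  have hφ : ∀ (h : H) (w : OnePoint k), φ h • (c • w) = c • (h • w) := by
    intro h w
    show (c * (h : PG k) * c⁻¹) • (c • w) = _
    rw [mul_smul, inv_smul_smul, mul_smul, coe_smul_onePoint]
  haveI : Finite H' := Finite.of_equiv H φ.toEquiv
  have horb' : MulAction.orbit H' (∞ : OnePoint k) = (fun w => c • w) '' MulAction.orbit H x := by
    rw [hg1]
    ext w
    constructor
    · rintro ⟨h', rfl⟩
      obtain ⟨h, rfl⟩ := φ.surjective h'
      exact ⟨h • x, ⟨h, rfl⟩, (hφ h x).symm⟩
    · rintro ⟨_, ⟨h, rfl⟩, rfl⟩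
      exact ⟨φ h, hφ h x⟩
  have hpow : ∀ h : H, (φ h : PG k) ^ p = 1 ↔ (h : PG k) ^ p = 1 := by
    intro h
    show (c * (h : PG k) * c⁻¹) ^ p = 1 ↔ _
    rw [conj_pow, conj_eq_one_iff]
  have hs' : Nat.card (unip p H' (∞ : OnePoint k)) = s := by
    rw [← hs, hg1]
    refine (Nat.card_congr (φ.toEquiv.subtypeEquiv fun h => ?_)).symm
    show h ∈ unip p H x ↔ φ h ∈ unip p H' (c • x)
    rw [mem_unip, mem_unip, hφ, smul_left_cancel_iff, hpow]
  have ht' : Nat.card (stab H' (∞ : OnePoint k)) = s * t := by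
    rw [← ht, hg1]
    refine (Nat.card_congr (φ.toEquiv.subtypeEquiv fun h => ?_)).symm
    show h ∈ stab H x ↔ φ h ∈ stab H' (c • x)
    rw [MulAction.mem_stabilizer_iff, MulAction.mem_stabilizer_iff, hφ, smul_left_cancel_iff]
  have ho' : Nat.card (MulAction.orbit H' (∞ : OnePoint k)) = s + 1 := by
    rw [horb', Nat.card_image_of_injective (MulAction.injective c), ho]
  obtain ⟨E, hEfin, hEcard, hEorb, hE⟩ := field_case_normalized p H' hs' hs2 ht' hts ho'
    (by rw [horb']; exact ⟨y, y.2, hg2.symm⟩) (by rw [horb']; exact ⟨z, z.2, hg3.symm⟩)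
  refine ⟨E, hEfin, fun w => ?_, ?_⟩
  · rw [← hEorb, horb', (MulAction.injective c).mem_set_image]
    constructor
    · rintro ⟨h, h1, hh, hw⟩
      exact horbit h w h1 hh hw
    · rintro ⟨d, rfl⟩
      obtain ⟨u, hu⟩ : ∃ u : unip p H x, u ≠ 1 := by
        haveI : Nontrivial (unip p H x) := Finite.one_lt_card_iff_nontrivial.mp (by omega)
        exact exists_ne 1
      refine ⟨d * (u : H) * d⁻¹, fun e => hu (Subtype.ext (conj_eq_one_iff.mp e)), ?_, ?_⟩
      · rw [Subgroup.coe_mul, Subgroup.coe_mul, Subgroup.coe_inv, conj_pow, u.2.2, mul_one,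
          mul_inv_cancel]
      · show (d * (u : H) * d⁻¹) • (d • x) = d • x
        rw [mul_smul, inv_smul_smul, mul_smul, u.2.1]
  · rcases hE with ⟨e, -⟩ | ⟨e, h2⟩
    · exact Or.inl e
    · refine Or.inr ⟨?_, e⟩
      rintro rfl
      have hpu : IsPGroup 2 (unip 2 H x) := fun u => ⟨1, by
        rw [pow_one]; exact Subtype.ext (Subtype.ext u.2.2)⟩
      obtain ⟨j, hj⟩ := IsPGroup.iff_card.mp hpu
      rw [hs] at hj
      cases j with
      | zero => omega
      | succ j => rw [pow_succ] at hj; omega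

/-- The data of the orbits of fixed points. -/
theorem card_fixedPts_eq_sum [Fintype (Quotient (MulAction.orbitRel H (fixedPts H)))] :
    Nat.card (fixedPts H) = ∑ q : Quotient (MulAction.orbitRel H (fixedPts H)),
      Nat.card (MulAction.orbit H (q.out : OnePoint k)) := by
  classical
  letI : ∀ q : Quotient (MulAction.orbitRel H (fixedPts H)), Finite (MulAction.orbit H q.out) :=
    fun q => inferInstance
  rw [Nat.card_congr (MulAction.selfEquivSigmaOrbits H (fixedPts H)), Nat.card_sigma]
  exact Finset.sum_congr rfl fun q _ => (card_orbit_coe H q.out).symm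

theorem mem_orbit_out (x : fixedPts H) :
    (x : OnePoint k) ∈ MulAction.orbit H
      ((Quotient.mk (MulAction.orbitRel H (fixedPts H)) x).out : OnePoint k) := by
  obtain ⟨c, hc⟩ : x ∈ MulAction.orbit H (Quotient.mk (MulAction.orbitRel H (fixedPts H)) x).out :=
    MulAction.orbitRel_apply.mp ((MulAction.orbitRel H (fixedPts H)).symm
      (@Quotient.mk_out _ (MulAction.orbitRel H (fixedPts H)) x))
  exact ⟨c, congrArg Subtype.val hc⟩

set_option maxHeartbeats 1000000 in
/-- Without elements of order `p`: cyclic, dihedral, `A₄`, `S₄` or `A₅`. -/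
theorem classify_tame (hU : numUnip p H = 0) :
    IsTorusType p H ∨ IsDihedralType p H ∨ Nonempty (H ≃* alternatingGroup (Fin 4)) ∨
      Nonempty (H ≃* Equiv.Perm (Fin 4)) ∨ Nonempty (H ≃* alternatingGroup (Fin 5)) := by
  classical
  letI : Fintype (Quotient (MulAction.orbitRel H (fixedPts H))) := Fintype.ofFinite _
  have hnop : ∀ h : H, h ≠ 1 → (h : PG k) ^ p ≠ 1 := by
    intro h h1 hh
    haveI : Nonempty {h : H // h ≠ 1 ∧ (h : PG k) ^ p = 1} := ⟨⟨h, h1, hh⟩⟩
    exact Nat.card_pos.ne' hU
  have hno : ∀ (x : OnePoint k) (h : H), h ≠ 1 → (h : PG k) ^ p = 1 → h • x ≠ x :=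
    fun x h h1 hh => absurd hh (hnop h h1)
  have hcnt := counting p H
  rw [hU, card_fixedPts_eq_sum H, add_zero] at hcnt
  set r := Nat.card (Quotient (MulAction.orbitRel H (fixedPts H))) with hr
  set o := fun q : Quotient (MulAction.orbitRel H (fixedPts H)) =>
    Nat.card (MulAction.orbit H (q.out : OnePoint k)) with ho
  set e := fun q : Quotient (MulAction.orbitRel H (fixedPts H)) =>
    Nat.card (stab H (q.out : OnePoint k)) with he
  have hoe : ∀ q, o q * e q = Nat.card H := fun q => card_stab_mul H _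
  have he2 : ∀ q, 2 ≤ e q := fun q => (orbit_facts H q.out).2
  have hg : 0 < Nat.card H := Nat.card_pos
  change (∑ q, o q) + 2 * Nat.card H = r * Nat.card H + 2 at hcnt
  have hbound : 2 * ∑ q, o q ≤ r * Nat.card H := by
    rw [Finset.mul_sum, hr, Nat.card_eq_fintype_card, ← Finset.card_univ, ← smul_eq_mul,
      ← Finset.sum_const]
    refine Finset.sum_le_sum fun q _ => ?_
    calc 2 * o q = o q * 2 := mul_comm _ _
      _ ≤ o q * e q := Nat.mul_le_mul_left _ (he2 q)
      _ = _ := hoe q
  have hr3 : r ≤ 3 := by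
    by_contra hne
    have : 4 * Nat.card H ≤ r * Nat.card H := Nat.mul_le_mul_right _ (by omega)
    omega
  rcases (show r = 0 ∨ r = 1 ∨ r = 2 ∨ r = 3 by omega) with h | h | h | h
  · -- the trivial group
    haveI : IsEmpty (Quotient (MulAction.orbitRel H (fixedPts H))) :=
      Finite.card_eq_zero_iff.mp h
    rw [h, Finset.univ_eq_empty, Finset.sum_empty] at hcnt
    haveI : Subsingleton H := Finite.card_le_one_iff_subsingleton.mp (by omega)
    refine Or.inl ⟨inferInstance, ?_, ∞, ((0 : k) : OnePoint k), OnePoint.infty_ne_coe _,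
      fun h => ?_⟩
    · rw [show Nat.card H = 1 by omega, Nat.dvd_one]
      exact hp.out.ne_one
    · rw [Subsingleton.elim h 1, one_smul, one_smul]
      exact ⟨rfl, rfl⟩
  · rw [h] at hcnt hbound
    obtain ⟨q⟩ := (Nat.card_ne_zero.mp (by omega :
      Nat.card (Quotient (MulAction.orbitRel H (fixedPts H))) ≠ 0)).1
    have h1 : 1 ≤ o q := Nat.pos_of_ne_zero fun h0 => by
      have := hoe q
      rw [h0, zero_mul] at this
      omega
    have h2 : o q ≤ ∑ q, o q := Finset.single_le_sum (fun _ _ => Nat.zero_le _) (Finset.mem_univ q)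
    omega
  · -- two orbits: a torus
    obtain ⟨q₁, q₂, hne, huniv⟩ := Nat.card_eq_two_iff.mp h
    have hu : (Finset.univ : Finset (Quotient (MulAction.orbitRel H (fixedPts H)))) = {q₁, q₂} := by
      ext q
      have := huniv.ge (Set.mem_univ q)
      simpa using this
    rw [h, hu, Finset.sum_pair hne] at hcnt
    have hpos : ∀ q, 0 < o q := fun q => Nat.pos_of_ne_zero fun h0 => by
      have := hoe q
      rw [h0, zero_mul] at this
      omega
    have := hpos q₁
    have := hpos q₂
    have hfix : ∀ q, o q = 1 → ∀ h : H, h • (q.out : OnePoint k) = q.out := by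
      intro q hq h
      haveI := finite_orbit H (q.out : OnePoint k)
      haveI : Subsingleton (MulAction.orbit H (q.out : OnePoint k)) :=
        Finite.card_le_one_iff_subsingleton.mp hq.le
      exact congrArg Subtype.val (Subsingleton.elim
        (⟨h • (q.out : OnePoint k), h, rfl⟩ : MulAction.orbit H (q.out : OnePoint k))
        ⟨_, MulAction.mem_orbit_self _⟩)
    have htop : stab H (q₁.out : OnePoint k) = ⊤ := by
      ext h
      simpa using hfix q₁ (by omega) h
    obtain ⟨hcyc, hpd⟩ := torus_stab p H (q₁.out : OnePoint k) (hno _)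
    rw [htop] at hcyc hpd
    rw [Nat.card_congr Subgroup.topEquiv.toEquiv] at hpd
    refine Or.inl ⟨isCyclic_of_surjective (Subgroup.topEquiv (G := H)).toMonoidHom
      Subgroup.topEquiv.surjective, hpd, _, _, ?_, fun h => ⟨hfix q₁ (by omega) h,
      hfix q₂ (by omega) h⟩⟩
    intro heq
    exact hne (by rw [← q₁.out_eq, ← q₂.out_eq, Subtype.ext heq])
  · -- three orbits
    let eqv : Fin 3 ≃ Quotient (MulAction.orbitRel H (fixedPts H)) :=
      (Finite.equivFinOfCardEq h).symm
    let σ : Fin 3 ≃ Quotient (MulAction.orbitRel H (fixedPts H)) :=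
      (Tuple.sort (e ∘ eqv)).trans eqv
    have hmono : Monotone (e ∘ σ) := Tuple.monotone_sort (e ∘ eqv)
    have hsum : ∑ q, o q = o (σ 0) + o (σ 1) + o (σ 2) := by
      rw [← σ.sum_comp, Fin.sum_univ_three]
    rw [h, hsum] at hcnt
    obtain ⟨e0, hcases⟩ := arith_three (hoe (σ 0)) (hoe (σ 1)) (hoe (σ 2)) (he2 _)
      (hmono (show (0 : Fin 3) ≤ 1 by decide)) (hmono (show (1 : Fin 3) ≤ 2 by decide))
      (show o (σ 0) + o (σ 1) + o (σ 2) = Nat.card H + 2 by omega)
    have hord : ∀ h : H, h ≠ 1 → ∃ i, orderOf h ∣ e (σ i) := by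
      intro h h1
      obtain ⟨x, hx⟩ := exists_fixed (h : PG k)
      let q : Quotient (MulAction.orbitRel H (fixedPts H)) := Quotient.mk _ ⟨x, h, h1, hx⟩
      refine ⟨σ.symm q, ?_⟩
      rw [σ.apply_symm_apply]
      obtain ⟨c, hc⟩ := mem_orbit_out H ⟨x, h, h1, hx⟩
      simp only at hc
      have hm : c⁻¹ * h * c ∈ stab H (q.out : OnePoint k) := by
        show (c⁻¹ * h * c) • (q.out : OnePoint k) = _
        rw [mul_smul, mul_smul, hc, coe_smul_onePoint H h x, hx, inv_smul_eq_iff, hc]
      have hd := Subgroup.orderOf_dvd_natCard _ hm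
      rwa [show c⁻¹ * h * c = MulAut.conj c⁻¹ h by simp, MulEquiv.orderOf_eq] at hd
    rcases hcases with ⟨h1, h2, h3⟩ | ⟨h1, h2, h3⟩ | ⟨h1, h2, h3⟩ | ⟨h1, h2, h3⟩
    · exact Or.inr (Or.inl (dihedral_of_orbit_two p H _ h2 (hno _) (he2 _)))
    · have h4 : o (σ 2) = 4 := by
        have := hoe (σ 2)
        rw [h3] at this
        omega
      haveI : FaithfulSMul H (MulAction.orbit H ((σ 2).out : OnePoint k)) := ⟨fun {a b} hab => by
        refine (inv_mul_eq_one.mp (eq_one_of_fix_orbit H _ (by
          change 3 ≤ o (σ 2); omega) (b⁻¹ * a) fun y => ?_)).symm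
        rw [mul_smul, inv_smul_eq_iff]
        exact congrArg Subtype.val (hab y)⟩
      exact Or.inr (Or.inr (Or.inl (alt_four_of_faithful
        (α := MulAction.orbit H ((σ 2).out : OnePoint k)) h4 h1)))
    · refine Or.inr (Or.inr (Or.inr (Or.inl (Cfsg.Agent.S1012.result h1 fun h h6 => ?_))))
      obtain ⟨i, hi⟩ := hord h (fun e1 => by rw [e1, orderOf_one] at h6; omega)
      rw [h6] at hi
      rcases (show i = 0 ∨ i = 1 ∨ i = 2 by omega) with rfl | rfl | rfl
      · rw [e0] at hi; omega
      · rw [h2] at hi; omega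
      · rw [h3] at hi; omega
    · refine Or.inr (Or.inr (Or.inr (Or.inr ?_)))
      refine alt_five_of_orbit p H ((σ 0).out : OnePoint k) h1 (fun h h4 => ?_)
        (fun u hu => hnop u (fun e1 => by rw [e1, orderOf_one] at hu; omega)) ?_ ?_ ?_
      · obtain ⟨i, hi⟩ := hord h (fun e1 => by rw [e1, orderOf_one] at h4; omega)
        rw [h4] at hi
        rcases (show i = 0 ∨ i = 1 ∨ i = 2 by omega) with rfl | rfl | rfl
        · rw [e0] at hi; omega
        · rw [h2] at hi; omega
        · rw [h3] at hi; omega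
      · intro u y hu hy
        have hu1 : u ≠ 1 := fun e1 => by rw [e1, orderOf_one] at hu; omega
        obtain ⟨c, hc⟩ := mem_orbit_out H ⟨y, u, hu1, hy⟩
        simp only at hc
        set q : Quotient (MulAction.orbitRel H (fixedPts H)) := Quotient.mk _ ⟨y, u, hu1, hy⟩
        have hm : c⁻¹ * u * c ∈ stab H (q.out : OnePoint k) := by
          show (c⁻¹ * u * c) • (q.out : OnePoint k) = _
          rw [mul_smul, mul_smul, hc, hy, inv_smul_eq_iff, hc]
        have hd := Subgroup.orderOf_dvd_natCard _ hm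
        rw [show c⁻¹ * u * c = MulAut.conj c⁻¹ u by simp, MulEquiv.orderOf_eq, hu] at hd
        change 2 ∣ e q at hd
        obtain ⟨i, hi⟩ := σ.surjective q
        rw [← hi] at hd
        have hi0 : i = 0 := by
          rcases (show i = 0 ∨ i = 1 ∨ i = 2 by omega) with rfl | rfl | rfl
          · rfl
          · rw [h2] at hd; omega
          · rw [h3] at hd; omega
        subst hi0
        exact ⟨c, by rw [hi]; exact hc⟩
      · have h30 : o (σ 0) = 30 := by
          have := hoe (σ 0)
          rw [e0] at this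
          omega
        suffices Nat.card {u : H // orderOf u = 2 ∧ u • ((σ 0).out : OnePoint k) = (σ 0).out} = 1 by
          rw [this, mul_one]
          exact h30
        obtain ⟨w, hw, huniq⟩ : ∃ w : stab H ((σ 0).out : OnePoint k), w ≠ 1 ∧
            ∀ v, v ≠ 1 → v = w := by
          obtain ⟨a, b, hab, hu⟩ := Nat.card_eq_two_iff.mp
            (show Nat.card (stab H ((σ 0).out : OnePoint k)) = 2 from e0)
          have hall : ∀ z : stab H ((σ 0).out : OnePoint k), z = a ∨ z = b := fun z => by
            simpa using hu.ge (Set.mem_univ z)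
          rcases hall 1 with ha | hb
          · exact ⟨b, fun e1 => hab (ha.symm.trans e1.symm), fun v hv =>
              (hall v).resolve_left fun e1 => hv (e1.trans ha.symm)⟩
          · exact ⟨a, fun e1 => hab (e1.trans hb), fun v hv =>
              (hall v).resolve_right fun e1 => hv (e1.trans hb.symm)⟩
        have hw2 : orderOf (w : H) = 2 := by
          have hd := Subgroup.orderOf_dvd_natCard _ w.2
          rw [show Nat.card (stab H ((σ 0).out : OnePoint k)) = 2 from e0] at hd
          exact ((Nat.dvd_prime Nat.prime_two).mp hd).resolve_left fun e1 =>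
            hw (Subtype.ext (orderOf_eq_one_iff.mp e1))
        haveI : Nonempty {u : H // orderOf u = 2 ∧ u • ((σ 0).out : OnePoint k) = (σ 0).out} :=
          ⟨⟨w, hw2, w.2⟩⟩
        haveI : Subsingleton {u : H // orderOf u = 2 ∧ u • ((σ 0).out : OnePoint k) = (σ 0).out} :=
          ⟨fun a b => by
            have key : ∀ c : {u : H // orderOf u = 2 ∧
                u • ((σ 0).out : OnePoint k) = (σ 0).out}, (c : H) = w := fun c =>
              congrArg Subtype.val (huniq ⟨c.1, c.2.2⟩ fun e1 => by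
                have hc := c.2.1
                rw [show c.1 = 1 from congrArg Subtype.val e1, orderOf_one] at hc
                omega)
            exact Subtype.ext ((key a).trans (key b).symm)⟩
        exact Nat.card_unique
      · intro u v hu hv hux hvx
        have h2 : Nat.card (stab H ((σ 0).out : OnePoint k)) = 2 := e0
        obtain ⟨a, b, hab, huniv⟩ := Nat.card_eq_two_iff.mp h2
        have hall : ∀ z : stab H ((σ 0).out : OnePoint k), z = a ∨ z = b := fun z => by
          simpa using huniv.ge (Set.mem_univ z)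
        have : u = v := by
          rcases hall ⟨u, hux⟩ with e1 | e1 <;> rcases hall ⟨v, hvx⟩ with e2 | e2 <;>
            rcases hall 1 with e3 | e3
          all_goals first
            | exact congrArg Subtype.val (e1.trans e2.symm)
            | exact absurd hu (by
                rw [show u = 1 from congrArg Subtype.val (e1.trans e3.symm), orderOf_one]; omega)
            | exact absurd hv (by
                rw [show v = 1 from congrArg Subtype.val (e2.trans e3.symm), orderOf_one]; omega)
        subst this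
        exact IsConj.refl u

set_option maxHeartbeats 1000000 in
/-- With elements of order `p`: a common fixed point, dihedral, a field type or `A₅`. -/
theorem classify_wild (hU : numUnip p H ≠ 0) :
    IsBorelType p H ∨ IsDihedralType p H ∨
      (p = 3 ∧ Nonempty (H ≃* alternatingGroup (Fin 5))) ∨ IsFieldType p H := by
  classical
  letI : Fintype (Quotient (MulAction.orbitRel H (fixedPts H))) := Fintype.ofFinite _
  obtain ⟨x, horbit, hs2, hUeq, hn⟩ := unip_data p H hU
  obtain ⟨s, hs⟩ : ∃ s, Nat.card (unip p H (x : OnePoint k)) = s := ⟨_, rfl⟩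
  obtain ⟨t, hst, hpt, hts, ht0, -⟩ := stab_structure p H (x : OnePoint k)
  obtain ⟨n, hn'⟩ : ∃ n, Nat.card (MulAction.orbit H (x : OnePoint k)) = n := ⟨_, rfl⟩
  rw [← card_orbit_coe, hn', hs] at hUeq hn
  rw [hs] at hs2 hst hts
  have hgn : n * (s * t) = Nat.card H := by
    rw [← hn', ← hst]
    exact card_stab_mul H (x : OnePoint k)
  have hdp : p ∣ Nat.card H := by
    obtain ⟨u, hu⟩ : ∃ u : unip p H (x : OnePoint k), u ≠ 1 := by
      haveI : Nontrivial (unip p H (x : OnePoint k)) :=
        Finite.one_lt_card_iff_nontrivial.mp (by omega)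
      exact exists_ne 1
    have : orderOf (u : H) = p := orderOf_eq_prime (Subtype.ext u.2.2)
      fun e1 => hu (Subtype.ext e1)
    exact this ▸ orderOf_dvd_natCard _
  have hborel : n = 1 → IsBorelType p H := by
    intro h1
    refine ⟨hdp, (x : OnePoint k), fun h => ?_⟩
    haveI := finite_orbit H (x : OnePoint k)
    haveI : Subsingleton (MulAction.orbit H (x : OnePoint k)) :=
      Finite.card_le_one_iff_subsingleton.mp (by omega)
    exact congrArg Subtype.val (Subsingleton.elim
      (⟨h • (x : OnePoint k), h, rfl⟩ : MulAction.orbit H (x : OnePoint k))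
      ⟨_, MulAction.mem_orbit_self _⟩)
  set q₀ : Quotient (MulAction.orbitRel H (fixedPts H)) := Quotient.mk _ x with hq₀
  have hcnt := counting p H
  rw [card_fixedPts_eq_sum H, ← Finset.add_sum_erase _ _ (Finset.mem_univ q₀),
    show Nat.card (MulAction.orbit H (q₀.out : OnePoint k)) = n by
      rw [← hn', MulAction.orbit_eq_iff.mpr (mem_orbit_out H x)],
    hUeq, Nat.card_eq_fintype_card (α := Quotient _), ← Finset.card_univ,
    ← Finset.card_erase_add_one (Finset.mem_univ q₀)] at hcnt
  set T := (Finset.univ : Finset (Quotient (MulAction.orbitRel H (fixedPts H)))).erase q₀ with hT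
  have hnoT : ∀ q ∈ T, ∀ h : H, h ≠ 1 → (h : PG k) ^ p = 1 →
      h • (q.out : OnePoint k) ≠ q.out := by
    intro q hq h h1 hh hfix
    refine Finset.ne_of_mem_erase hq ?_
    rw [hq₀, ← q.out_eq]
    obtain ⟨c, hc⟩ := horbit h _ h1 hh hfix
    exact Quotient.sound (MulAction.orbitRel_apply.mpr ⟨c, Subtype.ext hc⟩)
  have hTb : 2 * (∑ q ∈ T, Nat.card (MulAction.orbit H (q.out : OnePoint k))) ≤
      T.card * Nat.card H := by
    rw [Finset.mul_sum, ← smul_eq_mul, ← Finset.sum_const]
    refine Finset.sum_le_sum fun q _ => ?_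
    calc 2 * _ = Nat.card (MulAction.orbit H (q.out : OnePoint k)) * 2 := mul_comm _ _
      _ ≤ _ * Nat.card (stab H (q.out : OnePoint k)) :=
        Nat.mul_le_mul_left _ (orbit_facts H q.out).2
      _ = _ := card_stab_mul H _
  have hg : 0 < Nat.card H := Nat.card_pos
  rw [add_mul, one_mul] at hcnt
  have hns : n ≤ n * (s - 1) := Nat.le_mul_of_pos_right _ (by omega)
  have hT1 : T.card ≤ 1 := by
    by_contra hne
    have : 2 * Nat.card H ≤ T.card * Nat.card H := Nat.mul_le_mul_right _ (by omega)
    omega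
  rcases (show T.card = 0 ∨ T.card = 1 by omega) with hT0 | hT0
  · -- one orbit only
    rw [Finset.card_eq_zero.mp hT0, Finset.sum_empty, Finset.card_empty] at hcnt
    refine Or.inl (hborel ?_)
    have h1 : n * (s - 1) + 2 = n * (1 + s * t) := by rw [mul_add, mul_one, hgn]; omega
    have h2 : n ∣ 2 := (Nat.dvd_add_right (dvd_mul_right n (s - 1))).mp ⟨_, h1⟩
    rcases (Nat.dvd_prime Nat.prime_two).mp h2 with h | h
    · exact h
    · subst h
      rcases (show s = 2 ∨ 2 < s by omega) with hs' | hs'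
      · subst hs'; simp at hn
      · rw [Nat.mod_eq_of_lt hs'] at hn; omega
  · obtain ⟨q, hq⟩ := Finset.card_eq_one.mp hT0
    rw [hq, Finset.sum_singleton, Finset.card_singleton] at hcnt
    have hqT : q ∈ T := by rw [hq]; exact Finset.mem_singleton_self q
    obtain ⟨y, hy⟩ : ∃ y : OnePoint k, y = q.out := ⟨_, rfl⟩
    rw [← hy] at hcnt
    obtain ⟨o, ho⟩ : ∃ o, Nat.card (MulAction.orbit H y) = o := ⟨_, rfl⟩
    rw [ho] at hcnt
    have hoe : o * Nat.card (stab H y) = n * (s * t) := by
      rw [hgn, ← ho]; exact card_stab_mul H y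
    have hon : o + n = n * (s - 1) + 2 := by omega
    have hno : ∀ h : H, h ≠ 1 → (h : PG k) ^ p = 1 → h • y ≠ y := by
      rw [hy]; exact hnoT q hqT
    have he2 : 2 ≤ Nat.card (stab H y) := by rw [hy]; exact (orbit_facts H q.out).2
    by_cases hn1 : n = 1
    · exact Or.inl (hborel hn1)
    obtain ⟨j, hj⟩ : ∃ j, n = 1 + j * s :=
      ⟨n / s, by have := Nat.div_add_mod' n s; omega⟩
    have hj1 : 1 ≤ j := Nat.pos_of_ne_zero fun h0 => hn1 (by simp [hj, h0])
    rcases (show s = 2 ∨ 3 ≤ s by omega) with hs' | hs'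
    · subst hs'
      norm_num at hon
      exact Or.inr (Or.inl (dihedral_of_orbit_two p H y (by omega) hno he2))
    · rcases arith_one hj hj1 hs' ht0 hts hon hoe with ⟨hns', hts'⟩ | ⟨rfl, rfl, rfl, he⟩
      · exact Or.inr (Or.inr (Or.inr (field_type p H _ horbit hs hs2 hst hts' (hn'.trans hns'))))
      · have hp3 : p = 3 := by
          have hpu : IsPGroup p (unip p H (x : OnePoint k)) := fun u => ⟨1, by
            rw [pow_one]; exact Subtype.ext (Subtype.ext u.2.2)⟩
          obtain ⟨i, hi⟩ := IsPGroup.iff_card.mp hpu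
          rw [hs] at hi
          exact ((Nat.prime_dvd_prime_iff_eq hp.out Nat.prime_three).mp
            (hi ▸ dvd_pow_self p (fun h0 => by simp [h0] at hi)))
        have h60 : Nat.card H = 60 := by rw [← hgn]
        have hinv : ∀ u : H, orderOf u = 2 → (u : PG k) ^ p ≠ 1 := by
          intro u hu hup
          have := orderOf_dvd_of_pow_eq_one
            (show u ^ p = 1 from Subtype.ext (by simpa using hup))
          rw [hu, hp3] at this
          omega
        have hcase : ∀ (h : H) (w : OnePoint k), h ≠ 1 → h • w = w →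
            w ∈ MulAction.orbit H (x : OnePoint k) ∨ orderOf h ∣ 5 := by
          intro h w h1 hw
          let wq : Quotient (MulAction.orbitRel H (fixedPts H)) := Quotient.mk _ ⟨w, h, h1, hw⟩
          by_cases hq' : wq = q₀
          · left
            obtain ⟨c, hc⟩ : (⟨w, h, h1, hw⟩ : fixedPts H) ∈ MulAction.orbit H x :=
              MulAction.orbitRel_apply.mp (Quotient.exact hq')
            exact ⟨c, congrArg Subtype.val hc⟩
          · right
            have : wq ∈ T := Finset.mem_erase.mpr ⟨hq', Finset.mem_univ _⟩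
            rw [hq, Finset.mem_singleton] at this
            obtain ⟨c, hc⟩ := mem_orbit_out H ⟨w, h, h1, hw⟩
            simp only at hc
            rw [show Quotient.mk (MulAction.orbitRel H (fixedPts H)) ⟨w, h, h1, hw⟩ = q from this,
              ← hy] at hc
            have hm : c⁻¹ * h * c ∈ stab H y := by
              show (c⁻¹ * h * c) • y = y
              rw [mul_smul, mul_smul, hc, hw, inv_smul_eq_iff, hc]
            have hd := Subgroup.orderOf_dvd_natCard _ hm
            rwa [show c⁻¹ * h * c = MulAut.conj c⁻¹ h by simp, MulEquiv.orderOf_eq, he] at hd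
        set U := (unip p H (x : OnePoint k)).subgroupOf (stab H (x : OnePoint k)) with hUdef
        have hUcard : Nat.card U = 3 := by
          rw [hUdef, Nat.card_congr (Subgroup.subgroupOfEquivOfLe
            (unip_le_stab p H (x : OnePoint k))).toEquiv, hs]
        have hUidx : U.index = 2 := by
          have := Subgroup.card_mul_index U
          rw [hUcard, hst] at this
          omega
        have hout : ∀ u : H, u • (x : OnePoint k) = x → (u : PG k) ^ p ≠ 1 → u * u = 1 := by
          intro u hux hup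
          have hu1 : u ≠ 1 := fun e1 => hup (by simp [e1])
          obtain ⟨z, hz, hzx⟩ : ∃ z, u • z = z ∧ z ≠ (x : OnePoint k) := by
            by_contra hc
            refine hup (pow_char_of_unique_fixed p (show (u : PG k) • (x : OnePoint k) = x from hux)
              fun z hz => ?_)
            by_contra hne
            exact hc ⟨z, hz, hne⟩
          have hsq : u * u ∈ unip p H (x : OnePoint k) :=
            Subgroup.mem_subgroupOf.mp (Subgroup.mul_self_mem_of_index_two hUidx ⟨u, hux⟩)
          by_contra hne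
          refine hzx (unique_fixed_of_pow_char p (fun e1 => hne (Subtype.ext e1)) hsq.2
            ?_ ?_)
          · show (u * u) • (x : OnePoint k) = x
            rw [mul_smul, hux, hux]
          · show (u * u) • z = z
            rw [mul_smul, hz, hz]
        refine Or.inr (Or.inr (Or.inl ⟨hp3, ?_⟩))
        refine alt_five_of_orbit p H (x : OnePoint k) h60 (fun h h4 => ?_) hinv ?_ ?_ ?_
        · have h1 : h ≠ 1 := fun e1 => by rw [e1, orderOf_one] at h4; omega
          obtain ⟨w, hw⟩ := exists_fixed (h : PG k)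
          rcases hcase h w h1 hw with ⟨c, hc⟩ | hd
          · simp only at hc
            have hm : c⁻¹ * h * c ∈ stab H (x : OnePoint k) := by
              show (c⁻¹ * h * c) • (x : OnePoint k) = x
              rw [mul_smul, mul_smul, hc, coe_smul_onePoint H h w, hw, inv_smul_eq_iff, hc]
            have hd := Subgroup.orderOf_dvd_natCard _ hm
            rw [show c⁻¹ * h * c = MulAut.conj c⁻¹ h by simp, MulEquiv.orderOf_eq, h4, hst] at hd
            omega
          · rw [h4] at hd; omega
        · intro u w hu hw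
          rcases hcase u w (fun e1 => by rw [e1, orderOf_one] at hu; omega) hw with h | h
          · exact h
          · rw [hu] at h; omega
        · suffices Nat.card {u : H // orderOf u = 2 ∧ u • (x : OnePoint k) = x} = 3 by
            rw [this, hn']
          have e : {u : H // orderOf u = 2 ∧ u • (x : OnePoint k) = x} ≃
              {z : stab H (x : OnePoint k) // z ∉ U} :=
            { toFun := fun u => ⟨⟨u.1, u.2.2⟩, fun hz =>
                hinv u.1 u.2.1 (Subgroup.mem_subgroupOf.mp hz).2⟩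
              invFun := fun z => ⟨z.1.1, orderOf_eq_prime (by
                  rw [pow_two]
                  exact hout z.1.1 z.1.2 fun hp' => z.2 (Subgroup.mem_subgroupOf.mpr ⟨z.1.2, hp'⟩))
                (fun e1 => z.2 (by
                  rw [show z.1 = 1 from Subtype.ext e1]; exact U.one_mem)), z.1.2⟩
              left_inv := fun _ => rfl
              right_inv := fun _ => rfl }
          letI := Fintype.ofFinite (stab H (x : OnePoint k))
          rw [Nat.card_congr e, Nat.card_eq_fintype_card, Fintype.card_subtype_compl,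
            ← Nat.card_eq_fintype_card, ← Nat.card_eq_fintype_card, hst, hUcard]
        · intro u v hu hv hux hvx
          have hup := hinv u hu
          have huu := hout u hux hup
          have hw : u * v ∈ unip p H (x : OnePoint k) := by
            have hu' : (⟨u, hux⟩ : stab H (x : OnePoint k)) ∉ U :=
              fun hz => hup (Subgroup.mem_subgroupOf.mp hz).2
            have hv' : (⟨v, hvx⟩ : stab H (x : OnePoint k)) ∉ U :=
              fun hz => hinv v hv (Subgroup.mem_subgroupOf.mp hz).2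
            exact Subgroup.mem_subgroupOf.mp
              ((Subgroup.mul_mem_iff_of_index_two hUidx).mpr (iff_of_false hu' hv'))
          set w := u * v with hwdef
          have hw3 : w ^ 3 = 1 := Subtype.ext (by
            have := hw.2
            rw [hp3] at this
            simpa using this)
          have hvw : v = u * w := by rw [hwdef, ← mul_assoc, huu, one_mul]
          have huw : u * w * (u * w) = 1 := by
            refine hout _ (by rw [mul_smul, hw.1, hux]) fun hc => ?_
            exact hinv v hv (by rw [hvw]; exact hc)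
          refine isConj_iff.mpr ⟨w, ?_⟩
          have h1 : w * u = u * w⁻¹ := by
            calc w * u = u⁻¹ * (u * w * (u * w)) * w⁻¹ := by group
              _ = u⁻¹ * w⁻¹ := by rw [huw, mul_one]
              _ = u * w⁻¹ := by rw [inv_eq_of_mul_eq_one_right huu]
          rw [h1, hvw, mul_assoc, ← _root_.mul_inv_rev]
          congr 1
          refine inv_eq_of_mul_eq_one_right ?_
          rw [← hw3, pow_three', mul_assoc]

/-- Dickson's classification. -/
theorem classify :
    IsTorusType p H ∨ IsDihedralType p H ∨ IsBorelType p H ∨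
      (¬ p ∣ Nat.card H ∧ Nonempty (H ≃* alternatingGroup (Fin 4))) ∨
      (¬ p ∣ Nat.card H ∧ Nonempty (H ≃* Equiv.Perm (Fin 4))) ∨
      ((¬ p ∣ Nat.card H ∨ p = 3) ∧ Nonempty (H ≃* alternatingGroup (Fin 5))) ∨
      IsFieldType p H := by
  by_cases hU : numUnip p H = 0
  · have hnd : ¬ p ∣ Nat.card H := by
      intro hd
      obtain ⟨u, hu⟩ := exists_prime_orderOf_dvd_card' p hd
      haveI : Nonempty {h : H // h ≠ 1 ∧ (h : PG k) ^ p = 1} :=
        ⟨⟨u, fun e1 => by rw [e1, orderOf_one] at hu; exact hp.out.one_lt.ne hu,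
          by rw [← Subgroup.coe_pow, ← hu, pow_orderOf_eq_one, Subgroup.coe_one]⟩⟩
      exact Nat.card_pos.ne' hU
    rcases classify_tame p H hU with h | h | h | h | h
    · exact Or.inl h
    · exact Or.inr (Or.inl h)
    · exact Or.inr (Or.inr (Or.inr (Or.inl ⟨hnd, h⟩)))
    · exact Or.inr (Or.inr (Or.inr (Or.inr (Or.inl ⟨hnd, h⟩))))
    · exact Or.inr (Or.inr (Or.inr (Or.inr (Or.inr (Or.inl ⟨Or.inl hnd, h⟩)))))
  · rcases classify_wild p H hU with h | h | h | h
    · exact Or.inr (Or.inr (Or.inl h))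
    · exact Or.inr (Or.inl h)
    · exact Or.inr (Or.inr (Or.inr (Or.inr (Or.inr (Or.inl ⟨Or.inr h.1, h.2⟩)))))
    · exact Or.inr (Or.inr (Or.inr (Or.inr (Or.inr (Or.inr h)))))

end Classify

end CfsgLib.PSL2Sub
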