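import Cfsg.Agent.Lib.PSL2Sub.Classify
import Cfsg.Agent.Lib.SL2Trace.Products

/-!
Dickson's theorem over a finite field: the subgroups of `PGL₂(q)` and `PSL₂(q)`.
-/

set_option autoImplicit false
set_option linter.unusedSectionVars false

namespace CfsgLib.PSL2Sub

open Matrix OnePoint

section MapFacts

variable {R S T : Type*} [Field R] [Field S] [Field T]

theorem pg_map_comp (f : S →+* T) (g : R →+* S) (x : PG R) :
    ProjGenLinGroup.map (n := Fin 2) (f.comp g) x =
      ProjGenLinGroup.map f (ProjGenLinGroup.map g x) := by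
  induction x using ProjGenLinGroup.induction_on with
  | mk x =>
    rw [ProjGenLinGroup.map_mk, ProjGenLinGroup.map_mk, ProjGenLinGroup.map_mk]
    rfl

theorem pg_map_surjective (f : R →+* S) (hf : Function.Bijective f) :
    Function.Surjective (ProjGenLinGroup.map (n := Fin 2) f) := by
  intro x
  let e := RingEquiv.ofBijective f hf
  refine ⟨ProjGenLinGroup.map (n := Fin 2) e.symm.toRingHom x, ?_⟩
  induction x using ProjGenLinGroup.induction_on with
  | mk x =>
    rw [ProjGenLinGroup.map_mk, ProjGenLinGroup.map_mk]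
    congr 1
    apply Units.ext
    ext i j
    exact e.apply_symm_apply _

theorem pg_map_toPGL (f : R →+* S) (g : SpecialLinearGroup (Fin 2) R) :
    ProjGenLinGroup.map (n := Fin 2) f (SpecialLinearGroup.toPGL g) =
      SpecialLinearGroup.toPGL (SpecialLinearGroup.map f g) := by
  show ProjGenLinGroup.map (n := Fin 2) f (ProjGenLinGroup.mk (SpecialLinearGroup.toGL g)) = _
  rw [ProjGenLinGroup.map_mk]
  show _ = ProjGenLinGroup.mk (SpecialLinearGroup.toGL (SpecialLinearGroup.map f g))
  congr 1
  ext i j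
  rfl

theorem sl_map_surjective (f : R →+* S) (hf : Function.Bijective f) :
    Function.Surjective (SpecialLinearGroup.map (n := Fin 2) f) := by
  intro x
  let e := RingEquiv.ofBijective f hf
  refine ⟨SpecialLinearGroup.map (n := Fin 2) e.symm.toRingHom x, ?_⟩
  ext i j
  exact e.apply_symm_apply _

theorem range_toPGL_eq (K : Type*) [Field K] :
    (SpecialLinearGroup.toPGL : SpecialLinearGroup (Fin 2) K →* PG K).range =
      (ProjectiveSpecialLinearGroup.toPGL :
        ProjectiveSpecialLinearGroup (Fin 2) K →* PG K).range := by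
  ext z
  constructor
  · rintro ⟨g, rfl⟩; exact ⟨QuotientGroup.mk g, rfl⟩
  · rintro ⟨g, rfl⟩
    induction g using QuotientGroup.induction_on with
    | H g => exact ⟨g, rfl⟩

end MapFacts

section Transport

variable {G G' : Type*} [Group G] [Group G']

theorem isDihedral_transport (e : G ≃* G') {n : ℕ} (h : Nonempty (G ≃* DihedralGroup n)) :
    Nonempty (G' ≃* DihedralGroup n) :=
  h.map fun e' => e.symm.trans e'

end Transport

variable {F : Type*} [Field F] [Finite F] [DecidableEq F] (p : ℕ) [hp : Fact p.Prime] [CharP F p]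

/-- An element of order dividing `p` fixes a rational point. -/
theorem exists_fixed_of_pow_char (h : PG F) (hh : h ^ p = 1) :
    ∃ y : OnePoint F, h • y = y := by
  haveI : Finite (PG F) := Finite.of_surjective _ ProjGenLinGroup.mk_surjective
  have hP : IsPGroup p (Subgroup.zpowers h) := by
    obtain ⟨i, -, hi⟩ := (Nat.dvd_prime_pow hp.out).mp
      (show orderOf h ∣ p ^ 1 by simpa using orderOf_dvd_of_pow_eq_one hh)
    exact IsPGroup.of_card (n := i) (by rw [Nat.card_zpowers, hi])
  haveI : Finite (OnePoint F) := inferInstanceAs (Finite (Option F))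
  have hcard : ¬ p ∣ Nat.card (OnePoint F) := by
    letI := Fintype.ofFinite F
    obtain ⟨n, -, hn⟩ := FiniteField.card F p
    rw [show Nat.card (OnePoint F) = Nat.card F + 1 from Finite.card_option,
      Nat.card_eq_fintype_card, hn, Nat.dvd_add_right (dvd_pow_self p n.ne_zero)]
    exact hp.out.not_dvd_one
  obtain ⟨y, hy⟩ := hP.nonempty_fixed_point_of_prime_not_dvd_card (OnePoint F) hcard
  exact ⟨y, hy ⟨h, Subgroup.mem_zpowers h⟩⟩

/-- Dickson's theorem for subgroups of `PGL₂(q)`. -/
theorem classify_finite (H : Subgroup (PG F)) :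
    (IsCyclic H ∧ ¬ p ∣ Nat.card H) ∨ IsDihedralType p H ∨ IsBorelType p H ∨
      (¬ p ∣ Nat.card H ∧ Nonempty (H ≃* alternatingGroup (Fin 4))) ∨
      (¬ p ∣ Nat.card H ∧ Nonempty (H ≃* Equiv.Perm (Fin 4))) ∨
      ((¬ p ∣ Nat.card H ∨ p = 3) ∧ Nonempty (H ≃* alternatingGroup (Fin 5))) ∨
      IsFieldType p H := by
  classical
  haveI : Finite (PG F) := Finite.of_surjective _ ProjGenLinGroup.mk_surjective
  let k := AlgebraicClosure F
  let f : F →+* k := algebraMap F k
  haveI : CharP k p := charP_of_injective_ringHom f.injective p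
  set φ : PG F →* PG k := ProjGenLinGroup.map (n := Fin 2) f with hφ
  have hinj : Function.Injective φ := map_injective_pgl f
  let e : H ≃* H.map φ := H.equivMapOfInjective φ hinj
  haveI : Finite (H.map φ) := Finite.of_equiv H e.toEquiv
  have he : ∀ h : H, (e h : PG k) = φ (h : PG F) := fun h => rfl
  have hcard : Nat.card (H.map φ) = Nat.card H := (Nat.card_congr e.toEquiv).symm
  have hrat : ∀ (h : H.map φ) (x : OnePoint k), h ≠ 1 → (h : PG k) ^ p = 1 → h • x = x →
      ∃ h₀ : H, ∃ y : OnePoint F, h₀ ≠ 1 ∧ (h₀ : PG F) ^ p = 1 ∧ h₀ • y = y ∧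
        x = OnePoint.map f y := by
    intro h x h1 hh hx
    obtain ⟨h₀, rfl⟩ := e.surjective h
    have h0p : (h₀ : PG F) ^ p = 1 := hinj (by rw [map_pow, map_one, ← he]; exact hh)
    obtain ⟨y, hy⟩ := exists_fixed_of_pow_char p _ h0p
    refine ⟨h₀, y, fun e1 => h1 (by rw [e1, map_one]), h0p, hy, ?_⟩
    refine unique_fixed_of_pow_char p (fun e1 => h1 (Subtype.ext e1)) hh ?_ hx
    show (e h₀ : PG k) • OnePoint.map f y = _
    rw [he, map_smul_onePoint, hy]
  rcases classify p (H.map φ) with h | h | h | h | h | h | h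
  · haveI := h.1
    exact Or.inl ⟨isCyclic_of_surjective e.symm.toMonoidHom e.symm.surjective, hcard ▸ h.2.1⟩
  · obtain ⟨A, hidx, hc, hp', h2, hd⟩ := h
    refine Or.inr (Or.inl ⟨A.map e.symm.toMonoidHom, ?_, ?_, ?_, ?_, ?_⟩)
    · exact (Subgroup.index_map_equiv A e.symm).trans hidx
    · exact isCyclic_of_surjective (A.equivMapOfInjective _ e.symm.injective).toMonoidHom
        (A.equivMapOfInjective _ e.symm.injective).surjective
    all_goals rw [← Nat.card_congr (A.equivMapOfInjective _ e.symm.injective).toEquiv]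
    · exact hp'
    · exact h2
    · exact isDihedral_transport e.symm hd
  · obtain ⟨hd, x, hx⟩ := h
    obtain ⟨u, hu⟩ := exists_prime_orderOf_dvd_card' p hd
    have hup : (u : PG k) ^ p = 1 := by
      rw [← Subgroup.coe_pow, ← hu, pow_orderOf_eq_one, Subgroup.coe_one]
    obtain ⟨-, y, -, -, -, hy⟩ := hrat u x
      (fun e1 => by rw [e1, orderOf_one] at hu; exact hp.out.one_lt.ne hu) hup (hx u)
    refine Or.inr (Or.inr (Or.inl ⟨hcard ▸ hd, y, fun h => onePoint_map_injective f ?_⟩))
    have := hx (e h)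
    rw [hy] at this
    show OnePoint.map f ((h : PG F) • y) = _
    rw [← map_smul_onePoint]
    exact this
  · exact Or.inr (Or.inr (Or.inr (Or.inl ⟨hcard ▸ h.1, h.2.map fun e' => e.trans e'⟩)))
  · exact Or.inr (Or.inr (Or.inr (Or.inr (Or.inl ⟨hcard ▸ h.1, h.2.map fun e' => e.trans e'⟩))))
  · exact Or.inr (Or.inr (Or.inr (Or.inr (Or.inr (Or.inl
      ⟨h.1.imp (fun h' => hcard ▸ h') id, h.2.map fun e' => e.trans e'⟩)))))
  · obtain ⟨g₀, E, hEfin, hpts, hH⟩ := h
    refine Or.inr (Or.inr (Or.inr (Or.inr (Or.inr (Or.inr ?_)))))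
    have hptsF : ∀ z : OnePoint E, ∃ y : OnePoint F,
        g₀ • OnePoint.map E.subtype z = OnePoint.map f y := by
      intro z
      obtain ⟨h, h1, hh, hx⟩ := (hpts (g₀ • OnePoint.map E.subtype z)).mpr
        ⟨z, (inv_smul_smul _ _).symm⟩
      obtain ⟨-, y, -, -, -, hy⟩ := hrat h _ h1 hh hx
      exact ⟨y, hy⟩
    obtain ⟨g₁, hg₁⟩ : g₀ ∈ φ.range := by
      obtain ⟨a, ha⟩ := hptsF ∞
      obtain ⟨b, hb⟩ := hptsF ((0 : E) : OnePoint E)
      obtain ⟨c, hc⟩ := hptsF ((1 : E) : OnePoint E)
      refine mem_range_map_of_three f (a := ∞) (b := ((0 : F) : OnePoint F))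
        (c := ((1 : F) : OnePoint F)) (OnePoint.infty_ne_coe _) (OnePoint.infty_ne_coe _)
        zero_ne_one_onePoint ?_ ?_ ?_ (x := a) (y := b) (z := c)
      · rw [← ha]; rfl
      · rw [← hb]; simp
      · rw [← hc]; simp
    subst hg₁
    have hmem : ∀ a : E, ∃ b : F, f b = (a : k) := by
      intro a
      obtain ⟨y, hy⟩ := hptsF ((a : E) : OnePoint E)
      have h2 := (eq_inv_smul_iff (g := φ g₁)).mpr hy
      rw [hφ, ← map_inv, map_smul_onePoint] at h2
      cases hg : g₁⁻¹ • y with
      | infty => rw [hg] at h2; exact absurd h2 (OnePoint.coe_ne_infty (a : k))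
      | coe b =>
        rw [hg] at h2
        exact ⟨b, (OnePoint.coe_eq_coe.mp h2).symm⟩
    let E₀ : Subfield F := E.comap f
    let ι : E₀ →+* E := (f.comp E₀.subtype).codRestrict E fun a => a.2
    have hι : Function.Bijective ι := by
      refine ⟨fun a b hab => Subtype.ext (f.injective (congrArg Subtype.val hab)), fun a => ?_⟩
      obtain ⟨b, hb⟩ := hmem a
      exact ⟨⟨b, show f b ∈ E by rw [hb]; exact a.2⟩, Subtype.ext hb⟩
    have hcomp : E.subtype.comp ι = f.comp E₀.subtype := by ext a; rfl
    refine ⟨g₁, E₀, Subtype.finite, fun y => ?_, ?_⟩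
    · have := hpts (OnePoint.map f y)
      rw [hφ, ← map_inv, map_smul_onePoint] at this
      constructor
      · rintro ⟨h, h1, hh, hy⟩
        obtain ⟨z, hz⟩ := this.mp ⟨e h, fun e1 => h1 (e.injective (by rw [e1, map_one])),
          by rw [he, ← map_pow, hh, map_one], by
            show (e h : PG k) • OnePoint.map f y = _
            rw [he, map_smul_onePoint]
            exact congrArg _ hy⟩
        cases hgy : g₁⁻¹ • y with
        | infty => exact ⟨∞, rfl⟩
        | coe b =>
          rw [hgy] at hz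
          cases z with
          | infty => exact absurd hz (OnePoint.infty_ne_coe (f b))
          | coe a =>
            refine ⟨((⟨b, show f b ∈ E by rw [← OnePoint.coe_eq_coe.mp hz]; exact a.2⟩ : E₀) :
              OnePoint E₀), rfl⟩
      · rintro ⟨z, hz⟩
        obtain ⟨h, h1, hh, hx⟩ := this.mpr ⟨OnePoint.map ι z, by
          rw [← hz]
          cases z <;> rfl⟩
        obtain ⟨h₀, y', h01, h0p, h0y, hy'⟩ := hrat h _ h1 hh hx
        exact ⟨h₀, h01, h0p, by rw [onePoint_map_injective f hy']; exact h0y⟩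
    · have hconj : (H.map φ).map (MulAut.conj (φ g₁)⁻¹).toMonoidHom =
          (H.map (MulAut.conj g₁⁻¹).toMonoidHom).map φ := by
        rw [Subgroup.map_map, Subgroup.map_map]
        congr 1
        ext h
        simp
      rw [hconj] at hH
      rcases hH with hH | ⟨hp2, hH⟩
      · left
        apply Subgroup.map_injective hinj
        rw [hH, MonoidHom.map_range]
        ext x
        constructor
        · rintro ⟨w, rfl⟩
          obtain ⟨w', rfl⟩ := pg_map_surjective ι hι w
          exact ⟨w', by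
            rw [MonoidHom.comp_apply, hφ, ← pg_map_comp, ← pg_map_comp, hcomp]⟩
        · rintro ⟨w', rfl⟩
          exact ⟨ProjGenLinGroup.map ι w', by
            rw [MonoidHom.comp_apply, hφ, ← pg_map_comp, ← pg_map_comp, hcomp]⟩
      · refine Or.inr ⟨hp2, ?_⟩
        apply Subgroup.map_injective hinj
        rw [hH, MonoidHom.map_range]
        ext x
        constructor
        · rintro ⟨w, rfl⟩
          obtain ⟨w', rfl⟩ := sl_map_surjective ι hι w
          exact ⟨w', by
            show φ (ProjGenLinGroup.map E₀.subtype (SpecialLinearGroup.toPGL w')) =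
              ProjGenLinGroup.map E.subtype (SpecialLinearGroup.toPGL (SpecialLinearGroup.map ι w'))
            rw [← pg_map_toPGL, hφ, ← pg_map_comp, ← pg_map_comp, hcomp]⟩
        · rintro ⟨w', rfl⟩
          exact ⟨SpecialLinearGroup.map ι w', by
            show ProjGenLinGroup.map E.subtype (SpecialLinearGroup.toPGL (SpecialLinearGroup.map ι w'))
              = φ (ProjGenLinGroup.map E₀.subtype (SpecialLinearGroup.toPGL w'))
            rw [← pg_map_toPGL, hφ, ← pg_map_comp, ← pg_map_comp, hcomp]⟩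

end CfsgLib.PSL2Sub

namespace CfsgLib.PSL2Sub

open Matrix

/-- The image of `SL₂` in `PGL₂` is normal. -/
theorem range_toPGL_normal (K : Type*) [Field K] :
    (SpecialLinearGroup.toPGL : SpecialLinearGroup (Fin 2) K →* PG K).range.Normal := by
  refine ⟨?_⟩
  rintro _ ⟨g, rfl⟩ z
  induction z using ProjGenLinGroup.induction_on with
  | mk a =>
    have hdet : (((a * SpecialLinearGroup.toGL g * a⁻¹ : GL (Fin 2) K) :
        Matrix (Fin 2) (Fin 2) K)).det = 1 := by
      rw [← Matrix.GeneralLinearGroup.val_det_apply, map_mul, map_mul, map_inv,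
        mul_right_comm, mul_inv_cancel, one_mul, Matrix.GeneralLinearGroup.val_det_apply]
      exact g.2
    refine ⟨⟨_, hdet⟩, ?_⟩
    show ProjGenLinGroup.mk (SpecialLinearGroup.toGL ⟨_, hdet⟩) =
      ProjGenLinGroup.mk a * ProjGenLinGroup.mk (SpecialLinearGroup.toGL g) * (ProjGenLinGroup.mk a)⁻¹
    rw [← map_inv, ← map_mul, ← map_mul]
    congr 1
    exact Units.ext rfl

end CfsgLib.PSL2Sub
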