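import Cfsg.Agent.Lib.PSL2Sub.Existence
import Cfsg.Agent.Lib.SL2Trace.Tori
import Cfsg.Agent.Lib.Linear.SL2

/-!
Involutions and Klein four-groups of `PSL₂(q)`, `q` odd: their number and their classes.
-/

set_option autoImplicit false
set_option linter.unusedSectionVars false

namespace CfsgLib.PSL2Sub

open Matrix

section Generic

variable {G : Type*} [Group G]

/-- An ordered pair of commuting, distinct involutions. -/
abbrev InvPair (G : Type*) [Group G] : Type _ :=
  {p : G × G // orderOf p.1 = 2 ∧ orderOf p.2 = 2 ∧ p.1 * p.2 = p.2 * p.1 ∧ p.1 ≠ p.2}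

theorem sq_one_of_orderOf_two {x : G} (h : orderOf x = 2) : x * x = 1 := by
  rw [← pow_two, ← h, pow_orderOf_eq_one]

theorem ne_one_of_orderOf_two {x : G} (h : orderOf x = 2) : x ≠ 1 := fun e => by
  rw [e, orderOf_one] at h; omega

theorem orderOf_two_of {x : G} (h : x * x = 1) (h1 : x ≠ 1) : orderOf x = 2 :=
  orderOf_eq_prime (by rw [pow_two]; exact h) h1

theorem isKleinFour_of {V : Subgroup G} (hc : Nat.card V = 4) (hsq : ∀ a ∈ V, a * a = 1) :
    IsKleinFour V := by
  haveI : Finite V := Nat.finite_of_card_ne_zero (by omega)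
  haveI : Nontrivial V := Finite.one_lt_card_iff_nontrivial.mp (by omega)
  refine ⟨hc, (Monoid.exponent_eq_prime_iff Nat.prime_two).mpr fun g hg => ?_⟩
  exact orderOf_two_of (Subtype.ext (hsq g.1 g.2)) hg

/-- The Klein four-group through a pair. -/
theorem exists_klein_of_pair (p : InvPair G) :
    ∃ V : Subgroup G, IsKleinFour V ∧ p.1.1 ∈ V ∧ p.1.2 ∈ V ∧
      ∀ W : Subgroup G, p.1.1 ∈ W → p.1.2 ∈ W → V ≤ W := by
  classical
  obtain ⟨⟨x, y⟩, hx, hy, hxy, hne⟩ := p
  simp only at hx hy hxy hne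
  have hxx := sq_one_of_orderOf_two hx
  have hyy := sq_one_of_orderOf_two hy
  have hyx : y * x = x * y := hxy.symm
  let V : Subgroup G :=
    { carrier := {1, x, y, x * y}
      one_mem' := by simp
      mul_mem' := by
        have e1 : x * (x * y) = y := by rw [← mul_assoc, hxx, one_mul]
        have e2 : y * (x * y) = x := by rw [← hyx, ← mul_assoc, hyy, one_mul]
        have e3 : x * y * x = y := by rw [hxy, mul_assoc, hxx, mul_one]
        have e4 : x * y * y = x := by rw [mul_assoc, hyy, mul_one]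
        have e5 : x * y * (x * y) = 1 := by rw [← mul_assoc, e3, hyy]
        rintro a b (rfl | rfl | rfl | rfl) (rfl | rfl | rfl | rfl) <;>
          simp [hxx, hyy, hyx, e1, e2, e3, e4, e5]
      inv_mem' := by
        rintro a (rfl | rfl | rfl | rfl)
        · simp
        · simp [inv_eq_of_mul_eq_one_right hxx]
        · simp [inv_eq_of_mul_eq_one_right hyy]
        · rw [_root_.mul_inv_rev, inv_eq_of_mul_eq_one_right hxx,
            inv_eq_of_mul_eq_one_right hyy, hyx]
          simp }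
  have hmem : ∀ g, g ∈ V ↔ g = 1 ∨ g = x ∨ g = y ∨ g = x * y := fun g => Iff.rfl
  refine ⟨V, ?_, (hmem x).mpr (by simp), (hmem y).mpr (by simp), fun W hW1 hW2 g hg => ?_⟩
  · refine isKleinFour_of ?_ ?_
    · rw [← SetLike.coe_sort_coe, Nat.card_coe_set_eq,
        show (V : Set G) = (({1, x, y, x * y} : Finset G) : Set G) by
          ext g; simp [hmem, V], Set.ncard_coe_finset]
      have h1 := ne_one_of_orderOf_two hx
      have h2 := ne_one_of_orderOf_two hy
      have h3 : (1 : G) ≠ x * y := fun e => hne (by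
        rw [← inv_eq_of_mul_eq_one_right hxx, inv_eq_of_mul_eq_one_right e.symm])
      have h4 : x ≠ x * y := fun e => h2 (mul_eq_left.mp e.symm)
      have h5 : y ≠ x * y := fun e => h1 (mul_eq_right.mp e.symm)
      rw [Finset.card_insert_of_notMem (by simp [Ne.symm h1, Ne.symm h2, h3]),
        Finset.card_insert_of_notMem (by simp [hne, h4]),
        Finset.card_insert_of_notMem (by simpa using h5), Finset.card_singleton]
    · intro a ha
      rcases (hmem a).mp ha with rfl | rfl | rfl | rfl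
      · exact one_mul 1
      · exact hxx
      · exact hyy
      · rw [← mul_assoc, mul_assoc x y x, hyx, ← mul_assoc x x y, hxx, one_mul, hyy]
  · rcases (hmem g).mp hg with rfl | rfl | rfl | rfl
    exacts [W.one_mem, hW1, hW2, W.mul_mem hW1 hW2]

theorem klein_eq_of_mem {V W : Subgroup G} (hV : IsKleinFour V) (hW : IsKleinFour W) (p : InvPair G)
    (h1 : p.1.1 ∈ V) (h2 : p.1.2 ∈ V) (h3 : p.1.1 ∈ W) (h4 : p.1.2 ∈ W) : V = W := by
  obtain ⟨U, hU, -, -, hle⟩ := exists_klein_of_pair p
  haveI : Finite V := Nat.finite_of_card_ne_zero (by rw [hV.card_four]; omega)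
  haveI : Finite W := Nat.finite_of_card_ne_zero (by rw [hW.card_four]; omega)
  rw [← Subgroup.eq_of_le_of_card_ge (hle V h1 h2) (by rw [hV.card_four, hU.card_four]),
    ← Subgroup.eq_of_le_of_card_ge (hle W h3 h4) (by rw [hW.card_four, hU.card_four])]

theorem klein_mul_self {V : Subgroup G} (hV : IsKleinFour V) {a : G} (ha : a ∈ V) : a * a = 1 := by
  haveI := hV
  exact congrArg Subtype.val (IsKleinFour.mul_self (⟨a, ha⟩ : V))

theorem klein_comm {V : Subgroup G} (hV : IsKleinFour V) {a b : G} (ha : a ∈ V) (hb : b ∈ V) :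
    a * b = b * a := by
  haveI := hV
  exact congrArg Subtype.val ((IsKleinFour.isMulCommutative (G := V)).is_comm.comm ⟨a, ha⟩ ⟨b, hb⟩)

/-- The six ordered pairs of a Klein four-group. -/
theorem card_pairs_in {V : Subgroup G} (hV : IsKleinFour V) :
    Nat.card {p : InvPair G // p.1.1 ∈ V ∧ p.1.2 ∈ V} = 6 := by
  classical
  haveI : Finite V := Nat.finite_of_card_ne_zero (by rw [hV.card_four]; omega)
  let e₀ : V ≃ Fin 4 := Finite.equivFinOfCardEq hV.card_four
  let e : V ≃ Fin 4 := e₀.trans (Equiv.swap (e₀ 1) 0)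
  have he : e 1 = 0 := by simp [e]
  have hord : ∀ a : V, orderOf (a : G) = 2 ↔ e a ≠ 0 := by
    intro a
    rw [← he, e.injective.ne_iff]
    exact ⟨fun h e1 => ne_one_of_orderOf_two h (congrArg Subtype.val e1),
      fun h => orderOf_two_of (klein_mul_self hV a.2) fun e1 => h (Subtype.ext e1)⟩
  have e' : {p : InvPair G // p.1.1 ∈ V ∧ p.1.2 ∈ V} ≃
      {ij : Fin 4 × Fin 4 // ij.1 ≠ 0 ∧ ij.2 ≠ 0 ∧ ij.1 ≠ ij.2} :=
    { toFun := fun p => ⟨(e ⟨p.1.1.1, p.2.1⟩, e ⟨p.1.1.2, p.2.2⟩),
        (hord ⟨_, p.2.1⟩).mp p.1.2.1, (hord ⟨_, p.2.2⟩).mp p.1.2.2.1,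
        fun h => p.1.2.2.2.2 (congrArg Subtype.val (e.injective h))⟩
      invFun := fun ij => ⟨⟨((e.symm ij.1.1 : G), (e.symm ij.1.2 : G)),
        (hord _).mpr (by simpa using ij.2.1), (hord _).mpr (by simpa using ij.2.2.1),
        klein_comm hV (e.symm ij.1.1).2 (e.symm ij.1.2).2,
        fun h => ij.2.2.2 (e.symm.injective (Subtype.ext h))⟩,
        (e.symm ij.1.1).2, (e.symm ij.1.2).2⟩
      left_inv := fun p => Subtype.ext (Subtype.ext (by simp))
      right_inv := fun ij => Subtype.ext (by simp) }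
  rw [Nat.card_congr e', Nat.card_eq_fintype_card]
  decide +kernel

/-- Six pairs for each Klein four-group. -/
theorem six_mul_card_klein [Finite G] :
    6 * Nat.card {V : Subgroup G // IsKleinFour V} = Nat.card (InvPair G) := by
  classical
  choose V hV h1 h2 _ using fun p : InvPair G => exists_klein_of_pair p
  have e : InvPair G ≃ Σ W : {V : Subgroup G // IsKleinFour V},
      {p : InvPair G // p.1.1 ∈ W.1 ∧ p.1.2 ∈ W.1} :=
    { toFun := fun p => ⟨⟨V p, hV p⟩, p, h1 p, h2 p⟩
      invFun := fun Wp => Wp.2.1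
      left_inv := fun _ => rfl
      right_inv := by
        rintro ⟨⟨W, hW⟩, p, hp1, hp2⟩
        have h : V p = W := klein_eq_of_mem (hV p) hW p (h1 p) (h2 p) hp1 hp2
        subst h
        rfl }
  letI := Fintype.ofFinite {V : Subgroup G // IsKleinFour V}
  rw [Nat.card_congr e, Nat.card_sigma, Finset.sum_congr rfl (fun W _ => card_pairs_in W.2),
    Finset.sum_const, Finset.card_univ, ← Nat.card_eq_fintype_card, smul_eq_mul, mul_comm]

end Generic

section Matrices

variable {F : Type*} [Field F]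

/-- A matrix commuting with two anticommuting trace-zero invertible matrices is scalar. -/
theorem scalar_of_commute (h2 : (2 : F) ≠ 0) {A M N : Matrix (Fin 2) (Fin 2) F} (hM : M.trace = 0)
    (hMdet : IsUnit M.det) (hNdet : IsUnit N.det) (hNM : N * M = -(M * N)) (hAM : A * M = M * A)
    (hAN : A * N = N * A) : A = (A.trace / 2) • (1 : Matrix (Fin 2) (Fin 2) F) := by
  set B := A - (A.trace / 2) • (1 : Matrix (Fin 2) (Fin 2) F) with hB
  have hBtr : B.trace = 0 := by
    rw [hB, trace_sub, trace_smul, trace_one, Fintype.card_fin, smul_eq_mul]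
    push_cast
    field_simp
    ring
  have hBM : B * M = M * B := by
    rw [hB, sub_mul, mul_sub, hAM, smul_mul_assoc, mul_smul_comm, one_mul, mul_one]
  have hBN : B * N = N * B := by
    rw [hB, sub_mul, mul_sub, hAN, smul_mul_assoc, mul_smul_comm, one_mul, mul_one]
  have hanti : B * M + M * B = (B * M).trace • (1 : Matrix (Fin 2) (Fin 2) F) := by
    rw [trace_fin_two] at hBtr hM
    have e1 : B 1 1 = -B 0 0 := by linear_combination hBtr
    have e2 : M 1 1 = -M 0 0 := by linear_combination hM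
    ext i j
    fin_cases i <;> fin_cases j <;>
      simp [Matrix.mul_apply, Fin.sum_univ_two, trace_fin_two, e1, e2] <;> ring
  have htr : (B * M).trace = 0 := by
    have h : (N * (B * M) * N⁻¹).trace = (B * M).trace := by
      rw [trace_mul_comm, ← mul_assoc, nonsing_inv_mul _ hNdet, one_mul]
    rw [← mul_assoc, ← hBN, mul_assoc B, hNM, mul_neg, neg_mul, mul_assoc, mul_assoc M,
      mul_nonsing_inv _ hNdet, mul_one, trace_neg] at h
    have h' : (2 : F) * (B * M).trace = 0 := by linear_combination -h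
    exact (mul_eq_zero.mp h').resolve_left h2
  rw [htr, zero_smul, ← hBM, ← two_smul F, smul_eq_zero] at hanti
  have hB0 : B = 0 := by
    have := congrArg (· * M⁻¹) (hanti.resolve_left h2)
    simpa [mul_assoc, mul_nonsing_inv _ hMdet] using this
  rw [hB, sub_eq_zero] at hB0
  exact hB0

end Matrices

variable {F : Type*} [Field F] [Fintype F]

local notation "SL2" => SpecialLinearGroup (Fin 2) F
local notation "π₂" => CfsgLib.SL2Trace.toPSL (F := F)

theorem trace_sq_ne_four (h2 : (2 : F) ≠ 0) {M : SL2}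
    (hM : (M : Matrix (Fin 2) (Fin 2) F).trace = 0) :
    (M : Matrix (Fin 2) (Fin 2) F).trace ^ 2 ≠ 4 := by
  rw [hM]
  intro h
  exact h2 (pow_eq_zero_iff two_ne_zero |>.mp (by linear_combination -h : (2 : F) ^ 2 = 0))

theorem sq_eq_neg_one {M : SL2} (hM : (M : Matrix (Fin 2) (Fin 2) F).trace = 0) :
    ((M * M : SL2) : Matrix (Fin 2) (Fin 2) F) = -1 := by
  show (M : Matrix (Fin 2) (Fin 2) F) * (M : Matrix (Fin 2) (Fin 2) F) = -1
  rw [CfsgLib.SL2Trace.mul_self_eq, hM, zero_smul, zero_sub]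

theorem center_cases {M z : SL2} (hM : (M : Matrix (Fin 2) (Fin 2) F).trace = 0)
    (hz : z ∈ Subgroup.center SL2) : z = 1 ∨ z = M * M := by
  obtain ⟨r, hr, hrz⟩ := Matrix.SpecialLinearGroup.mem_center_iff.1 hz
  rw [Fintype.card_fin] at hr
  rcases sq_eq_one_iff.1 hr with rfl | rfl
  · exact Or.inl (Subtype.ext (by rw [← hrz, map_one]; rfl))
  · exact Or.inr (Subtype.ext (by rw [← hrz, sq_eq_neg_one hM, map_neg, map_one]))

theorem mul_self_mem_center {M : SL2} (hM : (M : Matrix (Fin 2) (Fin 2) F).trace = 0) :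
    M * M ∈ Subgroup.center SL2 :=
  CfsgLib.SL2Trace.mem_center_of_scalar (-1) (by rw [sq_eq_neg_one hM, map_neg, map_one])

theorem toPSL_eq_iff {M N : SL2} : π₂ M = π₂ N ↔ ∃ z ∈ Subgroup.center SL2, N = M * z := by
  rw [CfsgLib.SL2Trace.toPSL, CfsgLib.SL2Trace.toPSL, QuotientGroup.eq]
  exact ⟨fun h => ⟨_, h, (mul_inv_cancel_left M N).symm⟩,
    fun ⟨z, hz, e⟩ => by rw [e, inv_mul_cancel_left]; exact hz⟩

theorem orderOf_two_iff (h2 : (2 : F) ≠ 0) (M : SL2) :
    orderOf (π₂ M) = 2 ↔ (M : Matrix (Fin 2) (Fin 2) F).trace = 0 := by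
  constructor
  · intro h
    have hsq := sq_one_of_orderOf_two h
    rw [CfsgLib.SL2Trace.toPSL, ← QuotientGroup.mk_mul, QuotientGroup.eq_one_iff] at hsq
    by_contra hne
    apply ne_one_of_orderOf_two h
    rw [CfsgLib.SL2Trace.toPSL, QuotientGroup.eq_one_iff]
    obtain ⟨r, -, hr⟩ := Matrix.SpecialLinearGroup.mem_center_iff.1 hsq
    replace hr : Matrix.scalar (Fin 2) r =
        (M : Matrix (Fin 2) (Fin 2) F) * (M : Matrix (Fin 2) (Fin 2) F) := hr
    rw [CfsgLib.SL2Trace.mul_self_eq] at hr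
    refine CfsgLib.SL2Trace.mem_center_of_scalar
      ((r + 1) / (M : Matrix (Fin 2) (Fin 2) F).trace) ?_
    have : (M : Matrix (Fin 2) (Fin 2) F).trace • (M : Matrix (Fin 2) (Fin 2) F) =
        Matrix.scalar (Fin 2) (r + 1) := by
      rw [map_add, map_one, hr, sub_add_cancel]
    rw [Matrix.scalar_apply] at this ⊢
    ext i j
    have hij := congrFun (congrFun this i) j
    simp only [Matrix.smul_apply, smul_eq_mul, Matrix.diagonal_apply] at hij ⊢
    by_cases h' : i = j <;> simp only [h', if_true, if_false] at hij ⊢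
    · rw [eq_div_iff hne]; linear_combination hij
    · exact (mul_eq_zero.mp hij).resolve_left hne
  · intro hM
    refine orderOf_two_of ?_ ?_
    · rw [CfsgLib.SL2Trace.toPSL, ← QuotientGroup.mk_mul, QuotientGroup.eq_one_iff]
      exact mul_self_mem_center hM
    · rw [CfsgLib.SL2Trace.toPSL, Ne, QuotientGroup.eq_one_iff]
      intro hc
      exact trace_sq_ne_four h2 hM (CfsgLib.SL2Trace.trace_sq_of_mem_center hc)

theorem isConj_involutions (h2 : (2 : F) ≠ 0) (x y : PS F) (hx : orderOf x = 2)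
    (hy : orderOf y = 2) : IsConj x y := by
  obtain ⟨M, rfl⟩ := QuotientGroup.mk_surjective x
  obtain ⟨N, rfl⟩ := QuotientGroup.mk_surjective y
  have hM := (orderOf_two_iff h2 M).mp hx
  have hN := (orderOf_two_iff h2 N).mp hy
  obtain ⟨U, hU⟩ := CfsgLib.SL2Trace.isConj_of_trace_eq M N (trace_sq_ne_four h2 hM)
    (hN.trans hM.symm)
  refine isConj_iff.mpr ⟨π₂ U, ?_⟩
  rw [CfsgLib.SL2Trace.toPSL, ← QuotientGroup.mk_mul, ← QuotientGroup.mk_inv,
    ← QuotientGroup.mk_mul, ← hU]

/-- Pairs of anticommuting trace-zero elements of `SL₂`. -/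
abbrev AntiPair (F : Type*) [Field F] : Type _ :=
  {p : SpecialLinearGroup (Fin 2) F × SpecialLinearGroup (Fin 2) F //
    (p.1 : Matrix (Fin 2) (Fin 2) F).trace = 0 ∧ p.2 * p.1 * p.2⁻¹ = p.1⁻¹}

theorem trace_zero_of_inverts (h2 : (2 : F) ≠ 0) {M N : SL2}
    (hM : (M : Matrix (Fin 2) (Fin 2) F).trace = 0) (h : N * M * N⁻¹ = M⁻¹) :
    (N : Matrix (Fin 2) (Fin 2) F).trace = 0 := by
  have h1 : N * M = M⁻¹ * N := mul_inv_eq_iff_eq_mul.mp h
  have h3 : M * N * M⁻¹ = N * (M * M)⁻¹ := by
    have : M * N = N * M⁻¹ := by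
      rw [eq_mul_inv_iff_mul_eq, mul_assoc, h1, mul_inv_cancel_left]
    rw [this, _root_.mul_inv_rev, mul_assoc]
  have h4 := congrArg (fun g : SL2 => (g : Matrix (Fin 2) (Fin 2) F).trace) h3
  simp only [CfsgLib.SL2Trace.trace_mul_mul_inv] at h4
  have h5 : ((N * (M * M)⁻¹ : SL2) : Matrix (Fin 2) (Fin 2) F) = -(N : Matrix (Fin 2) (Fin 2) F) := by
    rw [inv_eq_of_mul_eq_one_right
      (CfsgLib.SL2Trace.mul_self_eq_one_of_mem_center (mul_self_mem_center hM))]
    show (N : Matrix (Fin 2) (Fin 2) F) * ((M * M : SL2) : Matrix (Fin 2) (Fin 2) F) = _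
    rw [sq_eq_neg_one hM, mul_neg, mul_one]
  rw [h5, trace_neg] at h4
  have h6 : (2 : F) * (N : Matrix (Fin 2) (Fin 2) F).trace = 0 := by linear_combination h4
  exact (mul_eq_zero.mp h6).resolve_left h2

theorem inverters_mem {G : Type*} [Group G] {U N M : G} (hU : U * M * U⁻¹ = M⁻¹)
    (hN : N * M * N⁻¹ = M⁻¹) : U⁻¹ * N ∈ Subgroup.centralizer ({M} : Set G) := by
  rw [Subgroup.mem_centralizer_singleton_iff]
  calc U⁻¹ * N * M = U⁻¹ * (N * M * N⁻¹) * N := by group
    _ = U⁻¹ * (U * M * U⁻¹) * N := by rw [hU, hN]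
    _ = M * (U⁻¹ * N) := by group

theorem conjugators_mem {G : Type*} [Group G] {x g M₀ : G} (h : x * M₀ * x⁻¹ = g * M₀ * g⁻¹) :
    x * g⁻¹ ∈ Subgroup.centralizer ({x * M₀ * x⁻¹} : Set G) := by
  rw [Subgroup.mem_centralizer_singleton_iff]
  calc x * g⁻¹ * (x * M₀ * x⁻¹) = x * g⁻¹ * (g * M₀ * g⁻¹) := by rw [h]
    _ = x * M₀ * x⁻¹ * (x * g⁻¹) := by group

theorem card_antiPair (h2 : (2 : F) ≠ 0) : Nat.card (AntiPair F) = Nat.card SL2 := by
  classical
  let T := {M : SL2 // (M : Matrix (Fin 2) (Fin 2) F).trace = 0}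
  let M₀ : T := ⟨CfsgLib.SL2Trace.comp 0, by rw [trace_fin_two]; simp [CfsgLib.SL2Trace.coe_comp]⟩
  have hg : ∀ M : T, ∃ g : SL2, M.1 = g * M₀.1 * g⁻¹ := fun M =>
    CfsgLib.SL2Trace.isConj_of_trace_eq M₀.1 M.1 (trace_sq_ne_four h2 M₀.2) (M.2.trans M₀.2.symm)
  choose g hg using hg
  have hU : ∀ M : T, ∃ U : SL2, U * M.1 * U⁻¹ = M.1⁻¹ := fun M =>
    CfsgLib.SL2Trace.exists_inverter (trace_sq_ne_four h2 M.2)
  choose U hU using hU
  let e1 : AntiPair F ≃ Σ M : T, Subgroup.centralizer ({M.1} : Set SL2) :=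
    { toFun := fun p => ⟨⟨p.1.1, p.2.1⟩, (U ⟨p.1.1, p.2.1⟩)⁻¹ * p.1.2,
        inverters_mem (hU ⟨p.1.1, p.2.1⟩) p.2.2⟩
      invFun := fun Mc => ⟨(Mc.1.1, U Mc.1 * Mc.2.1), Mc.1.2, by
        have h := Subgroup.mem_centralizer_singleton_iff.mp Mc.2.2
        show U Mc.1 * Mc.2.1 * Mc.1.1 * (U Mc.1 * Mc.2.1)⁻¹ = Mc.1.1⁻¹
        rw [_root_.mul_inv_rev, mul_assoc (U Mc.1) Mc.2.1, h, ← mul_assoc (U Mc.1),
          mul_assoc (U Mc.1 * Mc.1.1), mul_inv_cancel_left, hU]⟩
      left_inv := fun p => Subtype.ext (Prod.ext rfl (mul_inv_cancel_left _ _))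
      right_inv := fun Mc => Sigma.ext rfl (heq_of_eq (Subtype.ext (inv_mul_cancel_left _ _))) }
  let e2 : SL2 ≃ Σ M : T, Subgroup.centralizer ({M.1} : Set SL2) :=
    { toFun := fun x => ⟨⟨x * M₀.1 * x⁻¹, by rw [CfsgLib.SL2Trace.trace_mul_mul_inv]; exact M₀.2⟩,
        x * (g ⟨x * M₀.1 * x⁻¹, by rw [CfsgLib.SL2Trace.trace_mul_mul_inv]; exact M₀.2⟩)⁻¹, by
        exact conjugators_mem (hg ⟨x * M₀.1 * x⁻¹, by
          rw [CfsgLib.SL2Trace.trace_mul_mul_inv]; exact M₀.2⟩)⟩
      invFun := fun Mc => Mc.2.1 * g Mc.1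
      left_inv := fun x => inv_mul_cancel_right _ _
      right_inv := by
        rintro ⟨M, c, hc⟩
        have hc' := Subgroup.mem_centralizer_singleton_iff.mp hc
        have h : c * g M * M₀.1 * (c * g M)⁻¹ = M.1 := by
          rw [_root_.mul_inv_rev, mul_assoc c (g M), mul_assoc c (g M * M₀.1), ← mul_assoc (g M * M₀.1),
            ← hg, ← mul_assoc c M.1, hc', mul_inv_cancel_right]
        refine Sigma.ext (Subtype.ext h) ?_
        simp only
        refine (Subtype.heq_iff_coe_eq ?_).mpr ?_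
        · intro a
          rw [h]
        · have hM : (⟨c * g M * M₀.1 * (c * g M)⁻¹, by
              rw [CfsgLib.SL2Trace.trace_mul_mul_inv]; exact M₀.2⟩ : T) = M := Subtype.ext h
          show c * g M * (g _)⁻¹ = c
          exact (congrArg (fun N : T => c * g M * (g N)⁻¹) hM).trans (mul_inv_cancel_right c (g M)) }
  exact Nat.card_congr (e1.trans e2.symm)

theorem card_center (h2 : (2 : F) ≠ 0) : Nat.card (Subgroup.center SL2) = 2 := by
  have h := Linear.card_PSL_mul (n := Fin 2) (F := F)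
  have hodd : Fintype.card F % 2 = 1 := FiniteField.odd_card_of_char_ne_two fun hc => h2 (by
    haveI : CharP F 2 := ringChar.of_eq hc
    exact_mod_cast CharP.cast_eq_zero F 2)
  rw [Fintype.card_fin, show Nat.gcd 2 (Fintype.card F - 1) = 2 from
    Nat.gcd_eq_left (Nat.dvd_of_mod_eq_zero (by omega)),
    Subgroup.card_eq_card_quotient_mul_card_subgroup (Subgroup.center SL2)] at h
  refine (Nat.eq_of_mul_eq_mul_left (show 0 < Nat.card (PS F) from Nat.card_pos) ?_).symm
  rw [mul_comm]
  exact h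

theorem card_invPair (h2 : (2 : F) ≠ 0) :
    4 * Nat.card (InvPair (PS F)) = Nat.card (AntiPair F) := by
  classical
  have hsur : ∀ x : PS F, ∃ M : SL2, π₂ M = x := fun x => QuotientGroup.mk_surjective x
  choose l hl using hsur
  let Z := Subgroup.center SL2
  have htr : ∀ (x : PS F) (z : Z), orderOf x = 2 →
      ((l x * z : SL2) : Matrix (Fin 2) (Fin 2) F).trace = 0 := by
    intro x z hx
    rw [← orderOf_two_iff h2]
    rwa [show π₂ (l x * z) = x from (toPSL_eq_iff.mpr ⟨_, z.2, rfl⟩).symm.trans (hl x)]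
  have hfwd : ∀ (q : InvPair (PS F)) (z w : Z),
      (l q.1.2 * w : SL2) * (l q.1.1 * z) * (l q.1.2 * w)⁻¹ = (l q.1.1 * z : SL2)⁻¹ := by
    intro q z w
    obtain ⟨⟨x, y⟩, hx, hy, hxy, hne⟩ := q
    have hM := htr x z hx
    set M := (l x * z : SL2) with hMdef
    set N := (l y * w : SL2) with hNdef
    have hπM : π₂ M = x := (toPSL_eq_iff.mpr ⟨_, z.2, rfl⟩).symm.trans (hl x)
    have hπN : π₂ N = y := (toPSL_eq_iff.mpr ⟨_, w.2, rfl⟩).symm.trans (hl y)
    have hπ : π₂ M = π₂ (N * M * N⁻¹) := by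
      show π₂ M = π₂ N * π₂ M * (π₂ N)⁻¹
      rw [hπM, hπN, ← hxy, mul_inv_cancel_right]
    obtain ⟨c, hc, hNM⟩ := toPSL_eq_iff.mp hπ
    rcases center_cases hM hc with rfl | rfl
    · exfalso
      rw [mul_one, mul_inv_eq_iff_eq_mul] at hNM
      have hN := htr y w hy
      obtain ⟨a, b, hab⟩ := CfsgLib.Linear.exists_eq_smul_one_add_of_commute (z := M) (g := N)
        (by
          by_contra hcon
          push Not at hcon
          exact trace_sq_ne_four h2 hM (CfsgLib.SL2Trace.trace_sq_of_mem_center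
            (CfsgLib.SL2Trace.mem_center_iff_entries.mpr hcon)))
        hNM
      have ha : a = 0 := by
        have := congrArg Matrix.trace hab
        rw [hN, trace_add, trace_smul, trace_smul, hM, trace_one, Fintype.card_fin, smul_zero,
          add_zero, smul_eq_mul] at this
        push_cast at this
        exact (mul_eq_zero.mp this.symm).resolve_right h2
      rw [ha, zero_smul, zero_add] at hab
      have hb : b ^ 2 = 1 := by
        have := N.det_coe
        rw [hab, det_smul, Fintype.card_fin, M.det_coe, mul_one] at this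
        exact this
      apply hne
      show x = y
      rw [← hπM, ← hπN]
      rcases sq_eq_one_iff.mp hb with rfl | rfl
      · congr 1
        exact Subtype.ext (by rw [hab, one_smul])
      · refine toPSL_eq_iff.mpr ⟨M * M, mul_self_mem_center hM, Subtype.ext ?_⟩
        rw [hab]
        show (-1 : F) • (M : Matrix (Fin 2) (Fin 2) F) = (M : Matrix (Fin 2) (Fin 2) F) *
          ((M * M : SL2) : Matrix (Fin 2) (Fin 2) F)
        rw [sq_eq_neg_one hM, mul_neg, mul_one, neg_smul, one_smul]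
    · rw [hNM]
      have h4 : M * (M * M) * M = 1 := by
        apply Subtype.ext
        show (M : Matrix (Fin 2) (Fin 2) F) * ((M * M : SL2) : Matrix (Fin 2) (Fin 2) F) *
          (M : Matrix (Fin 2) (Fin 2) F) = 1
        have hMM : (M : Matrix (Fin 2) (Fin 2) F) * (M : Matrix (Fin 2) (Fin 2) F) = -1 :=
          sq_eq_neg_one hM
        rw [sq_eq_neg_one hM, mul_neg, mul_one, neg_mul, hMM, neg_neg]
      exact eq_inv_of_mul_eq_one_left h4
  let f : InvPair (PS F) × Z × Z → AntiPair F := fun q =>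
    ⟨(l q.1.1.1 * q.2.1, l q.1.1.2 * q.2.2), htr _ _ q.1.2.1, hfwd q.1 q.2.1 q.2.2⟩
  have hf : Function.Bijective f := by
    constructor
    · rintro ⟨⟨⟨x, y⟩, hq⟩, z, w⟩ ⟨⟨⟨x', y'⟩, hq'⟩, z', w'⟩ h
      have h1 : l x * z = l x' * z' := congrArg (fun p : AntiPair F => p.1.1) h
      have h3 : l y * w = l y' * w' := congrArg (fun p : AntiPair F => p.1.2) h
      have hx : x = x' := by
        rw [← hl x, ← hl x', toPSL_eq_iff]
        exact ⟨z.1 * z'.1⁻¹, mul_mem z.2 (inv_mem z'.2), by rw [← mul_assoc, h1, mul_inv_cancel_right]⟩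
      have hy : y = y' := by
        rw [← hl y, ← hl y', toPSL_eq_iff]
        exact ⟨w.1 * w'.1⁻¹, mul_mem w.2 (inv_mem w'.2), by rw [← mul_assoc, h3, mul_inv_cancel_right]⟩
      subst hx hy
      exact Prod.ext rfl (Prod.ext (Subtype.ext (mul_left_cancel h1))
        (Subtype.ext (mul_left_cancel h3)))
    · rintro ⟨⟨M, N⟩, hM, hNM⟩
      have hN := trace_zero_of_inverts h2 hM hNM
      have hcomm : π₂ M * π₂ N = π₂ N * π₂ M := by
        have : π₂ M = π₂ (N * M * N⁻¹) := by
          rw [hNM]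
          refine toPSL_eq_iff.mpr ⟨(M * M)⁻¹, inv_mem (mul_self_mem_center hM), ?_⟩
          rw [_root_.mul_inv_rev, mul_inv_cancel_left]
        have h' : π₂ (N * M * N⁻¹) = π₂ N * π₂ M * (π₂ N)⁻¹ := rfl
        rw [h'] at this
        conv_lhs => rw [this]
        rw [inv_mul_cancel_right]
      have hne : π₂ M ≠ π₂ N := by
        intro h
        obtain ⟨c, hc, rfl⟩ := toPSL_eq_iff.mp h
        have hc' : c * M = M * c := (Subgroup.mem_center_iff.mp hc M).symm
        have h0 : M * c * M * (M * c)⁻¹ = M := by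
          rw [mul_assoc M c M, hc', ← mul_assoc, mul_assoc (M * M) c, _root_.mul_inv_rev,
            ← mul_assoc c, mul_inv_cancel, one_mul, mul_inv_cancel_right]
        rw [h0] at hNM
        have h1 : ((M * M : SL2) : Matrix (Fin 2) (Fin 2) F) = 1 := by
          conv_lhs => arg 1; arg 2; rw [hNM]
          rw [mul_inv_cancel]; rfl
        rw [sq_eq_neg_one hM] at h1
        have := congrFun (congrFun h1 0) 0
        simp at this
        exact h2 (by linear_combination -this)
      obtain ⟨z, hz, hz'⟩ := toPSL_eq_iff.mp (hl (π₂ M))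
      obtain ⟨w, hw, hw'⟩ := toPSL_eq_iff.mp (hl (π₂ N))
      exact ⟨(⟨(π₂ M, π₂ N), (orderOf_two_iff h2 M).mpr hM, (orderOf_two_iff h2 N).mpr hN,
        hcomm, hne⟩, ⟨z, hz⟩, ⟨w, hw⟩), Subtype.ext (Prod.ext hz'.symm hw'.symm)⟩
  rw [← Nat.card_eq_of_bijective f hf, Nat.card_prod, Nat.card_prod, card_center h2]
  ring

/-- The number of Klein four-groups. -/
theorem twelve_mul_card_klein (h2 : (2 : F) ≠ 0) :
    12 * Nat.card {V : Subgroup (PS F) // IsKleinFour V} = Nat.card (PS F) := by
  have h := card_invPair h2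
  rw [card_antiPair h2, ← six_mul_card_klein,
    Subgroup.card_eq_card_quotient_mul_card_subgroup (Subgroup.center SL2), card_center h2] at h
  change 4 * (6 * _) = Nat.card (PS F) * 2 at h
  omega

/-- In `PGL₂`, a Klein four-group of `PSL₂` is its own centraliser, so at most 24 elements
normalise it. -/
theorem card_normalizer_le (h2 : (2 : F) ≠ 0) {V : Subgroup (PS F)} (hV : IsKleinFour V) :
    Nat.card (Subgroup.normalizer ((V.map toPG : Subgroup (PG F)) : Set (PG F))) ≤ 24 := by
  classical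
  set W := V.map (toPG : PS F →* PG F) with hW
  set N := Subgroup.normalizer ((W : Subgroup (PG F)) : Set (PG F)) with hN
  haveI : Finite (PG F) := Finite.of_surjective _ ProjGenLinGroup.mk_surjective
  have hWc : Nat.card W = 4 := by
    rw [hW, Subgroup.card_map_of_injective toPG_injective, hV.card_four]
  have hWsq : ∀ a ∈ W, a * a = 1 := by
    rintro _ ⟨a, ha, rfl⟩
    rw [← map_mul, klein_mul_self hV ha, map_one]
  have hWK := isKleinFour_of hWc hWsq
  obtain ⟨⟨p, hp1, hp2⟩⟩ : Nonempty {p : InvPair (PS F) // p.1.1 ∈ V ∧ p.1.2 ∈ V} :=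
    (Nat.card_ne_zero.mp (by rw [card_pairs_in hV]; omega)).1
  obtain ⟨⟨x, y⟩, hx, hy, hxy, hne⟩ := p
  simp only at hp1 hp2
  obtain ⟨M, rfl⟩ := QuotientGroup.mk_surjective x
  obtain ⟨N', rfl⟩ := QuotientGroup.mk_surjective y
  have hM := (orderOf_two_iff h2 M).mp hx
  set A : PG F := toPG (π₂ M) with hA
  set B : PG F := toPG (π₂ N') with hB
  let pW : InvPair (PG F) := ⟨(A, B),
    (orderOf_injective toPG toPG_injective _).trans hx,
    (orderOf_injective toPG toPG_injective _).trans hy,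
    (map_mul toPG _ _).symm.trans ((congrArg toPG hxy).trans (map_mul toPG _ _)),
    toPG_injective.ne hne⟩
  have hAW : A ∈ W := ⟨_, hp1, rfl⟩
  have hBW : B ∈ W := ⟨_, hp2, rfl⟩
  have hcent : ∀ h : PG F, h * A * h⁻¹ = A → h * B * h⁻¹ = B → h ∈ W := by
    intro h hhA hhB
    induction h using ProjGenLinGroup.induction_on with
    | mk a =>
      set am := (a : Matrix (Fin 2) (Fin 2) F) with ham
      have sign : ∀ g : SL2, toPG (π₂ g) = A ∨ toPG (π₂ g) = B →
          am * (g : Matrix (Fin 2) (Fin 2) F) = (g : Matrix (Fin 2) (Fin 2) F) * am ∨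
          am * (g : Matrix (Fin 2) (Fin 2) F) = -((g : Matrix (Fin 2) (Fin 2) F) * am) := by
        intro g hg
        have hcomm : (ProjGenLinGroup.mk a : PG F) * toPG (π₂ g) * (ProjGenLinGroup.mk a)⁻¹ =
            toPG (π₂ g) := by
          rcases hg with e | e <;> rw [e] <;> assumption
        rw [show toPG (π₂ g) = ProjGenLinGroup.mk (SpecialLinearGroup.toGL g) from rfl,
          ← map_inv, ← map_mul, ← map_mul, eq_comm, ← inv_mul_eq_one, ← map_inv, ← map_mul,
          ProjGenLinGroup.mk_eq_one, GeneralLinearGroup.center_eq_range_scalar] at hcomm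
        obtain ⟨c, hc⟩ := hcomm
        have e : SpecialLinearGroup.toGL g * GeneralLinearGroup.scalar (Fin 2) c * a =
            a * SpecialLinearGroup.toGL g := by
          rw [hc, mul_inv_cancel_left, inv_mul_cancel_right]
        have e' : am * (g : Matrix (Fin 2) (Fin 2) F) =
            (c : F) • ((g : Matrix (Fin 2) (Fin 2) F) * am) := by
          have := congrArg (fun u : GL (Fin 2) F => (u : Matrix (Fin 2) (Fin 2) F)) e
          simp only [Units.val_mul, GeneralLinearGroup.coe_scalar, Matrix.scalar_apply] at this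
          refine this.symm.trans ?_
          rw [← Matrix.smul_one_eq_diagonal, mul_smul_comm, mul_one, smul_mul_assoc]
          rfl
        have hd := congrArg Matrix.det e'
        rw [det_mul, det_smul, det_mul, Fintype.card_fin, g.det_coe, mul_one, one_mul] at hd
        have hc2 : (c : F) ^ 2 = 1 := by
          refine mul_right_cancel₀ a.det_ne_zero ?_
          rw [one_mul]
          exact hd.symm
        rcases sq_eq_one_iff.mp hc2 with h1 | h1
        · exact Or.inl (by rw [e', h1, one_smul])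
        · exact Or.inr (by rw [e', h1, neg_smul, one_smul])
      have hNM : (N' : Matrix (Fin 2) (Fin 2) F) * (M : Matrix (Fin 2) (Fin 2) F) =
          -((M : Matrix (Fin 2) (Fin 2) F) * (N' : Matrix (Fin 2) (Fin 2) F)) := by
        have hπ : π₂ M = π₂ (N' * M * N'⁻¹) := by
          show π₂ M = π₂ N' * π₂ M * (π₂ N')⁻¹
          have hxy' : π₂ M * π₂ N' = π₂ N' * π₂ M := hxy
          rw [← hxy', mul_inv_cancel_right]
        obtain ⟨c, hc, hNM⟩ := toPSL_eq_iff.mp hπ
        have e : N' * M = M * c * N' := mul_inv_eq_iff_eq_mul.mp hNM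
        rcases center_cases hM hc with rfl | rfl
        · exfalso
          rw [mul_one] at e
          have hN0 := (orderOf_two_iff h2 N').mp hy
          obtain ⟨u, v, huv⟩ := CfsgLib.Linear.exists_eq_smul_one_add_of_commute (z := M) (g := N')
            (by
              by_contra hcon
              push Not at hcon
              exact trace_sq_ne_four h2 hM (CfsgLib.SL2Trace.trace_sq_of_mem_center
                (CfsgLib.SL2Trace.mem_center_iff_entries.mpr hcon)))
            e
          have hu : u = 0 := by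
            have := congrArg Matrix.trace huv
            rw [hN0, trace_add, trace_smul, trace_smul, hM, trace_one, Fintype.card_fin, smul_zero,
              add_zero, smul_eq_mul] at this
            push_cast at this
            exact (mul_eq_zero.mp this.symm).resolve_right h2
          rw [hu, zero_smul, zero_add] at huv
          have hv : v ^ 2 = 1 := by
            have := N'.det_coe
            rw [huv, det_smul, Fintype.card_fin, M.det_coe, mul_one] at this
            exact this
          apply hne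
          rcases sq_eq_one_iff.mp hv with rfl | rfl
          · exact congrArg QuotientGroup.mk (Subtype.ext (by rw [huv, one_smul]))
          · refine toPSL_eq_iff.mpr ⟨M * M, mul_self_mem_center hM, Subtype.ext ?_⟩
            rw [huv]
            show (-1 : F) • (M : Matrix (Fin 2) (Fin 2) F) = (M : Matrix (Fin 2) (Fin 2) F) *
              ((M * M : SL2) : Matrix (Fin 2) (Fin 2) F)
            rw [sq_eq_neg_one hM, mul_neg, mul_one, neg_smul, one_smul]
        · have he : (N' : Matrix (Fin 2) (Fin 2) F) * (M : Matrix (Fin 2) (Fin 2) F) =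
              (M : Matrix (Fin 2) (Fin 2) F) * ((M * M : SL2) : Matrix (Fin 2) (Fin 2) F) *
                (N' : Matrix (Fin 2) (Fin 2) F) :=
            congrArg (fun u : SL2 => (u : Matrix (Fin 2) (Fin 2) F)) e
          rw [he, sq_eq_neg_one hM, mul_neg, mul_one, neg_mul]
      have hMd : IsUnit (M : Matrix (Fin 2) (Fin 2) F).det := by rw [M.det_coe]; exact isUnit_one
      have hNd : IsUnit (N' : Matrix (Fin 2) (Fin 2) F).det := by rw [N'.det_coe]; exact isUnit_one
      -- adjust `a` by an element of the four-group so that it commutes with both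
      suffices H : ∃ w : SL2, π₂ w ∈ V ∧
          (am * (w : Matrix (Fin 2) (Fin 2) F)) * (M : Matrix (Fin 2) (Fin 2) F) =
            (M : Matrix (Fin 2) (Fin 2) F) * (am * (w : Matrix (Fin 2) (Fin 2) F)) ∧
          (am * (w : Matrix (Fin 2) (Fin 2) F)) * (N' : Matrix (Fin 2) (Fin 2) F) =
            (N' : Matrix (Fin 2) (Fin 2) F) * (am * (w : Matrix (Fin 2) (Fin 2) F)) by
        obtain ⟨w, hwV, hw1, hw2⟩ := H
        have hs := scalar_of_commute h2 hM hMd hNd hNM hw1 hw2
        have h1 : (ProjGenLinGroup.mk (a * SpecialLinearGroup.toGL w) : PG F) = 1 := by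
          refine mk_eq_one_of_entries ?_ ?_ ?_ <;>
            simp only [Units.val_mul] <;>
            rw [show (SpecialLinearGroup.toGL w : Matrix (Fin 2) (Fin 2) F) =
              (w : Matrix (Fin 2) (Fin 2) F) from rfl, ← ham, hs] <;> simp
        rw [map_mul, ← eq_inv_iff_mul_eq_one] at h1
        rw [h1]
        exact ⟨(π₂ w)⁻¹, V.inv_mem hwV, by rw [map_inv]; rfl⟩
      have sM := sign M (Or.inl rfl)
      have sN := sign N' (Or.inr rfl)
      set Mm := (M : Matrix (Fin 2) (Fin 2) F) with hMm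
      set Nm := (N' : Matrix (Fin 2) (Fin 2) F) with hNm
      have hMN : Mm * Nm = -(Nm * Mm) := by rw [hNM, neg_neg]
      rcases sM with sM | sM <;> rcases sN with sN | sN
      · refine ⟨1, V.one_mem, ?_, ?_⟩
        · show am * (1 : Matrix (Fin 2) (Fin 2) F) * Mm = Mm * (am * (1 : Matrix (Fin 2) (Fin 2) F))
          rw [mul_one]; exact sM
        · show am * (1 : Matrix (Fin 2) (Fin 2) F) * Nm = Nm * (am * (1 : Matrix (Fin 2) (Fin 2) F))
          rw [mul_one]; exact sN
      · refine ⟨M, hp1, ?_, ?_⟩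
        · rw [← hMm, sM, mul_assoc, sM]
        · rw [← hMm, mul_assoc, hMN, mul_neg, ← mul_assoc, sN, neg_mul, neg_neg, mul_assoc]
      · refine ⟨N', hp2, ?_, ?_⟩
        · rw [← hNm, mul_assoc, hNM, mul_neg, ← mul_assoc, sM, neg_mul, neg_neg, mul_assoc]
        · rw [← hNm, sN, mul_assoc, sN]
      · refine ⟨M * N', V.mul_mem hp1 hp2, ?_, ?_⟩
        · show (am * (Mm * Nm)) * Mm = Mm * (am * (Mm * Nm))
          calc am * (Mm * Nm) * Mm = am * Mm * (Nm * Mm) := by simp only [mul_assoc]
            _ = -(Mm * am) * -(Mm * Nm) := by rw [sM, hNM]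
            _ = Mm * (am * (Mm * Nm)) := by rw [neg_mul_neg, mul_assoc]
        · show (am * (Mm * Nm)) * Nm = Nm * (am * (Mm * Nm))
          have e1 : am * (Mm * Nm) * Nm = -(Mm * Nm * Nm * am) := by
            calc am * (Mm * Nm) * Nm = am * Mm * Nm * Nm := by simp only [mul_assoc]
              _ = -(Mm * (am * Nm) * Nm) := by rw [sM]; simp only [neg_mul, mul_assoc]
              _ = Mm * Nm * (am * Nm) := by
                conv_lhs => rw [sN]
                simp only [mul_neg, neg_mul, neg_neg, mul_assoc]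
              _ = -(Mm * Nm * Nm * am) := by rw [sN]; simp only [mul_neg, mul_assoc]
          have e2 : Nm * (am * (Mm * Nm)) = -(Mm * Nm * Nm * am) := by
            calc Nm * (am * (Mm * Nm)) = Nm * (am * Mm) * Nm := by simp only [mul_assoc]
              _ = -(Nm * Mm * (am * Nm)) := by rw [sM]; simp only [mul_neg, neg_mul, mul_assoc]
              _ = Mm * Nm * (am * Nm) := by rw [hNM]; simp only [neg_mul, neg_neg]
              _ = -(Mm * Nm * Nm * am) := by rw [sN]; simp only [mul_neg, mul_assoc]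
          rw [e1, e2]
  let pairOf : N → {q : InvPair (PG F) // q.1.1 ∈ W ∧ q.1.2 ∈ W} := fun h =>
    ⟨⟨((h : PG F) * A * (h : PG F)⁻¹, (h : PG F) * B * (h : PG F)⁻¹),
      ((MulAut.conj (h : PG F)).orderOf_eq A).trans pW.2.1,
      ((MulAut.conj (h : PG F)).orderOf_eq B).trans pW.2.2.1,
      (map_mul (MulAut.conj (h : PG F)) A B).symm.trans
        ((congrArg (MulAut.conj (h : PG F)) pW.2.2.2.1).trans (map_mul (MulAut.conj (h : PG F)) B A)),
      fun e => pW.2.2.2.2 (mul_left_cancel (mul_right_cancel e))⟩,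
      (Subgroup.mem_normalizer_iff.mp h.2 A).mp hAW, (Subgroup.mem_normalizer_iff.mp h.2 B).mp hBW⟩
  let rep : {q : InvPair (PG F) // q.1.1 ∈ W ∧ q.1.2 ∈ W} → PG F := Function.extend pairOf
    (fun h => (h : PG F)) (fun _ => 1)
  have hrep : ∀ h : N, (rep (pairOf h))⁻¹ * (h : PG F) ∈ W := by
    intro h
    obtain ⟨h', hh'⟩ : ∃ h' : N, pairOf h' = pairOf h ∧ rep (pairOf h) = (h' : PG F) := by
      by_cases hex : ∃ a, pairOf a = pairOf h
      · exact ⟨hex.choose, hex.choose_spec, by
          show Function.extend pairOf _ _ (pairOf h) = _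
          rw [Function.extend_def, dif_pos hex]⟩
      · exact absurd ⟨h, rfl⟩ hex
    rw [hh'.2]
    have e := congrArg (fun q : {q : InvPair (PG F) // q.1.1 ∈ W ∧ q.1.2 ∈ W} => q.1.1) hh'.1
    simp only [pairOf, Prod.mk.injEq] at e
    apply hcent
    · calc (h' : PG F)⁻¹ * h * A * ((h' : PG F)⁻¹ * h)⁻¹
          = (h' : PG F)⁻¹ * ((h : PG F) * A * (h : PG F)⁻¹) * h' := by group
        _ = A := by rw [← e.1]; group
    · calc (h' : PG F)⁻¹ * h * B * ((h' : PG F)⁻¹ * h)⁻¹
          = (h' : PG F)⁻¹ * ((h : PG F) * B * (h : PG F)⁻¹) * h' := by group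
        _ = B := by rw [← e.2]; group
  let f : N → {q : InvPair (PG F) // q.1.1 ∈ W ∧ q.1.2 ∈ W} × W := fun h =>
    (pairOf h, ⟨_, hrep h⟩)
  have hf : Function.Injective f := by
    intro a b hab
    have h1 : pairOf a = pairOf b := congrArg Prod.fst hab
    have h3 : (rep (pairOf a))⁻¹ * (a : PG F) = (rep (pairOf b))⁻¹ * (b : PG F) :=
      congrArg (fun t : {q : InvPair (PG F) // q.1.1 ∈ W ∧ q.1.2 ∈ W} × W => (t.2 : PG F)) hab
    rw [h1] at h3
    exact Subtype.ext (mul_left_cancel h3)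
  calc Nat.card N ≤ Nat.card ({q : InvPair (PG F) // q.1.1 ∈ W ∧ q.1.2 ∈ W} × W) :=
      Nat.card_le_card_of_injective f hf
    _ = 24 := by rw [Nat.card_prod, card_pairs_in hWK, hWc]

theorem alt_klein :
    ∃ a b : Equiv.Perm (Fin 4), a * a = 1 ∧ b * b = 1 ∧ a * b = b * a ∧ a ≠ 1 ∧ b ≠ 1 ∧ a ≠ b ∧
      ∀ g : Equiv.Perm (Fin 4),
        (g * a * g⁻¹ = a ∨ g * a * g⁻¹ = b ∨ g * a * g⁻¹ = a * b) ∧
        (g * b * g⁻¹ = a ∨ g * b * g⁻¹ = b ∨ g * b * g⁻¹ = a * b) := by
  decide +kernel

/-- For `q ≡ ±1 (mod 8)` some Klein four-group has normaliser of order at least 24. -/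
theorem exists_klein_big_normalizer (h8 : Fintype.card F ^ 2 % 16 = 1) :
    ∃ V : Subgroup (PS F), IsKleinFour V ∧
      24 ≤ Nat.card (Subgroup.normalizer (V : Set (PS F))) := by
  obtain ⟨H, ⟨e⟩⟩ := sym_four_iff.mpr h8
  obtain ⟨a, b, ha, hb, hab, ha1, hb1, hne, hnorm⟩ := alt_klein
  let φ : Equiv.Perm (Fin 4) →* PS F := H.subtype.comp e.symm.toMonoidHom
  have hφ : Function.Injective φ := H.subtype_injective.comp e.symm.injective
  obtain ⟨V, hV, hVa, hVb, hle⟩ := exists_klein_of_pair (⟨(φ a, φ b),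
    (orderOf_injective φ hφ a).trans (orderOf_two_of ha ha1),
    (orderOf_injective φ hφ b).trans (orderOf_two_of hb hb1),
    (map_mul φ a b).symm.trans ((congrArg φ hab).trans (map_mul φ b a)), hφ.ne hne⟩ : InvPair (PS F))
  refine ⟨V, hV, ?_⟩
  haveI : Finite V := Nat.finite_of_card_ne_zero (by rw [hV.card_four]; omega)
  have hmem : ∀ c : Equiv.Perm (Fin 4), c = a ∨ c = b ∨ c = a * b → φ c ∈ V := by
    rintro c (rfl | rfl | rfl)
    exacts [hVa, hVb, by rw [map_mul]; exact V.mul_mem hVa hVb]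
  have hle' : φ.range ≤ Subgroup.normalizer (V : Set (PS F)) := by
    rintro _ ⟨g, rfl⟩
    have hVle : V ≤ V.comap (MulAut.conj (φ g)).toMonoidHom := by
      apply hle
      · show φ g * φ a * (φ g)⁻¹ ∈ V
        rw [← map_inv, ← map_mul, ← map_mul]
        exact hmem _ (hnorm g).1
      · show φ g * φ b * (φ g)⁻¹ ∈ V
        rw [← map_inv, ← map_mul, ← map_mul]
        exact hmem _ (hnorm g).2
    rw [Subgroup.mem_normalizer_iff]
    intro v
    refine ⟨fun hv => hVle hv, fun hv => ?_⟩
    have hinj : Function.Injective (fun w : V => (⟨φ g * w.1 * (φ g)⁻¹, hVle w.2⟩ : V)) :=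
      fun w w' h => Subtype.ext (mul_left_cancel (mul_right_cancel (congrArg Subtype.val h)))
    obtain ⟨⟨w, hw⟩, he⟩ := (Finite.injective_iff_surjective.mp hinj) ⟨_, hv⟩
    have he' : φ g * w * (φ g)⁻¹ = φ g * v * (φ g)⁻¹ := congrArg Subtype.val he
    rwa [← mul_left_cancel (mul_right_cancel he')]
  calc 24 = Nat.card (Equiv.Perm (Fin 4)) := by rw [Nat.card_perm, Nat.card_fin]; rfl
    _ = Nat.card φ.range := Nat.card_congr (MonoidHom.ofInjective hφ).toEquiv
    _ ≤ _ := Subgroup.card_le_of_le hle'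

theorem exists_not_mem_range (h2 : (2 : F) ≠ 0) :
    ∃ δ : PG F, δ ∉ (toPG : PS F →* PG F).range := by
  haveI : Finite (PG F) := Finite.of_surjective _ ProjGenLinGroup.mk_surjective
  by_contra hc
  push Not at hc
  have htop : (toPG : PS F →* PG F).range = ⊤ := eq_top_iff.mpr fun d _ => hc d
  have h1 : Nat.card (PG F) = Nat.card (PS F) := by
    rw [← Subgroup.card_top (G := PG F), ← htop, natCard_range toPG_injective]
  have h3 := gcd_mul_card_PS (F := F)
  rw [Linear.card_PGL, Linear.card_SL_two, ← h3] at h1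
  have hd : Nat.gcd 2 (Fintype.card F - 1) = 1 := by
    have h4 := Nat.card_pos (α := PS F)
    exact Nat.eq_of_mul_eq_mul_right h4 (by rw [h1, one_mul])
  rcases gcd_two_sub (Fintype.card F) with ⟨-, h5⟩ | ⟨h5, -⟩
  · omega
  · refine h2 ?_
    have : ringChar F = 2 := FiniteField.even_card_iff_char_two.mpr h5
    haveI : CharP F 2 := ringChar.of_eq this
    exact_mod_cast CharP.cast_eq_zero F 2

/-- For `q ≡ ±1 (mod 8)` there are exactly two classes of Klein four-groups. -/
theorem two_classes (h2 : (2 : F) ≠ 0) (h8 : Fintype.card F ^ 2 % 16 = 1) :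
    ∃ V₁ V₂ : Subgroup (PS F), IsKleinFour V₁ ∧ IsKleinFour V₂ ∧
      (¬ ∃ g : PS F, V₂ = V₁.map (MulAut.conj g).toMonoidHom) ∧
      ∀ W : Subgroup (PS F), IsKleinFour W →
        (∃ g : PS F, W = V₁.map (MulAut.conj g).toMonoidHom) ∨
        (∃ g : PS F, W = V₂.map (MulAut.conj g).toMonoidHom) := by
  classical
  haveI : Finite (PG F) := Finite.of_surjective _ ProjGenLinGroup.mk_surjective
  obtain ⟨V, hV, hN24⟩ := exists_klein_big_normalizer h8
  obtain ⟨δ, hδ⟩ := exists_not_mem_range h2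
  have hnormal : ((toPG : PS F →* PG F).range).Normal := range_toPGL_eq F ▸ range_toPGL_normal F
  set W' := (V.map toPG).map (MulAut.conj δ).toMonoidHom with hW'
  have hW'le : W' ≤ (toPG : PS F →* PG F).range := by
    rintro _ ⟨_, ⟨a, -, rfl⟩, rfl⟩
    exact hnormal.conj_mem _ ⟨a, rfl⟩ δ
  set V₂ := W'.comap toPG with hV₂
  have hV₂map : V₂.map toPG = W' := Subgroup.map_comap_eq_self hW'le
  have hV₂K : IsKleinFour V₂ := by
    refine isKleinFour_of ?_ ?_
    · rw [← Subgroup.card_map_of_injective (f := toPG) toPG_injective, hV₂map, hW',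
        Subgroup.card_map_of_injective (MulAut.conj δ).injective,
        Subgroup.card_map_of_injective toPG_injective, hV.card_four]
    · intro a ha
      obtain ⟨_, ⟨b, hb, rfl⟩, he⟩ := Subgroup.mem_comap.mp ha
      refine toPG_injective ?_
      rw [map_mul, ← he, ← map_mul, ← map_mul, klein_mul_self hV hb, map_one, map_one]
  -- the normalisers
  set N := Subgroup.normalizer ((V.map toPG : Subgroup (PG F)) : Set (PG F)) with hN
  have hNle : ∀ g : PS F, g ∈ Subgroup.normalizer (V : Set (PS F)) → toPG g ∈ N := by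
    intro g hg
    rw [hN, Subgroup.mem_normalizer_iff]
    intro x
    constructor
    · rintro ⟨a, ha, rfl⟩
      exact ⟨g * a * g⁻¹, (Subgroup.mem_normalizer_iff.mp hg a).mp ha, by simp⟩
    · rintro ⟨a, ha, he⟩
      refine ⟨g⁻¹ * a * g, (Subgroup.mem_normalizer_iff.mp hg _).mpr ?_, ?_⟩
      · simpa [mul_assoc] using ha
      · rw [map_mul, map_mul, map_inv, he]; group
  have hNeq : N ≤ (toPG : PS F →* PG F).range := by
    have hsub : (Subgroup.normalizer (V : Set (PS F))).map toPG ≤ N := by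
      rintro _ ⟨g, hg, rfl⟩; exact hNle g hg
    rw [← Subgroup.eq_of_le_of_card_ge hsub ((card_normalizer_le h2 hV).trans (by
      rw [Subgroup.card_map_of_injective toPG_injective]; exact hN24))]
    exact Subgroup.map_le_range _ _
  have hnot : ¬ ∃ g : PS F, V₂ = V.map (MulAut.conj g).toMonoidHom := by
    rintro ⟨g, hg⟩
    apply hδ
    have h1 : (toPG g)⁻¹ * δ ∈ N := by
      have himg : ∀ x ∈ V.map toPG, (toPG g)⁻¹ * δ * x * ((toPG g)⁻¹ * δ)⁻¹ ∈ V.map toPG := by
        intro x hx
        have : δ * x * δ⁻¹ ∈ W' := ⟨x, hx, rfl⟩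
        rw [← hV₂map, hg] at this
        obtain ⟨_, ⟨b, hb, rfl⟩, he⟩ := this
        refine ⟨b, hb, ?_⟩
        rw [show toPG ((MulAut.conj g).toMonoidHom b) = toPG g * toPG b * (toPG g)⁻¹ by simp] at he
        calc toPG b = (toPG g)⁻¹ * (toPG g * toPG b * (toPG g)⁻¹) * toPG g := by group
          _ = _ := by rw [he]; group
      rw [hN, Subgroup.mem_normalizer_iff]
      intro x
      refine ⟨himg x, fun hx => ?_⟩
      have hinj : Function.Injective (fun w : V.map toPG =>
          (⟨_, himg w.1 w.2⟩ : V.map toPG)) :=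
        fun w w' h => Subtype.ext (mul_left_cancel (mul_right_cancel (congrArg Subtype.val h)))
      obtain ⟨⟨w, hw⟩, he⟩ := (Finite.injective_iff_surjective.mp hinj) ⟨_, hx⟩
      have he' := congrArg Subtype.val he
      simp only at he'
      rwa [← mul_left_cancel (mul_right_cancel he')]
    obtain ⟨k, hk⟩ := hNeq h1
    exact ⟨g * k, by rw [map_mul, hk, mul_inv_cancel_left]⟩
  refine ⟨V, V₂, hV, hV₂K, hnot, fun W hW => ?_⟩
  -- counting
  let X := {U : Subgroup (PS F) // IsKleinFour U}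
  let conjV : ∀ {U : Subgroup (PS F)}, IsKleinFour U → PS F → X := fun {U} hU g =>
    ⟨U.map (MulAut.conj g).toMonoidHom, isKleinFour_of
      (by rw [Subgroup.card_map_of_injective (MulAut.conj g).injective, hU.card_four])
      (by rintro _ ⟨a, ha, rfl⟩; rw [← map_mul, klein_mul_self hU ha, map_one])⟩
  have hbound : ∀ {U : Subgroup (PS F)} (hU : IsKleinFour U),
      Nat.card (Subgroup.normalizer (U : Set (PS F))) ≤ 24 →
      Nat.card (PS F) ≤ 24 * Nat.card (Set.range (conjV hU)) := by
    intro U hU h24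
    letI := Fintype.ofFinite (PS F)
    haveI : Finite (Set.range (conjV hU)) := Set.finite_range _ |>.to_subtype
    choose r hr using fun y : Set.range (conjV hU) => y.2
    let f : PS F → Set.range (conjV hU) × Subgroup.normalizer (U : Set (PS F)) := fun g =>
      (⟨conjV hU g, g, rfl⟩, ⟨(r ⟨conjV hU g, g, rfl⟩)⁻¹ * g, by
        have h := congrArg Subtype.val (hr ⟨conjV hU g, g, rfl⟩)
        simp only [conjV] at h
        set s := r ⟨conjV hU g, g, rfl⟩
        rw [Subgroup.mem_normalizer_iff]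
        intro x
        have hx := Subgroup.ext_iff.mp h (g * x * g⁻¹)
        simp only [Subgroup.mem_map, MulEquiv.coe_toMonoidHom, MulAut.conj_apply] at hx
        constructor
        · intro hxU
          obtain ⟨y, hy, he⟩ := hx.mpr ⟨x, hxU, rfl⟩
          have : y = s⁻¹ * g * x * (s⁻¹ * g)⁻¹ := by
            calc y = s⁻¹ * (s * y * s⁻¹) * s := by group
              _ = _ := by rw [he]; group
          rwa [← this]
        · intro hxU
          obtain ⟨y, hy, he⟩ := hx.mp ⟨_, hxU, by group⟩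
          rwa [← mul_left_cancel (mul_right_cancel he)]⟩)
    have hfi : Function.Injective f := by
      intro a b hab
      have h1 := congrArg Prod.fst hab
      have h3 := congrArg (fun t : Set.range (conjV hU) × Subgroup.normalizer (U : Set (PS F)) =>
        (t.2 : PS F)) hab
      simp only [f] at h1 h3
      rw [h1] at h3
      exact mul_left_cancel h3
    calc Nat.card (PS F) ≤ _ := Nat.card_le_card_of_injective f hfi
      _ = Nat.card (Set.range (conjV hU)) * Nat.card (Subgroup.normalizer (U : Set (PS F))) :=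
        Nat.card_prod _ _
      _ ≤ 24 * Nat.card (Set.range (conjV hU)) := by
        rw [mul_comm 24]
        exact Nat.mul_le_mul_left _ h24
  have hNbound : ∀ {U : Subgroup (PS F)}, IsKleinFour U →
      Nat.card (Subgroup.normalizer (U : Set (PS F))) ≤ 24 := by
    intro U hU
    refine le_trans ?_ (card_normalizer_le h2 hU)
    rw [Nat.card_congr ((Subgroup.normalizer (U : Set (PS F))).equivMapOfInjective toPG
      toPG_injective).toEquiv]
    exact Subgroup.card_le_of_le (Subgroup.le_normalizer_map (H := U) toPG)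
  by_contra hcon
  rw [not_or] at hcon
  let S₁ := Set.range (conjV hV)
  let S₂ := Set.range (conjV hV₂K)
  have hWX : (⟨W, hW⟩ : X) ∉ S₁ ∪ S₂ := by
    rintro (⟨g, hg⟩ | ⟨g, hg⟩)
    · exact hcon.1 ⟨g, (congrArg Subtype.val hg).symm⟩
    · exact hcon.2 ⟨g, (congrArg Subtype.val hg).symm⟩
  have hdisj : Disjoint S₁ S₂ := by
    rw [Set.disjoint_left]
    rintro _ ⟨g, rfl⟩ ⟨g', hg'⟩
    apply hnot
    have h := congrArg Subtype.val hg'
    simp only [conjV] at h
    refine ⟨g'⁻¹ * g, ?_⟩
    refine Subgroup.map_injective (f := (MulAut.conj g').toMonoidHom) (MulAut.conj g').injective ?_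
    rw [h, Subgroup.map_map]
    congr 1
    ext a
    simp [mul_assoc]
  haveI : Finite X := inferInstance
  have h1 : S₁.ncard + S₂.ncard < Nat.card X := by
    rw [← Set.ncard_union_eq hdisj, ← Set.ncard_univ]
    exact Set.ncard_lt_ncard (Set.ssubset_univ_iff.mpr fun e => hWX (e ▸ Set.mem_univ _))
  have h3 := hbound hV (hNbound hV)
  have h4 := hbound hV₂K (hNbound hV₂K)
  rw [Nat.card_coe_set_eq] at h3 h4
  have h5 : 12 * Nat.card X = Nat.card (PS F) := twelve_mul_card_klein h2
  change Nat.card (PS F) ≤ 24 * S₁.ncard at h3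
  change Nat.card (PS F) ≤ 24 * S₂.ncard at h4
  omega

/-- For `q ≡ ±3 (mod 8)` Klein four-groups are Sylow subgroups, hence conjugate. -/
theorem one_class (hq : Fintype.card F % 8 = 3 ∨ Fintype.card F % 8 = 5) (V W : Subgroup (PS F))
    (hV : IsKleinFour V) (hW : IsKleinFour W) :
    ∃ g : PS F, W = V.map (MulAut.conj g).toMonoidHom := by
  haveI : Fact (Nat.Prime 2) := ⟨Nat.prime_two⟩
  have hfac : (Nat.card (PS F)).factorization 2 = 2 := by
    have h := gcd_mul_card_PS (F := F)
    rw [show Nat.gcd 2 (Fintype.card F - 1) = 2 from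
      Nat.gcd_eq_left (Nat.dvd_of_mod_eq_zero (by omega))] at h
    have h1 : Fintype.card F ^ 2 % 16 = 9 := by
      have h2 : Fintype.card F ^ 2 % 16 = (Fintype.card F % 16) ^ 2 % 16 := Nat.pow_mod _ 2 16
      rw [h2]
      have h3 : Fintype.card F % 8 = Fintype.card F % 16 % 8 :=
        (Nat.mod_mod_of_dvd _ (by norm_num)).symm
      have : Fintype.card F % 16 < 16 := Nat.mod_lt _ (by norm_num)
      rcases (show Fintype.card F % 16 = 3 ∨ Fintype.card F % 16 = 5 ∨ Fintype.card F % 16 = 11 ∨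
        Fintype.card F % 16 = 13 by omega) with h | h | h | h <;> rw [h] <;> norm_num
    have hdiv : ∃ m, Fintype.card F ^ 2 - 1 = 8 * m ∧ m % 2 = 1 :=
      ⟨(Fintype.card F ^ 2 - 1) / 8, by omega, by omega⟩
    obtain ⟨m, hm, hm2⟩ := hdiv
    rw [hm] at h
    have h4 : Nat.card (PS F) = 2 ^ 2 * (Fintype.card F * m) := by
      rw [show Fintype.card F * (8 * m) = 8 * (Fintype.card F * m) by ring] at h
      omega
    have hodd : ¬ 2 ∣ Fintype.card F * m := by
      rw [Nat.prime_two.dvd_mul]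
      omega
    have hne : Fintype.card F * m ≠ 0 := fun h0 => hodd (h0 ▸ dvd_zero 2)
    rw [h4, Nat.factorization_mul (by norm_num) hne, Finsupp.add_apply,
      Nat.Prime.factorization_pow Nat.prime_two, Finsupp.single_eq_same,
      Nat.factorization_eq_zero_of_not_dvd hodd]
  let P : Sylow 2 (PS F) := Sylow.ofCard V (by rw [hfac, hV.card_four]; rfl)
  let Q : Sylow 2 (PS F) := Sylow.ofCard W (by rw [hfac, hW.card_four]; rfl)
  obtain ⟨g, hg⟩ := MulAction.exists_smul_eq (PS F) P Q
  refine ⟨g, ?_⟩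
  have := congrArg (fun R : Sylow 2 (PS F) => (R : Subgroup (PS F))) hg
  simp only [Sylow.coe_subgroup_smul, Sylow.coe_ofCard, P, Q] at this
  exact this.symm

end CfsgLib.PSL2Sub

namespace CfsgLib.PSL2Sub

open Matrix

variable {F : Type*} [Field F] [Fintype F]

/-- A subgroup of order four of `SL₂`, `q` odd, is generated by a trace-zero element. -/
theorem exists_generator_order_four (h2 : (2 : F) ≠ 0)
    (A : Subgroup (SpecialLinearGroup (Fin 2) F)) (hA : Nat.card A = 4) :
    ∃ M : SpecialLinearGroup (Fin 2) F, (M : Matrix (Fin 2) (Fin 2) F).trace = 0 ∧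
      orderOf M = 4 ∧ A = Subgroup.zpowers M := by
  obtain ⟨M, hMA, hMc⟩ : ∃ M ∈ A, M ∉ Subgroup.center (SpecialLinearGroup (Fin 2) F) := by
    by_contra hc
    push Not at hc
    have := Subgroup.card_le_of_le (show A ≤ Subgroup.center _ from fun x hx => hc x hx)
    rw [hA, card_center h2] at this
    omega
  have h4 : M ^ 4 = 1 := by
    have := pow_card_eq_one' (x := (⟨M, hMA⟩ : A))
    rw [hA] at this
    exact congrArg Subtype.val this
  have hMM : M * M ∈ Subgroup.center (SpecialLinearGroup (Fin 2) F) :=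
    CfsgLib.SL2Trace.mem_center_of_sq_eq_one h2
      (by rw [← h4]; simp only [pow_succ, pow_zero, one_mul, mul_assoc])
  have hM2 : M ^ 2 ≠ 1 := fun h =>
    hMc (CfsgLib.SL2Trace.mem_center_of_sq_eq_one h2 (by rw [← pow_two]; exact h))
  have hord : orderOf M = 4 := orderOf_eq_prime_pow (p := 2) (n := 1) (by simpa using hM2)
    (by simpa using h4)
  refine ⟨M, ?_, hord, ?_⟩
  · rw [← orderOf_two_iff h2]
    refine orderOf_two_of ?_ ?_
    · rw [CfsgLib.SL2Trace.toPSL, ← QuotientGroup.mk_mul, QuotientGroup.eq_one_iff]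
      exact hMM
    · rw [CfsgLib.SL2Trace.toPSL, Ne, QuotientGroup.eq_one_iff]
      exact hMc
  · refine (Subgroup.eq_of_le_of_card_ge (Subgroup.zpowers_le.mpr hMA) ?_).symm
    rw [hA, Nat.card_zpowers, hord]

theorem conj_order_four (h2 : (2 : F) ≠ 0)
    (A B : Subgroup (SpecialLinearGroup (Fin 2) F)) (hA : Nat.card A = 4) (hB : Nat.card B = 4) :
    ∃ g : SpecialLinearGroup (Fin 2) F, B = A.map (MulAut.conj g).toMonoidHom := by
  obtain ⟨M, hM, -, rfl⟩ := exists_generator_order_four h2 A hA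
  obtain ⟨N, hN, -, rfl⟩ := exists_generator_order_four h2 B hB
  obtain ⟨U, hU⟩ := CfsgLib.SL2Trace.isConj_of_trace_eq M N (trace_sq_ne_four h2 hM)
    (hN.trans hM.symm)
  exact ⟨U, by rw [MonoidHom.map_zpowers, hU]; rfl⟩

theorem normalizer_order_four (h2 : (2 : F) ≠ 0)
    (A : Subgroup (SpecialLinearGroup (Fin 2) F)) (hA : Nat.card A = 4) :
    (Fintype.card F % 4 = 1 →
      Nat.card (Subgroup.normalizer (A : Set (SpecialLinearGroup (Fin 2) F))) =
        2 * (Fintype.card F - 1)) ∧
    (Fintype.card F % 4 = 3 →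
      Nat.card (Subgroup.normalizer (A : Set (SpecialLinearGroup (Fin 2) F))) =
        2 * (Fintype.card F + 1)) := by
  classical
  obtain ⟨M, hM, hord, rfl⟩ := exists_generator_order_four h2 A hA
  have hreg := trace_sq_ne_four h2 hM
  have hmem : ∀ x, x ∈ Subgroup.zpowers M → x = 1 ∨ x = M ∨ x = M ^ 2 ∨ x = M⁻¹ := by
    intro x hx
    rw [← (orderOf_pos_iff.mp (by omega : 0 < orderOf M)).mem_powers_iff_mem_zpowers] at hx
    obtain ⟨i, rfl⟩ := hx
    show M ^ i = 1 ∨ M ^ i = M ∨ M ^ i = M ^ 2 ∨ M ^ i = M⁻¹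
    rw [← pow_mod_orderOf, hord]
    have : i % 4 < 4 := Nat.mod_lt _ (by norm_num)
    interval_cases i % 4
    · exact Or.inl (pow_zero M)
    · exact Or.inr (Or.inl (pow_one M))
    · exact Or.inr (Or.inr (Or.inl rfl))
    · refine Or.inr (Or.inr (Or.inr (eq_inv_of_mul_eq_one_left ?_)))
      rw [← pow_succ, show (3 + 1 : ℕ) = orderOf M by omega, pow_orderOf_eq_one]
  have heq : Subgroup.normalizer ((Subgroup.zpowers M : Subgroup _) :
        Set (SpecialLinearGroup (Fin 2) F)) =
      Subgroup.normalizer ((Subgroup.centralizer ({M} : Set (SpecialLinearGroup (Fin 2) F)) :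
        Subgroup _) : Set (SpecialLinearGroup (Fin 2) F)) := by
    ext g
    rw [CfsgLib.SL2Trace.mem_normalizer_iff_cases hreg h2]
    have hcomm : g ∈ Subgroup.centralizer ({M} : Set (SpecialLinearGroup (Fin 2) F)) ↔
        g * M * g⁻¹ = M := by
      rw [Subgroup.mem_centralizer_singleton_iff, mul_inv_eq_iff_eq_mul]
    rw [hcomm]
    constructor
    · intro hg
      have h := hmem _ ((Subgroup.mem_normalizer_iff.mp hg M).mp (Subgroup.mem_zpowers M))
      have hne : ∀ c ∈ Subgroup.center (SpecialLinearGroup (Fin 2) F), g * M * g⁻¹ ≠ c := by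
        intro c hc he
        apply hreg
        rw [← CfsgLib.SL2Trace.trace_mul_mul_inv (G := g) M, he]
        exact CfsgLib.SL2Trace.trace_sq_of_mem_center hc
      rcases h with h | h | h | h
      · exact absurd h (hne 1 (one_mem _))
      · exact Or.inl h
      · exact absurd h (hne _ (by rw [pow_two]; exact mul_self_mem_center hM))
      · exact Or.inr h
    · intro h
      have himg : ∀ x ∈ Subgroup.zpowers M, g * x * g⁻¹ ∈ Subgroup.zpowers M := by
        intro x hx
        obtain ⟨i, rfl⟩ := Subgroup.mem_zpowers_iff.mp hx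
        rw [← conj_zpow]
        rcases h with h | h <;> rw [h]
        · exact Subgroup.zpow_mem _ (Subgroup.mem_zpowers M) i
        · exact Subgroup.zpow_mem _ (Subgroup.inv_mem _ (Subgroup.mem_zpowers M)) i
      rw [Subgroup.mem_normalizer_iff]
      intro x
      refine ⟨himg x, fun hx => ?_⟩
      have hinj : Function.Injective (fun w : Subgroup.zpowers M =>
          (⟨_, himg w.1 w.2⟩ : Subgroup.zpowers M)) :=
        fun w w' h => Subtype.ext (mul_left_cancel (mul_right_cancel (congrArg Subtype.val h)))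
      obtain ⟨⟨w, hw⟩, he⟩ := (Finite.injective_iff_surjective.mp hinj) ⟨_, hx⟩
      have he' := congrArg Subtype.val he
      simp only at he'
      rwa [← mul_left_cancel (mul_right_cancel he')]
  have hT := CfsgLib.SL2Trace.centralizer_card_cyclic M hreg
  have hcard := CfsgLib.SL2Trace.card_normalizer_torus hreg h2
  rw [heq]
  refine ⟨fun hq => ?_, fun hq => ?_⟩
  · obtain ⟨u, hu⟩ := (FiniteField.isSquare_neg_one_iff (F := F)).mpr (by omega)
    rw [hcard, hT.2.1 ⟨u, by rw [hM]; linear_combination -hu⟩]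
  · rw [hcard, hT.2.2 ?_]
    rintro ⟨u, hu⟩
    rw [hM] at hu
    exact ((FiniteField.isSquare_neg_one_iff (F := F)).mp ⟨u, by linear_combination -hu⟩) hq

end CfsgLib.PSL2Sub
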