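import Cfsg.Agent.Lib.PSL2Sub.PSL

/-!
Numerical consequences of Dickson's theorem: point stabilisers, element orders, dihedral
subgroups, bounds for subfield subgroups.
-/

set_option autoImplicit false
set_option linter.unusedSectionVars false

namespace CfsgLib.PSL2Sub

open Matrix OnePoint

theorem orderOf_le_card_add_one {K : Type*} [Field K] [Finite K] (h : PG K) :
    orderOf h ≤ Nat.card K + 1 := by
  classical
  induction h using ProjGenLinGroup.induction_on with
  | mk M =>
    set A := (M : Matrix (Fin 2) (Fin 2) K) with hA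
    have hCH : A * A = A.trace • A - A.det • 1 := by
      ext i j
      fin_cases i <;> fin_cases j <;>
        simp [Matrix.mul_apply, Fin.sum_univ_two, trace_fin_two, det_fin_two] <;> ring
    have hpow : ∀ i : ℕ, ∃ ab : K × K, A ^ i = ab.1 • A + ab.2 • (1 : Matrix (Fin 2) (Fin 2) K) := by
      intro i
      induction i with
      | zero => exact ⟨(0, 1), by simp⟩
      | succ i ih =>
        obtain ⟨⟨a, b⟩, hab⟩ := ih
        refine ⟨(a * A.trace + b, -(a * A.det)), ?_⟩
        rw [pow_succ, hab, add_mul, smul_mul_assoc, smul_mul_assoc, one_mul, hCH]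
        ext i j
        simp only [Matrix.add_apply, Matrix.smul_apply, Matrix.sub_apply, smul_eq_mul]
        ring
    choose ab hab using hpow
    have hne : ∀ i, ab i ≠ (0, 0) := by
      intro i h0
      have := hab i
      rw [h0, zero_smul, zero_smul, add_zero] at this
      have h1 : ((M ^ i : GL (Fin 2) K) : Matrix (Fin 2) (Fin 2) K) = 0 := by
        rw [Units.val_pow_eq_pow_val, ← hA, this]
      exact Units.ne_zero _ h1
    let f : Fin (orderOf (ProjGenLinGroup.mk M : PG K)) → OnePoint K := fun i =>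
      if (ab i).1 = 0 then ∞ else ((ab i).2 / (ab i).1 : K)
    have hf : Function.Injective f := by
      intro i j hij
      obtain ⟨c, hc, hab'⟩ : ∃ c : K, c ≠ 0 ∧ ab (i : ℕ) = c • ab (j : ℕ) := by
        simp only [f] at hij
        by_cases hi : (ab i).1 = 0 <;> by_cases hj : (ab j).1 = 0
        · have hi2 : (ab i).2 ≠ 0 := fun h => hne i (Prod.ext hi h)
          have hj2 : (ab j).2 ≠ 0 := fun h => hne j (Prod.ext hj h)
          exact ⟨(ab i).2 / (ab j).2, div_ne_zero hi2 hj2,
            Prod.ext (by simp [hi, hj]) (by simp [hj2])⟩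
        · rw [if_pos hi, if_neg hj] at hij
          exact absurd hij (OnePoint.infty_ne_coe _)
        · rw [if_neg hi, if_pos hj] at hij
          exact absurd hij (OnePoint.coe_ne_infty _)
        · rw [if_neg hi, if_neg hj, OnePoint.coe_eq_coe] at hij
          refine ⟨(ab i).1 / (ab j).1, div_ne_zero hi hj, Prod.ext (by simp [hj]) ?_⟩
          simp only [Prod.smul_snd, smul_eq_mul]
          field_simp at hij ⊢
          linear_combination hij
      have hM : M ^ (i : ℕ) = GeneralLinearGroup.scalar (Fin 2) (Units.mk0 c hc) * M ^ (j : ℕ) := by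
        apply Units.ext
        rw [Units.val_mul, Units.val_pow_eq_pow_val, Units.val_pow_eq_pow_val, ← hA, hab, hab,
          hab', GeneralLinearGroup.coe_scalar, Units.val_mk0]
        rw [Matrix.scalar_apply, ← Matrix.smul_eq_diagonal_mul, smul_add, smul_smul, smul_smul]
        rfl
      have h1 : (ProjGenLinGroup.mk M : PG K) ^ (i : ℕ) = ProjGenLinGroup.mk M ^ (j : ℕ) := by
        rw [← map_pow, ← map_pow, hM, map_mul,
          show (ProjGenLinGroup.mk (GeneralLinearGroup.scalar (Fin 2) (Units.mk0 c hc)) : PG K) = 1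
            from ProjGenLinGroup.mk_eq_one.mpr
              (by rw [GeneralLinearGroup.center_eq_range_scalar]; exact ⟨_, rfl⟩), one_mul]
      exact Fin.ext (pow_injOn_Iio_orderOf i.2 j.2 h1)
    haveI : Finite (OnePoint K) := inferInstanceAs (Finite (Option K))
    have := Nat.card_le_card_of_injective f hf
    rwa [Nat.card_fin, show Nat.card (OnePoint K) = Nat.card K + 1 from Finite.card_option] at this

section Dihedral

/-- A dihedral subgroup from an element and an involution inverting it. -/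
theorem exists_dihedral {G : Type*} [Group G] [Finite G] (c s : G) (hs : s * s = 1)
    (hsc : s * c * s⁻¹ = c⁻¹) (hout : s ∉ Subgroup.zpowers c) :
    ∃ H : Subgroup G, c ∈ H ∧ s ∈ H ∧ Nat.card H = 2 * orderOf c ∧
      Nonempty (H ≃* DihedralGroup (orderOf c)) := by
  have hs' : s⁻¹ = s := inv_eq_of_mul_eq_one_right hs
  have hinv : ∀ a ∈ Subgroup.zpowers c, s * a * s = a⁻¹ := by
    intro a ha
    obtain ⟨i, rfl⟩ := Subgroup.mem_zpowers_iff.mp ha
    conv_lhs => arg 2; rw [← hs']
    rw [← conj_zpow, hsc, _root_.inv_zpow]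
  let A := Subgroup.zpowers c
  let H : Subgroup G :=
    { carrier := {g | g ∈ A ∨ s * g ∈ A}
      one_mem' := Or.inl A.one_mem
      mul_mem' := by
        rintro a b (ha | ha) (hb | hb)
        · exact Or.inl (A.mul_mem ha hb)
        · right
          have : s * (a * b) = (s * a * s) * (s * b) := by
            rw [mul_assoc (s * a) s, ← mul_assoc s s b, hs, one_mul, mul_assoc]
          rw [this, hinv a ha]
          exact A.mul_mem (A.inv_mem ha) hb
        · right
          rw [← mul_assoc]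
          exact A.mul_mem ha hb
        · left
          have : a * b = (s * (s * a) * s) * (s * b) := by
            rw [mul_assoc _ s (s * b), ← mul_assoc s s b, hs, one_mul, ← mul_assoc s s a, hs,
              one_mul]
          rw [this, hinv _ ha]
          exact A.mul_mem (A.inv_mem ha) hb
      inv_mem' := by
        rintro a (ha | ha)
        · exact Or.inl (A.inv_mem ha)
        · right
          have : s * a⁻¹ = s * (s * a)⁻¹ * s := by
            rw [_root_.mul_inv_rev, hs', mul_assoc, mul_assoc, hs, mul_one]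
          rw [this, hinv _ (A.inv_mem ha), inv_inv]
          exact ha }
  have hle : A ≤ H := fun a ha => Or.inl ha
  have hsH : s ∈ H := Or.inr (by rw [hs]; exact A.one_mem)
  have hcA : Nat.card (A.subgroupOf H) = orderOf c := by
    rw [Nat.card_congr (Subgroup.subgroupOfEquivOfLe hle).toEquiv, Nat.card_zpowers]
  have hidx : (A.subgroupOf H).index = 2 := by
    rw [Subgroup.index_eq_two_iff]
    refine ⟨⟨s, hsH⟩, fun g => ?_⟩
    rw [Subgroup.mem_subgroupOf, Subgroup.mem_subgroupOf]
    show Xor' ((g : G) * s ∈ A) ((g : G) ∈ A)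
    rcases g.2 with hg | hg
    · exact Or.inr ⟨hg, fun h => hout ((A.mul_mem_cancel_left hg).mp h)⟩
    · refine Or.inl ⟨?_, fun h => hout ((A.mul_mem_cancel_right h).mp hg)⟩
      have : (g : G) * s = (s * (s * g) * s) := by rw [← mul_assoc s s, hs, one_mul]
      rw [this, hinv _ hg]
      exact A.inv_mem hg
  haveI : IsCyclic (A.subgroupOf H) := isCyclic_of_surjective
    (Subgroup.subgroupOfEquivOfLe hle).symm.toMonoidHom (Subgroup.subgroupOfEquivOfLe hle).symm.surjective
  obtain ⟨e⟩ := dihedral_of_index_two (A.subgroupOf H) hidx inferInstance fun x hx => by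
    have hxA : (x : G) ∉ A := hx
    have h2 := x.2.resolve_left hxA
    apply Subtype.ext
    show (x : G) * x = 1
    have h3 : (x : G) * x = (s * (s * x) * s) * (s * x) := by
      rw [mul_assoc _ s (s * (x : G)), ← mul_assoc s s (x : G), hs, one_mul]
    rw [h3, hinv _ h2, inv_mul_cancel]
  refine ⟨H, hle (Subgroup.mem_zpowers c), hsH, ?_, ⟨hcA ▸ e⟩⟩
  rw [← Subgroup.card_mul_index (A.subgroupOf H), hidx, hcA, mul_comm]

end Dihedral

variable {F : Type*} [Field F] [Fintype F]

theorem gcd_mul_card_PS :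
    Nat.gcd 2 (Fintype.card F - 1) * Nat.card (PS F) =
      Fintype.card F * (Fintype.card F ^ 2 - 1) := by
  have h := Linear.card_PSL_mul (n := Fin 2) (F := F)
  rwa [Fintype.card_fin, Linear.card_SL_two] at h

theorem gcd_two_sub (q : ℕ) :
    (q % 2 = 1 ∧ Nat.gcd 2 (q - 1) = 2) ∨ (q % 2 = 0 ∧ (q = 0 ∨ Nat.gcd 2 (q - 1) = 1)) := by
  rcases Nat.mod_two_eq_zero_or_one q with h | h
  · refine Or.inr ⟨h, (Nat.eq_zero_or_pos q).imp_right fun hq => ?_⟩
    rw [Nat.gcd_rec, show (q - 1) % 2 = 1 by omega, Nat.gcd_one_left]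
  · exact Or.inl ⟨h, Nat.gcd_eq_left (Nat.dvd_of_mod_eq_zero (by omega))⟩

/-- Tori with an inverting involution. -/
theorem exists_torus (τ : F) (hτ : τ ^ 2 ≠ 4) (n : ℕ)
    (hn : Nat.card (Subgroup.centralizer
      ({CfsgLib.SL2Trace.comp τ} : Set (SpecialLinearGroup (Fin 2) F))) = n)
    (hpar : n % 2 = (Fintype.card F - 1) % 2) :
    ∃ c s : PS F, orderOf c = n / Nat.gcd 2 (Fintype.card F - 1) ∧ s * s = 1 ∧
      s * c * s⁻¹ = c⁻¹ ∧ s ∉ Subgroup.zpowers c := by
  have hcyc := CfsgLib.SL2Trace.isCyclic_centralizer_comp τ hτ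
  obtain ⟨g, hg⟩ := IsCyclic.exists_ofOrder_eq_natCard
    (α := Subgroup.centralizer ({CfsgLib.SL2Trace.comp τ} : Set (SpecialLinearGroup (Fin 2) F)))
  rw [hn, ← Subgroup.orderOf_coe] at hg
  obtain ⟨a, b, hab⟩ := CfsgLib.SL2Trace.exists_quad_eq (1 : F) (-τ) 1 (-1)
    (fun h => hτ (by linear_combination h))
  set U := CfsgLib.SL2Trace.mk2 a b (b - a * τ) (-a) (by linear_combination -hab) with hU
  have hU2 : ((U * U : SpecialLinearGroup (Fin 2) F) : Matrix (Fin 2) (Fin 2) F) =
      Matrix.scalar (Fin 2) (-1 : F) := by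
    show (U : Matrix (Fin 2) (Fin 2) F) * (U : Matrix (Fin 2) (Fin 2) F) = _
    ext i j
    fin_cases i <;> fin_cases j <;>
      simp [hU, CfsgLib.SL2Trace.coe_mk2, Matrix.mul_apply, Fin.sum_univ_two] <;>
      first | ring1 | linear_combination hab
  have key : ∀ t ∈ Subgroup.centralizer
      ({CfsgLib.SL2Trace.comp τ} : Set (SpecialLinearGroup (Fin 2) F)), U * t * U⁻¹ = t⁻¹ := by
    intro t ht
    obtain ⟨h1, h2⟩ := (CfsgLib.SL2Trace.mem_centralizer_comp_iff τ t).mp ht
    rw [mul_inv_eq_iff_eq_mul]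
    apply Subtype.ext
    show (U : Matrix (Fin 2) (Fin 2) F) * (t : Matrix (Fin 2) (Fin 2) F) =
      ((t⁻¹ : SpecialLinearGroup (Fin 2) F) : Matrix (Fin 2) (Fin 2) F) *
        (U : Matrix (Fin 2) (Fin 2) F)
    ext i j
    fin_cases i <;> fin_cases j <;>
      simp [hU, CfsgLib.SL2Trace.coe_mk2, Matrix.mul_apply, Fin.sum_univ_two,
        SpecialLinearGroup.coe_inv, Matrix.adjugate_fin_two, h1, h2] <;> ring
  refine ⟨CfsgLib.SL2Trace.toPSL g.1, CfsgLib.SL2Trace.toPSL U, ?_, ?_, ?_, ?_⟩
  · rw [CfsgLib.SL2Trace.orderOf_toPSL _ (by rw [hg]; exact hpar), hg]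
  · rw [CfsgLib.SL2Trace.toPSL, ← QuotientGroup.mk_mul, QuotientGroup.eq_one_iff]
    exact CfsgLib.SL2Trace.mem_center_of_scalar _ hU2
  · rw [CfsgLib.SL2Trace.toPSL, CfsgLib.SL2Trace.toPSL, ← QuotientGroup.mk_mul,
      ← QuotientGroup.mk_inv, ← QuotientGroup.mk_mul, ← QuotientGroup.mk_inv, key g.1 g.2]
  · intro hmem
    obtain ⟨i, hi⟩ := Subgroup.mem_zpowers_iff.mp hmem
    rw [CfsgLib.SL2Trace.toPSL, ← QuotientGroup.mk_zpow, CfsgLib.SL2Trace.toPSL,
      QuotientGroup.eq] at hi
    have hUT : U ∈ Subgroup.centralizer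
        ({CfsgLib.SL2Trace.comp τ} : Set (SpecialLinearGroup (Fin 2) F)) := by
      have := Subgroup.mul_mem _ (Subgroup.zpow_mem _ g.2 i)
        (Subgroup.center_le_centralizer _ hi)
      rwa [mul_inv_cancel_left] at this
    have hk := key _ (Subgroup.mem_centralizer_singleton_iff.mpr rfl)
    rw [Subgroup.mem_centralizer_singleton_iff.mp hUT, mul_inv_cancel_right] at hk
    have h2 := congrArg (fun M : SpecialLinearGroup (Fin 2) F => (M : Matrix (Fin 2) (Fin 2) F)) hk
    have e10 := congrFun (congrFun h2 1) 1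
    have e00 := congrFun (congrFun h2 0) 1
    simp [CfsgLib.SL2Trace.coe_comp, SpecialLinearGroup.coe_inv, Matrix.adjugate_fin_two] at e10 e00
    exact hτ (by rw [e10]; linear_combination 2 * e00)

variable [DecidableEq F]

/-- The stabiliser of a point of the projective line in `PSL₂`. -/
def pointStab (y : OnePoint F) : Subgroup (PS F) :=
  (MulAction.stabilizer (PG F) y).comap toPG

theorem mem_pointStab {y : OnePoint F} {g : PS F} : g ∈ pointStab y ↔ toPG g • y = y := Iff.rfl

theorem index_pointStab (y : OnePoint F) : (pointStab y).index = Fintype.card F + 1 := by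
  letI : MulAction (PS F) (OnePoint F) := MulAction.compHom _ toPG
  haveI : MulAction.IsPretransitive (PS F) (OnePoint F) := by
    have : ∀ z : OnePoint F, ∃ g : PS F, g • (∞ : OnePoint F) = z := by
      intro z
      cases z with
      | infty => exact ⟨1, one_smul _ _⟩
      | coe x =>
        refine ⟨QuotientGroup.mk (CfsgLib.SL2Trace.mk2 x (-1) 1 0 (by ring)), ?_⟩
        show (ProjGenLinGroup.mk (SpecialLinearGroup.toGL
          (CfsgLib.SL2Trace.mk2 x (-1) 1 0 (by ring))) : PG F) • (∞ : OnePoint F) = _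
        rw [mk_smul_onePoint, smul_infty_eq_ite]
        simp [CfsgLib.SL2Trace.coe_mk2]
    refine ⟨fun a b => ?_⟩
    obtain ⟨g, rfl⟩ := this a
    obtain ⟨h, rfl⟩ := this b
    exact ⟨h * g⁻¹, by rw [mul_smul, inv_smul_smul]⟩
  rw [show pointStab y = MulAction.stabilizer (PS F) y from rfl,
    MulAction.index_stabilizer_of_transitive,
    show Nat.card (OnePoint F) = Nat.card F + 1 from Finite.card_option, Nat.card_eq_fintype_card]

theorem gcd_mul_card_pointStab (y : OnePoint F) :
    Nat.gcd 2 (Fintype.card F - 1) * Nat.card (pointStab y) =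
      Fintype.card F * (Fintype.card F - 1) := by
  refine Nat.eq_of_mul_eq_mul_right (show 0 < Fintype.card F + 1 by omega) ?_
  rw [mul_assoc, ← index_pointStab y, Subgroup.card_mul_index, gcd_mul_card_PS, index_pointStab,
    mul_assoc]
  congr 1
  rw [mul_comm]
  simpa using Nat.sq_sub_sq (Fintype.card F) 1

/-- Bounds on a proper subgroup of subfield type. -/
theorem field_bounds (p : ℕ) [Fact p.Prime] [CharP F p] {H : Subgroup (PS F)} (hH : H ≠ ⊤)
    {E : Subfield F} (hE : Nonempty (H ≃* PG E) ∨ (p ≠ 2 ∧ Nonempty (H ≃* PS E))) :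
    2 ≤ Nat.card E ∧ (p ≠ 2 → 3 ≤ Nat.card E) ∧
      Nat.card E * Nat.card E ≤ Fintype.card F ∧
      Nat.card H ≤ Nat.card E * (Nat.card E ^ 2 - 1) ∧
      ∀ h ∈ H, orderOf h ≤ Nat.card E + 1 := by
  letI := Fintype.ofFinite E
  haveI : CharP E p := (RingHom.charP_iff E.subtype Subtype.coe_injective p).mpr inferInstance
  obtain ⟨j, -, hj⟩ := FiniteField.card E p
  rw [← Nat.card_eq_fintype_card] at hj
  have hE2 : 2 ≤ Nat.card E := Finite.one_lt_card
  have hp3 : p ≠ 2 → 3 ≤ Nat.card E := fun hp2 => by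
    have h3 : 3 ≤ p := by have := (Fact.out : p.Prime).two_le; omega
    rw [hj]
    calc 3 ≤ p := h3
      _ = p ^ 1 := (pow_one p).symm
      _ ≤ p ^ (j : ℕ) := Nat.pow_le_pow_right (by omega) j.pos
  obtain ⟨m, hm0, hm⟩ := card_subfield_pow E
  have hcard : Nat.card H ≤ Nat.card E * (Nat.card E ^ 2 - 1) ∧
      (m = 1 → Nat.card (PS F) ≤ Nat.card H) ∧ ∀ h ∈ H, orderOf h ≤ Nat.card E + 1 := by
    have hPS := gcd_mul_card_PS (F := E)
    rw [← Nat.card_eq_fintype_card] at hPS
    have hd : 1 ≤ Nat.gcd 2 (Nat.card E - 1) := Nat.gcd_pos_of_pos_left _ two_pos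
    have hPG : Nat.card (PG E) = Nat.card E * (Nat.card E ^ 2 - 1) := by
      rw [Linear.card_PGL, Linear.card_SL_two, ← Nat.card_eq_fintype_card]
    have hle : Nat.card (PS E) ≤ Nat.card E * (Nat.card E ^ 2 - 1) :=
      hPS ▸ Nat.le_mul_of_pos_left _ hd
    have hF := gcd_mul_card_PS (F := F)
    have hdF : 1 ≤ Nat.gcd 2 (Fintype.card F - 1) := Nat.gcd_pos_of_pos_left _ two_pos
    rcases hE with ⟨⟨e⟩⟩ | ⟨-, ⟨e⟩⟩
    · refine ⟨((Nat.card_congr e.toEquiv).trans hPG).le, fun h1 => ?_, fun h hh => ?_⟩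
      · rw [h1, pow_one] at hm
        rw [Nat.card_congr e.toEquiv, hPG, hm, ← hF]
        exact Nat.le_mul_of_pos_left _ hdF
      · rw [← Subgroup.orderOf_mk h hh, ← MulEquiv.orderOf_eq e]
        exact orderOf_le_card_add_one _
    · refine ⟨(Nat.card_congr e.toEquiv).le.trans hle, fun h1 => ?_, fun h hh => ?_⟩
      · rw [h1, pow_one] at hm
        rw [hm, ← hF] at hPS
        rw [Nat.card_congr e.toEquiv]
        exact (Nat.eq_of_mul_eq_mul_left (show 0 < _ by omega) hPS).ge
      · rw [← Subgroup.orderOf_mk h hh, ← MulEquiv.orderOf_eq e,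
          ← orderOf_injective toPG toPG_injective]
        exact orderOf_le_card_add_one _
  refine ⟨hE2, hp3, ?_, hcard.1, hcard.2.2⟩
  have hm2 : 2 ≤ m := by
    by_contra hlt
    obtain rfl : m = 1 := by omega
    exact hH (Subgroup.eq_top_of_le_card _ (hcard.2.1 rfl))
  rw [← hm, ← sq]
  exact Nat.pow_le_pow_right (by omega) hm2

end CfsgLib.PSL2Sub
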