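import Cfsg.Agent.Lib.PSL2Sub.MaxTypes

/-!
The classification of the maximal subgroups of `PSL₂(q)`.
-/

set_option autoImplicit false
set_option linter.unusedSectionVars false

namespace CfsgLib.PSL2Sub

open Matrix

variable {F : Type*} [Field F] [Fintype F]

theorem isSimpleGroup_PS (h4 : 4 ≤ Fintype.card F) : IsSimpleGroup (PS F) :=
  Linear.isSimpleGroup_PSL_fin 2 le_rfl fun _ => by rwa [Nat.card_eq_fintype_card]

/-- A maximal dihedral subgroup is the normaliser of a full torus. -/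
theorem torus_of_dihedral (p : ℕ) [Fact p.Prime] [CharP F p] (h4 : 4 ≤ Fintype.card F)
    {M : Subgroup (PS F)} (hM : IsCoatom M) {k : ℕ} (hk : 3 ≤ k) (hp : ¬ p ∣ k)
    (e : M ≃* DihedralGroup k) :
    Nat.gcd 2 (Fintype.card F - 1) * k = Fintype.card F - 1 ∨
      Nat.gcd 2 (Fintype.card F - 1) * k = Fintype.card F + 1 := by
  haveI := isSimpleGroup_PS h4
  haveI : NeZero k := ⟨by omega⟩
  set c : PS F := (e.symm (DihedralGroup.r 1) : PS F) with hc
  have hco : orderOf c = k := by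
    rw [hc, Subgroup.orderOf_coe, MulEquiv.orderOf_eq, DihedralGroup.orderOf_r_one]
  obtain ⟨L, hL, hreg, -⟩ := CfsgLib.SL2Trace.exists_regular_lift p c (by omega) (fun h => by
    rcases (Nat.dvd_prime Fact.out).mp h with h' | h'
    · omega
    · exact hp (by rw [← h', hco]))
  obtain ⟨hcyc, hyes, hno⟩ := CfsgLib.SL2Trace.centralizer_card_cyclic L hreg
  obtain ⟨g, hg⟩ := hcyc.exists_generator
  have hn : Nat.card (Subgroup.centralizer ({L} : Set (SpecialLinearGroup (Fin 2) F))) =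
      Fintype.card F - 1 ∨ Nat.card (Subgroup.centralizer
        ({L} : Set (SpecialLinearGroup (Fin 2) F))) = Fintype.card F + 1 := by
    by_cases h : ∃ u : F, u ^ 2 - (L : Matrix (Fin 2) (Fin 2) F).trace * u + 1 = 0
    · exact Or.inl (hyes h)
    · exact Or.inr (hno h)
  set n := Nat.card (Subgroup.centralizer ({L} : Set (SpecialLinearGroup (Fin 2) F))) with hn'
  have hgo : orderOf (g : SpecialLinearGroup (Fin 2) F) = n := by
    rw [Subgroup.orderOf_coe, hn']
    exact orderOf_eq_card_of_forall_mem_zpowers hg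
  set d := Nat.gcd 2 (Fintype.card F - 1) with hd
  have hpar : n % 2 = (Fintype.card F - 1) % 2 := by omega
  set t : PS F := CfsgLib.SL2Trace.toPSL (g : SpecialLinearGroup (Fin 2) F) with ht
  have hto : orderOf t = n / d := by
    rw [ht, CfsgLib.SL2Trace.orderOf_toPSL _ (by rw [hgo]; exact hpar), hgo]
  have hct : c ∈ Subgroup.zpowers t := by
    obtain ⟨i, hi⟩ := Subgroup.mem_zpowers_iff.mp
      (hg ⟨L, Subgroup.mem_centralizer_singleton_iff.mpr rfl⟩)
    refine Subgroup.mem_zpowers_iff.mpr ⟨i, ?_⟩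
    rw [← hL, ht]
    show (QuotientGroup.mk (g : SpecialLinearGroup (Fin 2) F) : PS F) ^ i = QuotientGroup.mk L
    rw [← QuotientGroup.mk_zpow, ← Subgroup.coe_zpow, hi]
  have hcm : Commute t c := by
    obtain ⟨i, hi⟩ := Subgroup.mem_zpowers_iff.mp hct
    rw [← hi]
    exact (Commute.refl t).zpow_right i
  have hN : Subgroup.normalizer (Subgroup.zpowers c : Set (PS F)) = M := by
    refine (hM.le_iff.mp fun m hm => Subgroup.mem_normalizer_iff_map_conj_eq.mpr ?_).resolve_left ?_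
    · rw [MonoidHom.map_zpowers]
      rcases (dihedral_facts k (e ⟨m, hm⟩)).2 with h | h <;>
      · have h' := congrArg (fun x => (e.symm x : PS F)) h
        simp only [map_mul, map_inv, e.symm_apply_apply, Subgroup.coe_mul, Subgroup.coe_inv,
          ← hc] at h'
        show Subgroup.zpowers (m * c * m⁻¹) = _
        rw [h']
        try exact Subgroup.zpowers_inv
    · intro h
      rcases (Subgroup.normalizer_eq_top_iff.mp h).eq_bot_or_eq_top with h' | h'
      · rw [Subgroup.zpowers_eq_bot.mp h', orderOf_one] at hco; omega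
      · exact hM.1 (eq_top_iff.mpr (h' ▸ Subgroup.zpowers_le.mpr (e.symm (DihedralGroup.r 1)).2))
  have htM : t ∈ M := by
    rw [← hN, Subgroup.mem_normalizer_iff_map_conj_eq, MonoidHom.map_zpowers]
    show Subgroup.zpowers (t * c * t⁻¹) = _
    rw [hcm.eq, mul_inv_cancel_right]
  have h1 := (dihedral_facts k (e ⟨t, htM⟩)).1
  rw [MulEquiv.orderOf_eq, Subgroup.orderOf_mk, hto] at h1
  have h2 : k ∣ n / d := hto ▸ hco ▸ (orderOf_dvd_of_mem_zpowers hct)
  have hdn : d ∣ n := by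
    rcases gcd_two_sub (Fintype.card F) with ⟨h, hd'⟩ | ⟨h, h0 | hd'⟩
    · rw [hd, hd']; omega
    · omega
    · rw [hd, hd']; exact one_dvd n
  have hkn : k = n / d := by
    rcases h1 with h1 | h1
    · exact Nat.dvd_antisymm h2 h1
    · have := Nat.le_of_dvd (Nat.pos_of_ne_zero fun h0 => by
        rw [← hto] at h0
        exact (orderOf_pos t).ne' h0) h2
      omega
  rcases hn with h | h <;> [left; right] <;> rw [hkn, Nat.mul_div_cancel' hdn, h]

/-- The prime field inside a finite field. -/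
theorem two_mul_le_pow {p n : ℕ} (hp : 2 ≤ p) (hn : 2 ≤ n) : 2 * p ≤ p ^ n :=
  le_trans (Nat.mul_le_mul_right p hp) (by rw [← pow_two]; exact Nat.pow_le_pow_right (by omega) hn)

theorem sq_mod_sixteen {q : ℕ} (h : q % 8 = 1 ∨ q % 8 = 7) : q ^ 2 % 16 = 1 := by
  have h1 : q ^ 2 % 16 = (q % 16) ^ 2 % 16 := Nat.pow_mod _ 2 16
  rw [h1]
  rcases (show q % 16 = 1 ∨ q % 16 = 7 ∨ q % 16 = 9 ∨ q % 16 = 15 by omega) with h | h | h | h <;>
    rw [h] <;> norm_num

theorem five_dvd_iff {q : ℕ} (hq : ¬ 5 ∣ q) :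
    5 ∣ q * (q ^ 2 - 1) ↔ q % 5 = 1 ∨ q % 5 = 4 := by
  rw [Nat.Prime.dvd_mul (by norm_num : Nat.Prime 5), or_iff_right hq]
  have h1 : q ^ 2 % 5 = (q % 5) ^ 2 % 5 := Nat.pow_mod _ 2 5
  have : q % 5 < 5 := Nat.mod_lt _ (by norm_num)
  have h2 : 1 ≤ q ^ 2 := Nat.one_le_pow _ _ (by omega)
  interval_cases h : q % 5 <;> norm_num at h1 ⊢ <;> omega

theorem icosahedral_root_mem {K : Type*} [Field K] (ι : K →+* F) {τ₀ : K} (h₀ : τ₀ ^ 2 + τ₀ = 1)
    {τ : F} (h : τ ^ 2 + τ = 1) : ∃ x, ι x = τ := by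
  have e := congrArg ι h₀
  rw [map_add, map_pow, map_one] at e
  have : (τ - ι τ₀) * (τ + ι τ₀ + 1) = 0 := by linear_combination h - e
  rcases mul_eq_zero.mp this with h' | h'
  · exact ⟨τ₀, (sub_eq_zero.mp h').symm⟩
  · exact ⟨-1 - τ₀, by rw [map_sub, map_neg, map_one]; linear_combination -h'⟩

section Exceptional

variable (p : ℕ) [hp : Fact p.Prime] [CharP F p]

theorem card_primeField : Fintype.card (ZMod p) = p := ZMod.card p

theorem alt_four_case {M : Subgroup (PS F)} (hM : IsCoatom M) (hp12 : ¬ p ∣ Nat.card M)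
    (e : M ≃* alternatingGroup (Fin 4)) :
    p ≠ 2 ∧ Fintype.card F = p ∧ (p % 8 = 3 ∨ p % 8 = 5) ∧ ¬ (p % 10 = 1 ∨ p % 10 = 9) := by
  classical
  have h12 : Nat.card M = 12 := (Nat.card_congr e.toEquiv).trans card_alt_four
  rw [h12] at hp12
  have hp5 : 5 ≤ p := by
    rcases (show p = 2 ∨ p = 3 ∨ p = 4 ∨ 5 ≤ p by have := hp.out.two_le; omega) with h | h | h | h
    · exact absurd (by rw [h]; norm_num) hp12
    · exact absurd (by rw [h]; norm_num) hp12
    · exact absurd (h ▸ hp.out) (by norm_num)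
    · exact h
  obtain ⟨n, -, hn⟩ := FiniteField.card F p
  have h23 : ∀ a : ℕ, 0 < a → a < p → (a : ZMod p) ≠ 0 := fun a ha hlt h => by
    rw [ZMod.natCast_eq_zero_iff] at h
    exact absurd (Nat.le_of_dvd ha h) (by omega)
  have hnp : Fintype.card F = p := by
    by_contra hne
    have hn2 : 2 ≤ (n : ℕ) := by
      by_contra h
      exact hne (by rw [hn, show (n : ℕ) = 1 by have := n.pos; omega, pow_one])
    obtain ⟨S, hS⟩ := alt_four_model (ZMod.castHom (dvd_refl p) F)
      (by exact_mod_cast h23 2 two_pos (by omega)) (by exact_mod_cast h23 3 (by norm_num) (by omega))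
    refine not_coatom_of_conjFrom _ (hS M ⟨e⟩) ?_ (pg_bound ?_) hM
    · rw [h12]
      refine lt_of_lt_of_le ?_ (pg_lower (K := ZMod p) (k := 5) (by rw [ZMod.card]; exact hp5))
      norm_num
    · rw [ZMod.card, hn]; exact two_mul_le_pow (by omega) hn2
  have h2F : (2 : F) ≠ 0 := Ring.two_ne_zero (by rw [ringChar.eq F p]; omega)
  have h3F : (3 : F) ≠ 0 := fun h => by
    have := (CharP.cast_eq_zero_iff F p 3).mp (by exact_mod_cast h)
    exact absurd (Nat.le_of_dvd (by norm_num) this) (by omega)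
  obtain ⟨S, hS⟩ := alt_four_model (RingHom.id F) h2F h3F
  have hG : 60 ≤ Nat.card (PS F) := by
    have h1 := gcd_mul_card_PS (F := F)
    rw [hnp] at h1
    have h2 : 5 * (5 ^ 2 - 1) ≤ p * (p ^ 2 - 1) :=
      Nat.mul_le_mul hp5 (Nat.sub_le_sub_right (Nat.pow_le_pow_left hp5 2) 1)
    have h3 := Nat.mul_le_mul_right (Nat.card (PS F)) (gcd_le_two (p - 1))
    omega
  have hnot : ∀ {G : Type} [Group G] (H : Subgroup (PS F)) (eH : H ≃* G)
      (f : alternatingGroup (Fin 4) →* G), Function.Injective f → 12 < Nat.card H →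
      Nat.card H < Nat.card (PS F) → False := by
    intro G _ H eH f hf hlt hH
    let φ : alternatingGroup (Fin 4) →* PS F := (H.subtype.comp eH.symm.toMonoidHom).comp f
    have hφ : Function.Injective φ := (H.subtype_injective.comp eH.symm.injective).comp hf
    refine not_coatom_of_same_model _ (hS M ⟨e⟩) (hS φ.range ⟨(MonoidHom.ofInjective hφ).symm⟩)
      (H := H) ?_ (by omega) (fun h => ?_) hM
    · rintro _ ⟨x, rfl⟩
      exact (eH.symm (f x)).2
    · rw [h, Subgroup.card_top] at hH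
      omega
  refine ⟨by omega, hnp, ?_, fun h10 => ?_⟩
  · by_contra h8
    have hodd := hp.out.odd_of_ne_two (by omega)
    rw [Nat.odd_iff] at hodd
    obtain ⟨H, ⟨eH⟩⟩ := (sym_four_iff (F := F)).mpr
      (by rw [hnp]; exact sq_mod_sixteen (by omega))
    have hc : Nat.card H = 24 := (Nat.card_congr eH.toEquiv).trans card_sym_four
    exact hnot H eH (alternatingGroup (Fin 4)).subtype (Subgroup.subtype_injective _) (by omega) (by omega)
  · obtain ⟨H, ⟨eH⟩⟩ := (alt_five_iff (F := F)).mpr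
      (by rw [hnp]; exact (five_dvd_iff (by omega)).mpr (by omega))
    obtain ⟨f, hf⟩ := alt_four_into_alt_five
    have hc : Nat.card H = 60 := (Nat.card_congr eH.toEquiv).trans card_alt_five
    have hG' : 60 < Nat.card (PS F) := by
      have h1 := gcd_mul_card_PS (F := F)
      rw [hnp] at h1
      have h11 : 11 ≤ p := by
        rcases (show p = 9 ∨ 11 ≤ p by omega) with h | h
        · exact absurd (h ▸ hp.out) (by norm_num)
        · exact h
      have h2 : 11 * (11 ^ 2 - 1) ≤ p * (p ^ 2 - 1) :=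
        Nat.mul_le_mul (by omega) (Nat.sub_le_sub_right (Nat.pow_le_pow_left (by omega) 2) 1)
      have h3 := Nat.mul_le_mul_right (Nat.card (PS F)) (gcd_le_two (p - 1))
      omega
    exact hnot H eH f hf (by omega) (by omega)

theorem sym_four_case {M : Subgroup (PS F)} (hM : IsCoatom M) (hp24 : ¬ p ∣ Nat.card M)
    (e : M ≃* Equiv.Perm (Fin 4)) :
    Fintype.card F = p ∧ (p % 8 = 1 ∨ p % 8 = 7) := by
  classical
  have h24 : Nat.card M = 24 := (Nat.card_congr e.toEquiv).trans card_sym_four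
  rw [h24] at hp24
  have hp5 : 5 ≤ p := by
    rcases (show p = 2 ∨ p = 3 ∨ p = 4 ∨ 5 ≤ p by have := hp.out.two_le; omega) with h | h | h | h
    · exact absurd (by rw [h]; norm_num) hp24
    · exact absurd (by rw [h]; norm_num) hp24
    · exact absurd (h ▸ hp.out) (by norm_num)
    · exact h
  obtain ⟨n, -, hn⟩ := FiniteField.card F p
  have hnp : Fintype.card F = p := by
    by_contra hne
    have hn2 : 2 ≤ (n : ℕ) := by
      by_contra h
      exact hne (by rw [hn, show (n : ℕ) = 1 by have := n.pos; omega, pow_one])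
    have h2 : (2 : ZMod p) ≠ 0 := fun h => by
      have h' : ((2 : ℕ) : ZMod p) = 0 := by exact_mod_cast h
      rw [ZMod.natCast_eq_zero_iff] at h'
      exact absurd (Nat.le_of_dvd two_pos h') (by omega)
    obtain ⟨S, hS⟩ := sym_four_model (ZMod.castHom (dvd_refl p) F) h2
    refine not_coatom_of_conjFrom _ (hS M ⟨e⟩) ?_ (pg_bound ?_) hM
    · rw [h24]
      refine lt_of_lt_of_le ?_ (pg_lower (K := ZMod p) (k := 5) (by rw [ZMod.card]; exact hp5))
      norm_num
    · rw [ZMod.card, hn]; exact two_mul_le_pow (by omega) hn2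
  refine ⟨hnp, ?_⟩
  have h := (sym_four_iff (F := F)).mp ⟨M, ⟨e⟩⟩
  rw [hnp, Nat.pow_mod] at h
  have hodd := hp.out.odd_of_ne_two (by omega)
  rw [Nat.odd_iff] at hodd
  have : p % 16 < 16 := Nat.mod_lt _ (by norm_num)
  have : p % 8 = p % 16 % 8 := (Nat.mod_mod_of_dvd _ (by norm_num)).symm
  interval_cases h16 : p % 16 <;> simp at h <;> omega

theorem alt_five_case {M : Subgroup (PS F)} (hM : IsCoatom M)
    (hp60 : ¬ p ∣ Nat.card M ∨ p = 3) (e : M ≃* alternatingGroup (Fin 5)) :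
    p ≠ 2 ∧ (Fintype.card F % 10 = 1 ∨ Fintype.card F % 10 = 9) ∧
      (Fintype.card F = p ∨ (Fintype.card F = p ^ 2 ∧ (p % 10 = 3 ∨ p % 10 = 7))) := by
  classical
  have h60 : Nat.card M = 60 := (Nat.card_congr e.toEquiv).trans card_alt_five
  rw [h60] at hp60
  have hp5 : p ≠ 2 ∧ p ≠ 5 := by
    constructor <;> intro h <;> rcases hp60 with h' | h' <;> first | omega | exact h' (by rw [h]; norm_num)
  have hodd := hp.out.odd_of_ne_two hp5.1
  rw [Nat.odd_iff] at hodd
  have hp55 : ¬ 5 ∣ p := fun h => hp5.2 ((Nat.prime_dvd_prime_iff_eq (by norm_num) hp.out).mp h).symm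
  obtain ⟨n, -, hn⟩ := FiniteField.card F p
  have hq5 : ¬ 5 ∣ Fintype.card F := fun h => hp55 ((by norm_num : Nat.Prime 5).dvd_of_dvd_pow (hn ▸ h))
  have hqodd : Fintype.card F % 2 = 1 := by rw [hn, Nat.pow_mod, hodd]; simp
  have hq := (five_dvd_iff hq5).mp ((alt_five_iff (F := F)).mp ⟨M, ⟨e⟩⟩)
  refine ⟨hp5.1, by omega, ?_⟩
  have h5F : (5 : F) ≠ 0 := fun h => by
    have := (CharP.cast_eq_zero_iff F p 5).mp (by exact_mod_cast h)
    exact hp5.2 ((Nat.prime_dvd_prime_iff_eq hp.out (by norm_num)).mp this)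
  -- small model fields give non-maximality
  have key : ∀ (K : Type) [Field K] [Fintype K] (ι : K →+* F),
      5 ∣ Fintype.card K * (Fintype.card K ^ 2 - 1) → 7 ≤ Fintype.card K →
      2 * Fintype.card K ≤ Fintype.card F → False := by
    intro K _ _ ι h5K h7 hle
    obtain ⟨τ₀, hτ₀⟩ := exists_trace_five h5K
    obtain ⟨τ, hτ, hmod⟩ := alt_five_model ι h5F M e
    obtain ⟨x, hx⟩ := icosahedral_root_mem ι hτ₀ hτ
    obtain ⟨S, hS⟩ := hmod x hx
    refine not_coatom_of_conjFrom ι hS ?_ (pg_bound hle) hM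
    rw [h60]
    exact lt_of_lt_of_le (by norm_num) (pg_lower (k := 7) h7)
  by_cases hn1 : (n : ℕ) = 1
  · exact Or.inl (by rw [hn, hn1, pow_one])
  right
  have hn2 : 2 ≤ (n : ℕ) := by have := n.pos; omega
  by_cases hp10 : p % 5 = 1 ∨ p % 5 = 4
  · refine (key (ZMod p) (ZMod.castHom (dvd_refl p) F)
      (by rw [ZMod.card]; exact (five_dvd_iff hp55).mpr hp10) ?_
      (by rw [ZMod.card, hn]; exact two_mul_le_pow hp.out.two_le hn2)).elim
    have := hp.out.two_le
    rw [ZMod.card]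
    omega
  have hp25 : p ^ 2 % 5 = 4 := by
    rw [Nat.pow_mod]
    rcases (show p % 5 = 2 ∨ p % 5 = 3 by omega) with h | h <;> rw [h] <;> norm_num
  obtain ⟨b, hb⟩ : Even (n : ℕ) := by
    by_contra hno
    obtain ⟨j, hj⟩ := Nat.not_even_iff_odd.mp hno
    rw [hn, hj, pow_succ, pow_mul, Nat.mul_mod, Nat.pow_mod, hp25] at hq
    have h4 : ∀ i : ℕ, 4 ^ i % 5 = 1 ∨ 4 ^ i % 5 = 4 := by
      intro i
      induction i with
      | zero => norm_num
      | succ i ih =>
        rw [pow_succ, Nat.mul_mod]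
        rcases ih with h | h <;> rw [h] <;> norm_num
    rcases h4 j with h4 | h4 <;> rw [h4] at hq <;>
      rcases (show p % 5 = 2 ∨ p % 5 = 3 by omega) with h | h <;> rw [h] at hq <;> norm_num at hq
  refine ⟨?_, by omega⟩
  rcases (show b = 1 ∨ 2 ≤ b by omega) with hb1 | hb2
  · rw [hn, hb, hb1]
  exfalso
  let φ := ZMod.castHom (dvd_refl p) F
  have hE : Nat.card φ.fieldRange = p := by
    rw [← Nat.card_congr (RingEquiv.ofBijective φ.rangeRestrictField
      ⟨fun x y h => φ.injective (congrArg Subtype.val h), fun ⟨_, x, h⟩ => ⟨x, Subtype.ext h⟩⟩).toEquiv,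
      Nat.card_zmod]
  obtain ⟨K, _, _, ι, hK, -⟩ := exists_intermediate p φ.fieldRange (a := 2) (b := b) two_pos
    (by omega) (by rw [hE, hn, hb, two_mul])
  rw [hE] at hK
  have hp3 : 3 ≤ p := by have := hp.out.two_le; omega
  refine key K ι ?_ (by rw [hK]; exact le_trans (by norm_num) (Nat.pow_le_pow_left hp3 2)) ?_
  · rw [hK]
    exact (five_dvd_iff (fun h => hp55 ((by norm_num : Nat.Prime 5).dvd_of_dvd_pow h))).mpr
      (by omega)
  · rw [hK, hn, hb]
    refine le_trans (Nat.mul_le_mul_right (p ^ 2) (show 2 ≤ p ^ 2 by nlinarith)) ?_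
    rw [← pow_add]
    exact Nat.pow_le_pow_right (by omega) (by omega)

end Exceptional

/-- The field case. -/
theorem field_case (p : ℕ) [Fact p.Prime] [CharP F p] (h4 : 4 ≤ Fintype.card F)
    {M : Subgroup (PS F)} (hM : IsCoatom M) (E : Subfield F) (g : PG F)
    (hE : (M.map toPG).map (MulAut.conj g⁻¹).toMonoidHom =
        (ProjGenLinGroup.map (n := Fin 2) E.subtype).range ∨
      (p ≠ 2 ∧ (M.map toPG).map (MulAut.conj g⁻¹).toMonoidHom =
        ((ProjGenLinGroup.map (n := Fin 2) E.subtype).comp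
          (SpecialLinearGroup.toPGL : SpecialLinearGroup (Fin 2) E →* PG E)).range)) :
    (p = 2 ∧ Nonempty (M ≃* DihedralGroup 3)) ∨
    (p ≠ 2 ∧ ∃ (F₀ : Type) (_ : Field F₀) (_ : Fintype F₀),
      Fintype.card F = Fintype.card F₀ ^ 2 ∧ Nonempty (M ≃* PG F₀)) ∨
    (∃ (F₀ : Type) (_ : Field F₀) (_ : Fintype F₀) (r : ℕ), r.Prime ∧ (p = 2 → Fintype.card F₀ ≠ 2) ∧
      (p ≠ 2 → Odd r) ∧ Fintype.card F = Fintype.card F₀ ^ r ∧ Nonempty (M ≃* PS F₀)) := by
  classical
  letI := Fintype.ofFinite E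
  haveI : CharP E p := (RingHom.charP_iff E.subtype Subtype.coe_injective p).mpr inferInstance
  set φ := ProjGenLinGroup.map (n := Fin 2) E.subtype with hφ
  have hback : ∀ R : Subgroup (PG F), (M.map toPG).map (MulAut.conj g⁻¹).toMonoidHom = R →
      M.map toPG = R.map (MulAut.conj g).toMonoidHom := by
    rintro R rfl
    rw [Subgroup.map_map, show (MulAut.conj g).toMonoidHom.comp (MulAut.conj g⁻¹).toMonoidHom =
      MonoidHom.id (PG F) from MonoidHom.ext fun x => by simp [MulAut.conj_apply, mul_assoc],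
      Subgroup.map_id]
  obtain ⟨S, hconj, hS⟩ : ∃ S : Subgroup (PG E), ConjFrom E.subtype S M ∧
      (S = ⊤ ∨ (p ≠ 2 ∧ S = (toPG : PS E →* PG E).range)) := by
    rcases hE with h | ⟨h2, h⟩
    · exact ⟨⊤, ⟨g, by rw [← MonoidHom.range_eq_map]; exact hback _ h⟩, Or.inl rfl⟩
    · refine ⟨_, ⟨g, ?_⟩, Or.inr ⟨h2, rfl⟩⟩
      rw [hback _ h]
      congr 1
      ext x
      constructor
      · rintro ⟨s, rfl⟩
        exact ⟨toPG (QuotientGroup.mk s : PS E), ⟨_, rfl⟩, rfl⟩
      · rintro ⟨_, ⟨y, rfl⟩, rfl⟩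
        obtain ⟨s, rfl⟩ := QuotientGroup.mk_surjective y
        exact ⟨s, rfl⟩
  -- the isomorphism with `S`
  obtain ⟨g', hg'⟩ := id hconj
  have eMS : Nonempty (M ≃* S) := ⟨((M.equivMapOfInjective _ toPG_injective).trans
    (MulEquiv.subgroupCongr hg')).trans
    (((S.equivMapOfInjective φ (map_injective_pgl E.subtype)).trans
      ((S.map φ).equivMapOfInjective _ (MulAut.conj g').injective))).symm⟩
  haveI : Finite (PG E) := Finite.of_surjective _ ProjGenLinGroup.mk_surjective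
  have hMle : Nat.card M ≤ Nat.card (PG E) := by
    rw [Nat.card_congr eMS.some.toEquiv]
    exact Subgroup.card_le_card_group S
  have hbounds := field_bounds p hM.1 (E := E) (by
    rcases hS with rfl | ⟨h2, rfl⟩
    · exact Or.inl ⟨eMS.some.trans Subgroup.topEquiv⟩
    · exact Or.inr ⟨h2, ⟨eMS.some.trans (MonoidHom.ofInjective toPG_injective).symm⟩⟩)
  obtain ⟨hE2, hE3, hEE, -, -⟩ := hbounds
  obtain ⟨m, hm0, hm⟩ := card_subfield_pow E
  set e₀ := Nat.card E with he₀
  have hcE : Fintype.card E = e₀ := (Nat.card_eq_fintype_card).symm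
  have hm2 : 2 ≤ m := by
    by_contra hlt
    obtain rfl : m = 1 := by omega
    rw [pow_one] at hm
    rw [← hm] at hEE
    have := Nat.mul_le_mul_right e₀ hE2
    omega
  -- no intermediate field
  have hint : ∀ a b : ℕ, m = a * b → 2 ≤ a → 2 ≤ b → False := by
    intro a b hab ha hb
    obtain ⟨K, _, _, ι, hK, j, hj⟩ := exists_intermediate p E (a := a) (b := b) (by omega)
      (by omega) (by rw [← hab, hm])
    rw [← he₀] at hK
    refine not_coatom_of_conjFrom ι (conjFrom_comp (j := j) (by rw [hj]; exact hconj)) ?_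
      (pg_bound ?_) hM
    · refine lt_of_le_of_lt (Nat.mul_le_mul_left 2 hMle) ?_
      rw [card_PG, card_PG, hK, hcE]
      have h1 : e₀ ^ 2 ≤ e₀ ^ a := Nat.pow_le_pow_right (by omega) ha
      have h2 : e₀ * (e₀ ^ 2 - 1) * 2 < e₀ ^ 2 * ((e₀ ^ 2) ^ 2 - 1) := by
        have h3 : 4 ≤ e₀ ^ 2 := by nlinarith
        obtain ⟨u, hu⟩ : ∃ u, e₀ ^ 2 = u + 1 := ⟨e₀ ^ 2 - 1, by omega⟩
        rw [hu, Nat.add_sub_cancel, show (u + 1) ^ 2 - 1 = u * (u + 2) by
          rw [show (u + 1) ^ 2 = u * (u + 2) + 1 by ring, Nat.add_sub_cancel]]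
        have : e₀ ≤ u + 1 := hu ▸ Nat.le_self_pow two_ne_zero e₀
        calc e₀ * u * 2 ≤ (u + 1) * u * 2 := by gcongr
          _ < (u + 1) * u * (u + 2) :=
            Nat.mul_lt_mul_of_pos_left (by omega) (Nat.mul_pos (by omega) (by omega))
          _ = _ := by ring
      calc 2 * (e₀ * (e₀ ^ 2 - 1)) = e₀ * (e₀ ^ 2 - 1) * 2 := by ring
        _ < _ := h2
        _ ≤ _ := Nat.mul_le_mul h1 (Nat.sub_le_sub_right (Nat.pow_le_pow_left h1 2) 1)
    · rw [hK, ← hm, hab, pow_mul]
      exact two_mul_le_pow (le_trans hE2 (Nat.le_self_pow (by omega) _)) hb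
  have hprime : m.Prime := by
    by_contra hnp
    obtain ⟨a, ⟨b, hab⟩, ha2, halt⟩ := Nat.exists_dvd_of_not_prime2 hm2 hnp
    refine hint a b hab ha2 ?_
    by_contra hb
    interval_cases b <;> omega
  -- a copy of `E` in universe zero
  obtain ⟨K, _, _, ι, hK, j, -⟩ := exists_intermediate p E (a := 1) (b := m) one_pos (by omega)
    (by rw [one_mul, hm])
  rw [pow_one, ← he₀] at hK
  let ej : E ≃+* K := RingEquiv.ofBijective j ((Fintype.bijective_iff_injective_and_card j).mpr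
    ⟨j.injective, by rw [hK, hcE]⟩)
  obtain ⟨ePG⟩ := nonempty_pgEquiv ej
  obtain ⟨ePS⟩ := nonempty_pslEquiv ej
  have hFK : Fintype.card F = Fintype.card K ^ m := by rw [hK, hm]
  rcases hS with rfl | ⟨h2, rfl⟩
  · have eM : M ≃* PG E := eMS.some.trans Subgroup.topEquiv
    by_cases hp2 : p = 2
    · by_cases hE' : e₀ = 2
      · left
        refine ⟨hp2, ?_⟩
        haveI := isSimpleGroup_PS h4
        have hMc : Nat.card M = 6 := by
          rw [Nat.card_congr eM.toEquiv, card_PG, hcE, hE']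
          norm_num
        haveI : Fact (Nat.Prime 3) := ⟨Nat.prime_three⟩
        obtain ⟨x, hx⟩ := exists_prime_orderOf_dvd_card' (G := M) 3 (by rw [hMc]; norm_num)
        have hidx : (Subgroup.zpowers x).index = 2 := by
          have := (Subgroup.zpowers x).card_mul_index
          rw [Nat.card_zpowers, hx, hMc] at this
          omega
        have := dihedral_of_index_two (Subgroup.zpowers x) hidx inferInstance fun y hy => by
          have hy2 : y * y ∈ Subgroup.zpowers x := by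
            rw [← pow_two]; exact Subgroup.sq_mem_of_index_two hidx y
          by_contra hne
          have hd : orderOf y ∣ 6 := hMc ▸ orderOf_dvd_natCard y
          have h1 : orderOf y ≠ 1 := fun h => hy (by rw [orderOf_eq_one_iff.mp h]; exact one_mem _)
          have h2' : orderOf y ≠ 2 := fun h => hne (by
            rw [← pow_two]
            exact orderOf_dvd_iff_pow_eq_one.mp (by rw [h]))
          have h3 : orderOf y ≠ 3 := fun h => hy (by
            have : y = (y * y) * (y * y) := by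
              rw [← pow_two, ← pow_two, ← pow_mul, show 2 * 2 = orderOf y + 1 by omega, pow_succ,
                pow_orderOf_eq_one, one_mul]
            rw [this]
            exact mul_mem hy2 hy2)
          have h6 : orderOf y = 6 := by
            have := Nat.le_of_dvd (by norm_num) hd
            interval_cases ho : orderOf y <;> first | omega | norm_num at hd
          haveI : IsCyclic M := isCyclic_of_orderOf_eq_card y (h6.trans hMc.symm)
          refine no_abelian_coatom (card_PS_ne_prime h4) M hM fun a ha b hb => ?_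
          letI : CommGroup M := IsCyclic.commGroup
          exact congrArg Subtype.val (mul_comm (⟨a, ha⟩ : M) ⟨b, hb⟩)
        rwa [Nat.card_zpowers, hx] at this
      · refine Or.inr (Or.inr ⟨K, inferInstance, inferInstance, m, hprime,
          fun _ => by rwa [hK], fun h => absurd hp2 h, hFK, ⟨eM.trans (ePG.trans ?_)⟩⟩)
        haveI : Finite (PG K) := Finite.of_surjective _ ProjGenLinGroup.mk_surjective
        refine (MulEquiv.ofBijective toPG ((Nat.bijective_iff_injective_and_card _).mpr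
          ⟨toPG_injective, ?_⟩)).symm
        haveI : CharP K p := charP_of_injective_ringHom ej.injective p
        have h := gcd_mul_card_PS (F := K)
        rw [((card_parity (F := K) p).2.1 hp2).2, one_mul] at h
        rw [h, card_PG]
    · right; left
      have hqodd : Fintype.card F % 2 = 1 := ((card_parity (F := F) p).1 hp2).1
      have hev := even_of_pgl_subfield (K := E) m (by rw [hcE, hm]) hqodd M eM
      have hm2' : m = 2 := (hprime.even_iff).mp hev
      exact ⟨hp2, K, inferInstance, inferInstance, by rw [hFK, hm2'], ⟨eM.trans ePG⟩⟩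
  · right; right
    have eM : M ≃* PS E := eMS.some.trans (MonoidHom.ofInjective toPG_injective).symm
    refine ⟨K, inferInstance, inferInstance, m, hprime, fun h => absurd h h2, fun _ => ?_, hFK,
      ⟨eM.trans ePS⟩⟩
    refine hprime.odd_of_ne_two fun hm2' => ?_
    -- then `PGL₂(E)` lies in `PSL₂(F)`
    obtain ⟨H, hle, -, hle', heq⟩ := exists_overgroup E.subtype hconj
    have hH := heq (pgl_subfield_le_range E.subtype m (by rw [hcE, hm])
      ((card_parity (F := F) p).1 h2).1 (by rw [hm2']; exact even_two))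
    have hEcard := gcd_mul_card_PS (F := E)
    rw [((card_parity (F := E) p).1 h2).2, ← card_PG] at hEcard
    have hpos : 0 < Nat.card (PS E) := Nat.card_pos
    rcases hM.le_iff.mp hle with h | h
    · rw [h, Subgroup.card_top] at hH
      have hb := pg_bound (K := E) (F := F) (by
        rw [hcE, ← hm, hm2', pow_two]; exact Nat.mul_le_mul_right _ hE2)
      rw [card_PG F, ← gcd_mul_card_PS] at hb
      have := Nat.mul_le_mul_right (Nat.card (PS F)) (gcd_le_two (Fintype.card F - 1))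
      omega
    · rw [h, Nat.card_congr eM.toEquiv] at hH
      omega

/-- The maximal subgroups of `PSL₂(q)`. -/
theorem classify_max (p : ℕ) [Fact p.Prime] [CharP F p] (h4 : 4 ≤ Fintype.card F)
    (M : Subgroup (PS F)) (hM : IsCoatom M) :
    Nat.gcd 2 (Fintype.card F - 1) * Nat.card M = Fintype.card F * (Fintype.card F - 1) ∨
    (∃ k, 3 ≤ k ∧ (Nat.gcd 2 (Fintype.card F - 1) * k = Fintype.card F - 1 ∨
      Nat.gcd 2 (Fintype.card F - 1) * k = Fintype.card F + 1) ∧ Nonempty (M ≃* DihedralGroup k)) ∨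
    ((p ≠ 2 ∧ Fintype.card F = p ∧ (p % 8 = 3 ∨ p % 8 = 5) ∧ ¬ (p % 10 = 1 ∨ p % 10 = 9)) ∧
      Nonempty (M ≃* alternatingGroup (Fin 4))) ∨
    ((p ≠ 2 ∧ Fintype.card F = p ∧ (p % 8 = 1 ∨ p % 8 = 7)) ∧
      Nonempty (M ≃* Equiv.Perm (Fin 4))) ∨
    ((p ≠ 2 ∧ (Fintype.card F % 10 = 1 ∨ Fintype.card F % 10 = 9) ∧
        (Fintype.card F = p ∨ (Fintype.card F = p ^ 2 ∧ (p % 10 = 3 ∨ p % 10 = 7)))) ∧
      Nonempty (M ≃* alternatingGroup (Fin 5))) ∨
    (p ≠ 2 ∧ ∃ (F₀ : Type) (_ : Field F₀) (_ : Fintype F₀),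
      Fintype.card F = Fintype.card F₀ ^ 2 ∧ Nonempty (M ≃* PG F₀)) ∨
    (∃ (F₀ : Type) (_ : Field F₀) (_ : Fintype F₀) (r : ℕ), r.Prime ∧ (p = 2 → Fintype.card F₀ ≠ 2) ∧
      (p ≠ 2 → Odd r) ∧ Fintype.card F = Fintype.card F₀ ^ r ∧ Nonempty (M ≃* PS F₀)) := by
  classical
  haveI := isSimpleGroup_PS h4
  let e : M ≃* M.map toPG := M.equivMapOfInjective _ toPG_injective
  have hcard : Nat.card (M.map toPG) = Nat.card M := (Nat.card_congr e.toEquiv).symm
  have hab : ¬ ∀ a ∈ M, ∀ b ∈ M, a * b = b * a := no_abelian_coatom (card_PS_ne_prime h4) M hM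
  rcases classify_finite p (M.map toPG) with h | h | h | h | h | h | h
  · exfalso
    haveI := h.1
    haveI : IsCyclic M := isCyclic_of_surjective e.symm.toMonoidHom e.symm.surjective
    refine hab fun a ha b hb => ?_
    letI : CommGroup M := IsCyclic.commGroup
    exact congrArg Subtype.val (mul_comm (⟨a, ha⟩ : M) ⟨b, hb⟩)
  · obtain ⟨A, -, -, hpA, h2, ⟨d⟩⟩ := h
    rcases (show Nat.card A = 2 ∨ 3 ≤ Nat.card A by omega) with hA | hA
    · exfalso
      refine hab fun a ha b hb => ?_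
      have hcomm : ∀ x y : DihedralGroup 2, x * y = y * x := by decide
      obtain ⟨d'⟩ : Nonempty (M ≃* DihedralGroup 2) := by
        have d₀ := e.trans d
        rw [hA] at d₀
        exact ⟨d₀⟩
      exact congrArg Subtype.val (d'.injective (a₁ := ⟨a, ha⟩ * ⟨b, hb⟩) (a₂ := ⟨b, hb⟩ * ⟨a, ha⟩)
        (by rw [map_mul, map_mul, hcomm]))
    · exact Or.inr (Or.inl ⟨_, hA, torus_of_dihedral p h4 hM hA hpA (e.trans d), ⟨e.trans d⟩⟩)
  · obtain ⟨-, y, hy⟩ := h
    left
    have hle : M ≤ pointStab y := fun x hx => hy ⟨toPG x, ⟨x, hx, rfl⟩⟩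
    rcases hM.le_iff.mp hle with h' | h'
    · exfalso
      have hidx := index_pointStab y
      rw [h', Subgroup.index_top] at hidx
      omega
    · rw [← h', gcd_mul_card_pointStab y]
  · obtain ⟨h12, ⟨d⟩⟩ := h
    exact Or.inr (Or.inr (Or.inl ⟨alt_four_case p hM (hcard ▸ h12) (e.trans d), ⟨e.trans d⟩⟩))
  · obtain ⟨h24, ⟨d⟩⟩ := h
    refine Or.inr (Or.inr (Or.inr (Or.inl ⟨⟨fun h2 => h24 ?_, sym_four_case p hM (hcard ▸ h24) (e.trans d)⟩,
      ⟨e.trans d⟩⟩)))
    rw [hcard, Nat.card_congr (e.trans d).toEquiv, card_sym_four, h2]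
    norm_num
  · obtain ⟨h60, ⟨d⟩⟩ := h
    exact Or.inr (Or.inr (Or.inr (Or.inr (Or.inl ⟨alt_five_case p hM
      (h60.imp (fun h' => hcard ▸ h') id) (e.trans d), ⟨e.trans d⟩⟩))))
  · obtain ⟨g, E, -, -, hE⟩ := h
    rcases field_case p h4 hM E g hE with ⟨h2, ⟨d⟩⟩ | h | h
    · refine Or.inr (Or.inl ⟨3, le_rfl, torus_of_dihedral p h4 hM le_rfl ?_ d, ⟨d⟩⟩)
      rw [h2]; norm_num
    · exact Or.inr (Or.inr (Or.inr (Or.inr (Or.inr (Or.inl h)))))
    · exact Or.inr (Or.inr (Or.inr (Or.inr (Or.inr (Or.inr h)))))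

theorem sym_four_has_pair :
    ∃ a b : Equiv.Perm (Fin 4), a ^ 3 = 1 ∧ a ≠ 1 ∧ b * b = 1 ∧ b * a * b⁻¹ = a⁻¹ := by
  decide +kernel

theorem alt_five_has_pair :
    ∃ a b : alternatingGroup (Fin 5), a ^ 5 = 1 ∧ a ≠ 1 ∧ b * b = 1 ∧ b * a * b⁻¹ = a⁻¹ := by
  decide +kernel

theorem small_pair_case {r : ℕ} [hr : Fact r.Prime] (hr3 : 3 ≤ r) {G : Type} [Group G]
    (h4 : 4 ≤ Fintype.card F) (hr2 : ¬ r ^ 2 ∣ Nat.card (PS F)) {M H : Subgroup (PS F)}
    (hM : IsCoatom M) (e : M ≃* DihedralGroup r) (eH : H ≃* G)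
    (hlt : Nat.card H < Nat.card (PS F)) (hbig : 2 * r < Nat.card H)
    (hG : ∃ a b : G, a ^ r = 1 ∧ a ≠ 1 ∧ b * b = 1 ∧ b * a * b⁻¹ = a⁻¹) : False := by
  haveI := isSimpleGroup_PS h4
  obtain ⟨a, b, ha, ha1, hb, hba⟩ := hG
  refine no_small_dihedral hr3 hr2 hM e (fun h => ?_) hbig (eH.symm a).2 (eH.symm b).2 ?_ ?_ ?_
  · rw [h, Subgroup.card_top] at hlt
    exact lt_irrefl _ hlt
  · rw [Subgroup.orderOf_coe, MulEquiv.orderOf_eq]
    exact orderOf_eq_prime ha ha1
  · rw [← Subgroup.coe_mul, ← map_mul, hb, map_one, Subgroup.coe_one]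
  · rw [← Subgroup.coe_inv, ← Subgroup.coe_mul, ← Subgroup.coe_mul, ← map_inv, ← map_mul,
      ← map_mul, hba, map_inv, Subgroup.coe_inv]

end CfsgLib.PSL2Sub
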