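import Cfsg.Agent.Lib.PSL2Sub.Bounds
import Cfsg.Agent.Lib.Present.Icosahedral
import Cfsg.Agent.Lib.Present.BinIcosahedral

/-!
The polyhedral subgroups `A₄`, `S₄`, `A₅` of `PSL₂(q)`: generators satisfying the triangle
relations, and coset enumerations bounding the order of what they generate.
-/

set_option autoImplicit false
set_option linter.unusedSectionVars false

namespace CfsgLib.PSL2Sub

open Matrix

section Enumeration

variable {G : Type*} [Group G]

/-- The order bound given by a finite set of cosets closed under both generators. -/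
theorem card_le_of_coset_set (x y : G) (hgen : Subgroup.closure {x, y} = ⊤) (m : ℕ) (hm : 0 < m)
    (hy : y ^ m = 1) (S : Finset (G ⧸ Subgroup.zpowers y))
    (h1 : ((1 : G) : G ⧸ Subgroup.zpowers y) ∈ S) (hx : ∀ v ∈ S, x • v ∈ S)
    (hyS : ∀ v ∈ S, y • v ∈ S) : Finite G ∧ Nat.card G ≤ S.card * m := by
  classical
  have hstab : ∀ g : G, ∀ v ∈ S, g • v ∈ S := by
    intro g
    have hg : g ∈ Subgroup.closure ({x, y} : Set G) := hgen ▸ Subgroup.mem_top g
    induction hg using Subgroup.closure_induction with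
    | mem a ha => rcases ha with rfl | rfl <;> assumption
    | one => intro v hv; rwa [one_smul]
    | mul a b _ _ iha ihb => intro v hv; rw [mul_smul]; exact iha _ (ihb v hv)
    | inv a _ iha =>
      intro v hv
      obtain ⟨w, hw, hwv⟩ := Finset.surjOn_of_injOn_of_card_le (s := S) (t := S) (fun w => a • w)
        (fun w hw => iha w hw) (MulAction.injective a).injOn le_rfl hv
      rw [← hwv, inv_smul_smul]
      exact hw
  have huniv : (Set.univ : Set (G ⧸ Subgroup.zpowers y)) ⊆ S := by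
    intro v _
    obtain ⟨g, rfl⟩ := QuotientGroup.mk_surjective v
    have h := hstab g _ h1
    change ((g * 1 : G) : G ⧸ Subgroup.zpowers y) ∈ S at h
    rwa [mul_one] at h
  have hfin : Finite (G ⧸ Subgroup.zpowers y) :=
    Set.finite_univ_iff.mp (S.finite_toSet.subset huniv)
  have hfy : IsOfFinOrder y := isOfFinOrder_iff_pow_eq_one.mpr ⟨m, hm, hy⟩
  have : Finite (Subgroup.zpowers y) := hfy.finite_zpowers
  refine ⟨Finite.of_equiv _ (Subgroup.groupEquivQuotientProdSubgroup (s := Subgroup.zpowers y)).symm,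
    ?_⟩
  rw [Subgroup.card_eq_card_quotient_mul_card_subgroup (Subgroup.zpowers y)]
  refine Nat.mul_le_mul ?_ ?_
  · rw [← Nat.card_univ]
    refine (Nat.card_mono S.finite_toSet huniv).trans ?_
    rw [Nat.card_coe_set_eq, Set.ncard_coe_finset]
  · rw [Nat.card_zpowers]
    exact orderOf_le_of_pow_eq_one hm hy

theorem smul_base (y : G) :
    y • ((1 : G) : G ⧸ Subgroup.zpowers y) = ((1 : G) : G ⧸ Subgroup.zpowers y) := by
  change ((y * 1 : G) : G ⧸ Subgroup.zpowers y) = _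
  rw [mul_one, QuotientGroup.eq, mul_one]
  exact inv_mem (Subgroup.mem_zpowers y)

/-- The `(2,3,3)` triangle relations define a group of order at most 12. -/
theorem tetrahedral_card_le (x y : G) (hx0 : x ^ 3 = 1) (hy0 : y ^ 3 = 1) (hxy0 : (x * y) ^ 2 = 1)
    (hgen : Subgroup.closure {x, y} = ⊤) : Finite G ∧ Nat.card G ≤ 12 := by
  classical
  have hx : ∀ v : G ⧸ Subgroup.zpowers y, x • x • x • v = v := fun v => by
    rw [smul_smul, smul_smul, ← pow_two, ← pow_succ, hx0, one_smul]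
  have hy : ∀ v : G ⧸ Subgroup.zpowers y, y • y • y • v = v := fun v => by
    rw [smul_smul, smul_smul, ← pow_two, ← pow_succ, hy0, one_smul]
  have hxy : ∀ v : G ⧸ Subgroup.zpowers y, x • y • x • y • v = v := fun v => by
    rw [smul_smul, smul_smul, smul_smul, mul_assoc (x * y), ← pow_two, hxy0, one_smul]
  set v0 := ((1 : G) : G ⧸ Subgroup.zpowers y) with hv0
  have ey0 : y • v0 = v0 := smul_base y
  obtain ⟨v1, ex0⟩ : ∃ w, x • v0 = w := ⟨_, rfl⟩
  obtain ⟨v2, ex1⟩ : ∃ w, x • v1 = w := ⟨_, rfl⟩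
  have ex2 : x • v2 = v0 := by rw [← ex1, ← ex0, hx]
  have ey1 : y • v1 = v2 := by
    have key := hxy v0
    rw [ey0, ex0] at key
    exact MulAction.injective x (key.trans ex2.symm)
  obtain ⟨v3, ey2⟩ : ∃ w, y • v2 = w := ⟨_, rfl⟩
  have ey3 : y • v3 = v1 := by rw [← ey2, ← ey1, hy]
  have ex3 : x • v3 = v3 := by
    have key := hxy v2
    rw [ey2] at key
    have h1 : y • x • v3 = v1 := MulAction.injective x (key.trans ex1.symm)
    exact MulAction.injective y (h1.trans ey3.symm)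
  refine (card_le_of_coset_set x y hgen 3 (by norm_num) hy0 {v0, v1, v2, v3} (by simp [← hv0])
    ?_ ?_).imp id fun h => h.trans ((Nat.mul_le_mul_right 3 Finset.card_le_four).trans (by norm_num))
  · intro v hv
    simp only [Finset.mem_insert, Finset.mem_singleton] at hv
    rcases hv with rfl | rfl | rfl | rfl <;> simp [ex0, ex1, ex2, ex3]
  · intro v hv
    simp only [Finset.mem_insert, Finset.mem_singleton] at hv
    rcases hv with rfl | rfl | rfl | rfl <;> simp [ey0, ey1, ey2, ey3]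

/-- The `(2,3,4)` triangle relations define a group of order at most 24. -/
theorem octahedral_card_le (x y : G) (hx0 : x ^ 3 = 1) (hy0 : y ^ 4 = 1) (hxy0 : (x * y) ^ 2 = 1)
    (hgen : Subgroup.closure {x, y} = ⊤) : Finite G ∧ Nat.card G ≤ 24 := by
  classical
  have hx : ∀ v : G ⧸ Subgroup.zpowers y, x • x • x • v = v := fun v => by
    rw [smul_smul, smul_smul, ← pow_two, ← pow_succ, hx0, one_smul]
  have hy : ∀ v : G ⧸ Subgroup.zpowers y, y • y • y • y • v = v := fun v => by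
    rw [smul_smul, smul_smul, smul_smul, ← pow_two, ← pow_succ, ← pow_succ, hy0, one_smul]
  have hxy : ∀ v : G ⧸ Subgroup.zpowers y, x • y • x • y • v = v := fun v => by
    rw [smul_smul, smul_smul, smul_smul, mul_assoc (x * y), ← pow_two, hxy0, one_smul]
  set v0 := ((1 : G) : G ⧸ Subgroup.zpowers y) with hv0
  have ey0 : y • v0 = v0 := smul_base y
  obtain ⟨v1, ex0⟩ : ∃ w, x • v0 = w := ⟨_, rfl⟩
  obtain ⟨v2, ex1⟩ : ∃ w, x • v1 = w := ⟨_, rfl⟩
  have ex2 : x • v2 = v0 := by rw [← ex1, ← ex0, hx]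
  have ey1 : y • v1 = v2 := by
    have key := hxy v0
    rw [ey0, ex0] at key
    exact MulAction.injective x (key.trans ex2.symm)
  obtain ⟨v3, ey2⟩ : ∃ w, y • v2 = w := ⟨_, rfl⟩
  obtain ⟨v4, ey3⟩ : ∃ w, y • v3 = w := ⟨_, rfl⟩
  have ey4 : y • v4 = v1 := by rw [← ey3, ← ey2, ← ey1, hy]
  have ex3 : x • v3 = v4 := by
    have key := hxy v2
    rw [ey2] at key
    have h1 : y • x • v3 = v1 := MulAction.injective x (key.trans ex1.symm)
    exact MulAction.injective y (h1.trans ey4.symm)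
  obtain ⟨v5, ex4⟩ : ∃ w, x • v4 = w := ⟨_, rfl⟩
  have ex5 : x • v5 = v3 := by rw [← ex4, ← ex3, hx]
  have ey5 : y • v5 = v5 := by
    have key := hxy v3
    rw [ey3, ex4] at key
    exact MulAction.injective x (key.trans ex5.symm)
  refine (card_le_of_coset_set x y hgen 4 (by norm_num) hy0 {v0, v1, v2, v3, v4, v5}
    (by simp [← hv0]) ?_ ?_).imp id fun h => h.trans ?_
  · intro v hv
    simp only [Finset.mem_insert, Finset.mem_singleton] at hv
    rcases hv with rfl | rfl | rfl | rfl | rfl | rfl <;> simp [ex0, ex1, ex2, ex3, ex4, ex5]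
  · intro v hv
    simp only [Finset.mem_insert, Finset.mem_singleton] at hv
    rcases hv with rfl | rfl | rfl | rfl | rfl | rfl <;> simp [ey0, ey1, ey2, ey3, ey4, ey5]
  · refine (Nat.mul_le_mul_right 4 ?_).trans (le_of_eq (show 6 * 4 = 24 from rfl))
    exact Finset.card_le_six

/-- A homomorphism out of a group presented by two generators, from an order bound. -/
theorem exists_hom_of_bound {A : Type*} [Group A] [Finite A] {B : Type*} [Group B] {a b : A}
    {x y : B} (hgen : Subgroup.closure {a, b} = ⊤)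
    (bound : ∀ (Γ : Subgroup (A × B)) (u v : Γ), (u : A × B) = (a, x) → (v : A × B) = (b, y) →
      Subgroup.closure {u, v} = ⊤ → Finite Γ ∧ Nat.card Γ ≤ Nat.card A) :
    ∃ f : A →* B, f a = x ∧ f b = y := by
  set Γ := Subgroup.closure ({(a, x), (b, y)} : Set (A × B)) with hΓ
  let u : Γ := ⟨(a, x), Subgroup.subset_closure (by simp)⟩
  let v : Γ := ⟨(b, y), Subgroup.subset_closure (by simp)⟩
  have htop : Subgroup.closure ({u, v} : Set Γ) = ⊤ := by
    apply Subgroup.map_injective Γ.subtype_injective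
    rw [MonoidHom.map_closure, Set.image_pair, ← MonoidHom.range_eq_map, Γ.range_subtype]
    rfl
  obtain ⟨hfin, hle⟩ := bound Γ u v rfl rfl htop
  let π : Γ →* A := (MonoidHom.fst A B).comp Γ.subtype
  have hsurj : Function.Surjective π := by
    rw [← MonoidHom.range_eq_top, eq_top_iff, ← hgen, Subgroup.closure_le]
    rintro z (rfl | rfl)
    · exact ⟨u, rfl⟩
    · exact ⟨v, rfl⟩
  have hinj : Function.Injective π :=
    (Nat.bijective_iff_surjective_and_card _).mpr
      ⟨hsurj, le_antisymm hle (Nat.card_le_card_of_surjective _ hsurj)⟩ |>.1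
  let e := MulEquiv.ofBijective π ⟨hinj, hsurj⟩
  refine ⟨((MonoidHom.snd A B).comp Γ.subtype).comp e.symm.toMonoidHom, ?_, ?_⟩
  · show ((e.symm a : Γ) : A × B).2 = x
    rw [show e.symm a = u from e.injective (by rw [e.apply_symm_apply]; rfl)]
  · show ((e.symm b : Γ) : A × B).2 = y
    rw [show e.symm b = v from e.injective (by rw [e.apply_symm_apply]; rfl)]

end Enumeration

theorem alt_four_pair : ∃ a b : alternatingGroup (Fin 4), a ^ 3 = 1 ∧ b ^ 3 = 1 ∧
    (a * b) ^ 2 = 1 ∧ (∀ g, ∃ i j l : Fin 3, g = a ^ (i : ℕ) * b ^ (j : ℕ) * a ^ (l : ℕ)) ∧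
    (∀ g, g = 1 ∨ ∃ h₁ h₂, h₁ * (g * h₂ * g⁻¹ * h₂⁻¹) * h₁⁻¹ = a * b) := by
  decide +kernel

theorem sym_four_pair : ∃ a b : Equiv.Perm (Fin 4), a ^ 3 = 1 ∧ b ^ 4 = 1 ∧ (a * b) ^ 2 = 1 ∧
    (∀ g, ∃ (i k : Fin 3) (j l : Fin 4),
      g = a ^ (i : ℕ) * b ^ (j : ℕ) * a ^ (k : ℕ) * b ^ (l : ℕ)) ∧
    (∀ g, g = 1 ∨ ∃ h₁ h₂, h₁ * (g * h₂ * g⁻¹ * h₂⁻¹) * h₁⁻¹ = b ^ 2) := by
  decide +kernel

section SL

variable {F : Type*} [Field F]

/-- Powers of an element of `SL₂` with given trace. -/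
theorem trace_powers (M : SpecialLinearGroup (Fin 2) F) :
    ((M : Matrix (Fin 2) (Fin 2) F).trace = 1 →
      M ^ 3 ∈ Subgroup.center (SpecialLinearGroup (Fin 2) F)) ∧
    ((M : Matrix (Fin 2) (Fin 2) F).trace ^ 2 = 2 →
      M ^ 4 ∈ Subgroup.center (SpecialLinearGroup (Fin 2) F)) ∧
    ((M : Matrix (Fin 2) (Fin 2) F).trace ^ 2 + (M : Matrix (Fin 2) (Fin 2) F).trace = 1 →
      M ^ 5 ∈ Subgroup.center (SpecialLinearGroup (Fin 2) F)) ∧
    ((M : Matrix (Fin 2) (Fin 2) F).trace = 0 →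
      M ^ 2 ∈ Subgroup.center (SpecialLinearGroup (Fin 2) F)) := by
  set τ := (M : Matrix (Fin 2) (Fin 2) F).trace with hτ
  set A := (M : Matrix (Fin 2) (Fin 2) F) with hA
  have h2 : A * A = τ • A - 1 := CfsgLib.SL2Trace.mul_self_eq M
  have scal : ∀ r : F, (-r) • (1 : Matrix (Fin 2) (Fin 2) F) = Matrix.scalar (Fin 2) (-r) :=
    fun r => by rw [Matrix.scalar_apply, ← Matrix.smul_one_eq_diagonal]
  refine ⟨fun h => ?_, fun h => ?_, fun h => ?_, fun h => ?_⟩
  · refine CfsgLib.SL2Trace.mem_center_of_scalar (-1) ?_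
    rw [pow_succ, pow_two]
    show A * A * A = _
    rw [h2, h, one_smul, sub_mul, one_mul, h2, h, one_smul, ← scal]
    simp
  · refine CfsgLib.SL2Trace.mem_center_of_scalar (-(1 : F)) ?_
    rw [pow_succ, pow_succ, pow_two]
    show A * A * A * A = _
    rw [mul_assoc (A * A), h2, sub_mul, mul_sub, mul_sub, mul_one, one_mul, one_mul, smul_mul_smul_comm,
      h2, smul_sub, smul_smul, ← scal]
    ext i j
    simp only [Matrix.sub_apply, Matrix.smul_apply, smul_eq_mul]
    linear_combination (τ * A i j - (1 : Matrix (Fin 2) (Fin 2) F) i j) * h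
  · refine CfsgLib.SL2Trace.mem_center_of_scalar (-(τ ^ 3 - 2 * τ)) ?_
    rw [show M ^ 5 = M * M * M * (M * M) by simp only [pow_succ, pow_zero, one_mul, mul_assoc]]
    show A * A * A * (A * A) = _
    have h3 : A * A * A = (τ ^ 2 - 1) • A - τ • 1 := by
      rw [h2, sub_mul, one_mul, smul_mul_assoc, h2, smul_sub, smul_smul, sub_smul, one_smul, pow_two]
      abel
    rw [h3, h2]
    have e : ((τ ^ 2 - 1) • A - τ • (1 : Matrix (Fin 2) (Fin 2) F)) * (τ • A - 1) =
        ((τ ^ 2 - 1) * τ) • (A * A) - (τ ^ 2 - 1) • A - (τ * τ) • A + τ • 1 := by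
      simp only [sub_mul, mul_sub, smul_mul_assoc, mul_smul_comm, one_mul, mul_one, smul_sub,
        smul_smul, mul_comm τ]
      abel
    rw [e, h2, ← scal]
    ext i j
    simp only [Matrix.sub_apply, Matrix.add_apply, Matrix.smul_apply, smul_eq_mul]
    linear_combination (τ ^ 2 - τ - 1) * A i j * h
  · refine CfsgLib.SL2Trace.mem_center_of_scalar (-(1 : F)) ?_
    rw [pow_two]
    show A * A = _
    rw [h2, h, zero_smul, zero_sub, ← scal, neg_smul, one_smul]

/-- A partner of prescribed trace for the companion matrix of trace one. -/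
theorem exists_partner [Fintype F] (τ : F) (h3 : (3 : F) ≠ 0 ∨ τ ≠ 0) (h2 : (3 : F) ≠ 0 ∨ (2 : F) ≠ 0) :
    ∃ Y : SpecialLinearGroup (Fin 2) F, (Y : Matrix (Fin 2) (Fin 2) F).trace = τ ∧
      ((CfsgLib.SL2Trace.comp 1 * Y : SpecialLinearGroup (Fin 2) F) :
        Matrix (Fin 2) (Fin 2) F).trace = 0 := by
  obtain ⟨α, γ, h⟩ : ∃ α γ : F, α ^ 2 + α * γ + γ ^ 2 - τ * α - τ * γ + 1 = 0 := by
    by_cases hc : (3 : F) = 0
    · have hτ : τ ≠ 0 := h3.resolve_left (not_not.mpr hc)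
      have h2' : (2 : F) ≠ 0 := h2.resolve_left (not_not.mpr hc)
      refine ⟨(2 * τ)⁻¹, (2 * τ)⁻¹, ?_⟩
      have e : (2 * τ)⁻¹ * (2 * τ) = 1 := inv_mul_cancel₀ (mul_ne_zero h2' hτ)
      linear_combination (2 * τ)⁻¹ * (2 * τ)⁻¹ * hc - e
    · obtain ⟨a, b, hab⟩ := CfsgLib.SL2Trace.exists_quad_eq (1 : F) 1 1 (τ ^ 2 / 3 - 1)
        (fun h => hc (by linear_combination -h))
      refine ⟨a + τ / 3, b + τ / 3, ?_⟩
      field_simp at hab ⊢
      linear_combination 3 * hab
  refine ⟨CfsgLib.SL2Trace.mk2 α (α + γ - τ) γ (τ - α) (by linear_combination -h), ?_, ?_⟩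
  · rw [trace_fin_two, CfsgLib.SL2Trace.coe_mk2]
    simp
  · rw [trace_fin_two]
    simp [CfsgLib.SL2Trace.coe_mk2, CfsgLib.SL2Trace.coe_comp, SpecialLinearGroup.coe_mul,
      Matrix.mul_apply, Fin.sum_univ_two]

theorem toPSL_pow_eq_one {M : SpecialLinearGroup (Fin 2) F} {n : ℕ}
    (h : M ^ n ∈ Subgroup.center (SpecialLinearGroup (Fin 2) F)) :
    (CfsgLib.SL2Trace.toPSL M) ^ n = 1 := by
  rwa [CfsgLib.SL2Trace.toPSL, ← QuotientGroup.mk_pow, QuotientGroup.eq_one_iff]

theorem comp_one_ne_one : (CfsgLib.SL2Trace.toPSL (CfsgLib.SL2Trace.comp (1 : F))) ≠ 1 := by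
  rw [CfsgLib.SL2Trace.toPSL, Ne, QuotientGroup.eq_one_iff,
    CfsgLib.SL2Trace.mem_center_iff_entries]
  simp [CfsgLib.SL2Trace.coe_comp]

end SL

variable {F : Type*} [Field F] [Fintype F]

/-- Generators with triangle relations. -/
theorem exists_triangle (τ : F) (h3 : (3 : F) ≠ 0 ∨ τ ≠ 0) (h2 : (3 : F) ≠ 0 ∨ (2 : F) ≠ 0) :
    ∃ X Y : SpecialLinearGroup (Fin 2) F, X = CfsgLib.SL2Trace.comp 1 ∧
      (Y : Matrix (Fin 2) (Fin 2) F).trace = τ ∧
      ((X * Y : SpecialLinearGroup (Fin 2) F) : Matrix (Fin 2) (Fin 2) F).trace = 0 ∧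
      (CfsgLib.SL2Trace.toPSL X) ^ 3 = 1 ∧
      (CfsgLib.SL2Trace.toPSL X * CfsgLib.SL2Trace.toPSL Y) ^ 2 = 1 := by
  obtain ⟨Y, hY, hXY⟩ := exists_partner τ h3 h2
  refine ⟨_, Y, rfl, hY, hXY, toPSL_pow_eq_one ((trace_powers _).1 ?_), ?_⟩
  · rw [trace_fin_two]; simp [CfsgLib.SL2Trace.coe_comp]
  · rw [CfsgLib.SL2Trace.toPSL, CfsgLib.SL2Trace.toPSL, ← QuotientGroup.mk_mul]
    exact toPSL_pow_eq_one ((trace_powers _).2.2.2 hXY)

/-- `A₅` inside `PSL₂(q)`. -/
theorem exists_alt_five (τ : F) (hτ : τ ^ 2 + τ = 1) :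
    ∃ H : Subgroup (PS F), Nonempty (H ≃* alternatingGroup (Fin 5)) := by
  have hτ0 : τ ≠ 0 := by rintro rfl; simp at hτ
  have h23 : (3 : F) ≠ 0 ∨ (2 : F) ≠ 0 := by
    by_contra h
    push Not at h
    exact one_ne_zero (by linear_combination h.1 - h.2 : (1 : F) = 0)
  obtain ⟨X, Y, rfl, hY, -, hx3, hxy⟩ := exists_triangle τ (Or.inr hτ0) h23
  have hy5 : (CfsgLib.SL2Trace.toPSL Y) ^ 5 = 1 :=
    toPSL_pow_eq_one ((trace_powers Y).2.2.1 (by rw [hY]; exact hτ))
  obtain ⟨a, b, ha, hb, hab, hgen⟩ := CfsgLib.Present.ico_pair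
  obtain ⟨f, hfa, -⟩ := exists_hom_of_bound (B := PS F) (a := a) (b := b)
    (x := CfsgLib.SL2Trace.toPSL (CfsgLib.SL2Trace.comp 1)) (y := CfsgLib.SL2Trace.toPSL Y)
    hgen (fun Γ u v hu hv htop => by
      refine (CfsgLib.Present.icosahedral_card_le u v ?_ ?_ ?_ htop).imp id fun h => ?_
      · exact Subtype.ext (by
          rw [Subgroup.coe_pow, hu, Prod.pow_mk, hx3, orderOf_dvd_iff_pow_eq_one.mp ha.dvd]; rfl)
      · exact Subtype.ext (by
          rw [Subgroup.coe_pow, hv, Prod.pow_mk, hy5, orderOf_dvd_iff_pow_eq_one.mp hb.dvd]; rfl)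
      · exact Subtype.ext (by
          rw [Subgroup.coe_pow, Subgroup.coe_mul, hu, hv, Prod.mk_mul_mk, Prod.pow_mk, hxy,
            orderOf_dvd_iff_pow_eq_one.mp hab.dvd]; rfl)
      · refine h.trans ?_
        have h2 := two_mul_nat_card_alternatingGroup (α := Fin 5)
        rw [Nat.card_perm, Nat.card_fin, show Nat.factorial 5 = 120 from rfl] at h2
        omega)
  have hinj : Function.Injective f := by
    rw [← MonoidHom.ker_eq_bot_iff]
    haveI : IsSimpleGroup (alternatingGroup (Fin 5)) := alternatingGroup.isSimpleGroup_five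
    refine (MonoidHom.normal_ker f).eq_bot_or_eq_top.resolve_right fun h => ?_
    exact comp_one_ne_one (hfa.symm.trans (f.mem_ker.mp (h ▸ Subgroup.mem_top a)))
  exact ⟨f.range, ⟨(MonoidHom.ofInjective hinj).symm⟩⟩

/-- `A₄` inside `PSL₂(q)`, `q` odd. -/
theorem exists_alt_four (h2 : (2 : F) ≠ 0) :
    ∃ H : Subgroup (PS F), Nonempty (H ≃* alternatingGroup (Fin 4)) := by
  obtain ⟨X, Y, rfl, hY, hXY, hx3, hxy⟩ :=
    exists_triangle (1 : F) (Or.inr one_ne_zero) (Or.inr h2)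
  have hy3 : (CfsgLib.SL2Trace.toPSL Y) ^ 3 = 1 := toPSL_pow_eq_one ((trace_powers Y).1 hY)
  obtain ⟨a, b, ha, hb, hab, hwords, hmin⟩ := alt_four_pair
  have hgen : Subgroup.closure {a, b} = ⊤ := by
    rw [eq_top_iff]
    intro g _
    obtain ⟨i, j, l, rfl⟩ := hwords g
    exact mul_mem (mul_mem (pow_mem (Subgroup.subset_closure (by simp)) _)
      (pow_mem (Subgroup.subset_closure (by simp)) _)) (pow_mem (Subgroup.subset_closure (by simp)) _)
  obtain ⟨f, hfa, hfb⟩ := exists_hom_of_bound (B := PS F) (a := a) (b := b)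
    (x := CfsgLib.SL2Trace.toPSL (CfsgLib.SL2Trace.comp 1)) (y := CfsgLib.SL2Trace.toPSL Y)
    hgen (fun Γ u v hu hv htop => by
      refine (tetrahedral_card_le u v ?_ ?_ ?_ htop).imp id fun h => ?_
      · exact Subtype.ext (by rw [Subgroup.coe_pow, hu, Prod.pow_mk, hx3, ha]; rfl)
      · exact Subtype.ext (by rw [Subgroup.coe_pow, hv, Prod.pow_mk, hy3, hb]; rfl)
      · exact Subtype.ext (by
          rw [Subgroup.coe_pow, Subgroup.coe_mul, hu, hv, Prod.mk_mul_mk, Prod.pow_mk, hxy, hab]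
          rfl)
      · refine h.trans ?_
        have h2 := two_mul_nat_card_alternatingGroup (α := Fin 4)
        rw [Nat.card_perm, Nat.card_fin, show Nat.factorial 4 = 24 from rfl] at h2
        omega)
  have hinj : Function.Injective f := by
    rw [injective_iff_map_eq_one]
    intro g hg
    rcases hmin g with h | ⟨h₁, h₂, h⟩
    · exact h
    exfalso
    have h1 : f (a * b) = 1 := by
      rw [← h]; simp [hg]
    rw [map_mul, hfa, hfb, CfsgLib.SL2Trace.toPSL, CfsgLib.SL2Trace.toPSL, ← QuotientGroup.mk_mul,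
      QuotientGroup.eq_one_iff] at h1
    have h4 := CfsgLib.SL2Trace.trace_sq_of_mem_center h1
    rw [hXY] at h4
    exact h2 (pow_eq_zero_iff two_ne_zero |>.mp (by linear_combination -h4 : (2 : F) ^ 2 = 0))
  exact ⟨f.range, ⟨(MonoidHom.ofInjective hinj).symm⟩⟩

/-- `S₄` inside `PSL₂(q)` when two is a square. -/
theorem exists_sym_four (h2 : (2 : F) ≠ 0) (τ : F) (hτ : τ ^ 2 = 2) :
    ∃ H : Subgroup (PS F), Nonempty (H ≃* Equiv.Perm (Fin 4)) := by
  have hτ0 : τ ≠ 0 := by rintro rfl; exact h2 (by linear_combination -hτ)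
  obtain ⟨X, Y, rfl, hY, -, hx3, hxy⟩ := exists_triangle τ (Or.inr hτ0) (Or.inr h2)
  have hy4 : (CfsgLib.SL2Trace.toPSL Y) ^ 4 = 1 :=
    toPSL_pow_eq_one ((trace_powers Y).2.1 (by rw [hY]; exact hτ))
  obtain ⟨a, b, ha, hb, hab, hwords, hmin⟩ := sym_four_pair
  have hgen : Subgroup.closure {a, b} = ⊤ := by
    rw [eq_top_iff]
    intro g _
    obtain ⟨i, k, j, l, rfl⟩ := hwords g
    exact mul_mem (mul_mem (mul_mem (pow_mem (Subgroup.subset_closure (by simp)) _)
      (pow_mem (Subgroup.subset_closure (by simp)) _)) (pow_mem (Subgroup.subset_closure (by simp)) _))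
      (pow_mem (Subgroup.subset_closure (by simp)) _)
  obtain ⟨f, -, hfb⟩ := exists_hom_of_bound (B := PS F) (a := a) (b := b)
    (x := CfsgLib.SL2Trace.toPSL (CfsgLib.SL2Trace.comp 1)) (y := CfsgLib.SL2Trace.toPSL Y)
    hgen (fun Γ u v hu hv htop => by
      refine (octahedral_card_le u v ?_ ?_ ?_ htop).imp id fun h => ?_
      · exact Subtype.ext (by rw [Subgroup.coe_pow, hu, Prod.pow_mk, hx3, ha]; rfl)
      · exact Subtype.ext (by rw [Subgroup.coe_pow, hv, Prod.pow_mk, hy4, hb]; rfl)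
      · exact Subtype.ext (by
          rw [Subgroup.coe_pow, Subgroup.coe_mul, hu, hv, Prod.mk_mul_mk, Prod.pow_mk, hxy, hab]
          rfl)
      · refine h.trans (le_of_eq ?_)
        rw [Nat.card_perm, Nat.card_fin]; rfl)
  have hinj : Function.Injective f := by
    rw [injective_iff_map_eq_one]
    intro g hg
    rcases hmin g with h | ⟨h₁, h₂, h⟩
    · exact h
    exfalso
    have h1 : f (b ^ 2) = 1 := by
      rw [← h]; simp [hg]
    rw [map_pow, hfb, CfsgLib.SL2Trace.toPSL, ← QuotientGroup.mk_pow,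
      QuotientGroup.eq_one_iff] at h1
    have h4 := CfsgLib.SL2Trace.trace_sq_of_mem_center h1
    have ht : ((Y ^ 2 : SpecialLinearGroup (Fin 2) F) : Matrix (Fin 2) (Fin 2) F).trace = 0 := by
      rw [pow_two]
      show ((Y : Matrix (Fin 2) (Fin 2) F) * (Y : Matrix (Fin 2) (Fin 2) F)).trace = 0
      rw [CfsgLib.SL2Trace.mul_self_eq Y, trace_sub, trace_smul, hY, trace_one, Fintype.card_fin,
        smul_eq_mul]
      push_cast
      linear_combination hτ
    rw [ht] at h4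
    exact h2 (pow_eq_zero_iff two_ne_zero |>.mp (by linear_combination -h4 : (2 : F) ^ 2 = 0))
  exact ⟨f.range, ⟨(MonoidHom.ofInjective hinj).symm⟩⟩

end CfsgLib.PSL2Sub
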