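import Cfsg.Agent.Lib.PSL2Sub.Descent
import Cfsg.Agent.Lib.PSL2Sub.Maximal
import Cfsg.Agent.Lib.Linear.Simple

/-!
The isomorphism types of the maximal subgroups of `PSL₂(q)`.
-/

set_option autoImplicit false
set_option linter.unusedSectionVars false

namespace CfsgLib.PSL2Sub

open Matrix

/-- A finite simple group of composite order has no abelian maximal subgroup. -/
theorem no_abelian_coatom {G : Type*} [Group G] [Finite G] [IsSimpleGroup G]
    (hG : ¬ (Nat.card G).Prime) (M : Subgroup G) (hM : IsCoatom M)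
    (hab : ∀ a ∈ M, ∀ b ∈ M, a * b = b * a) : False := by
  have hnorm : ∀ H : Subgroup G, H.Normal → H ≠ ⊥ → H = ⊤ := fun H hH hne =>
    hH.eq_bot_or_eq_top.resolve_left hne
  have hbot : M ≠ ⊥ := by
    rintro rfl
    obtain ⟨g, hg⟩ := exists_ne (1 : G)
    have htop : Subgroup.zpowers g = ⊤ := hM.2 _ (bot_lt_iff_ne_bot.mpr fun h =>
      hg (Subgroup.zpowers_eq_bot.mp h))
    haveI : IsCyclic G := ⟨⟨g, fun x => by
      have : x ∈ Subgroup.zpowers g := htop ▸ Subgroup.mem_top x
      exact this⟩⟩
    letI : CommGroup G := IsCyclic.commGroup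
    exact hG IsSimpleGroup.prime_card
  obtain ⟨r, hr, hrdvd⟩ := Nat.exists_prime_and_dvd
    (n := Nat.card M) (fun h => hbot (Subgroup.card_eq_one.mp h))
  haveI := Fact.mk hr
  obtain ⟨Q⟩ : Nonempty (Sylow r M) := inferInstance
  set R : Subgroup G := (Q : Subgroup M).map M.subtype with hR
  have hRM : R ≤ M := by rintro _ ⟨x, -, rfl⟩; exact x.2
  have hRne : R ≠ ⊥ := by
    intro h
    have hQ : (Q : Subgroup M) = ⊥ := (Subgroup.map_eq_bot_iff_of_injective _ M.subtype_injective).mp h
    have := Q.dvd_card_of_dvd_card hrdvd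
    rw [hQ, Subgroup.card_bot, Nat.dvd_one] at this
    exact hr.ne_one this
  have hMN : M ≤ Subgroup.normalizer (R : Set G) := fun m hm =>
    Subgroup.mem_normalizer_iff.mpr fun x => by
      constructor
      · intro hx
        rwa [hab m hm x (hRM hx), mul_inv_cancel_right]
      · intro hx
        have h1 : x = m⁻¹ * (m * x * m⁻¹) * m := by group
        rw [h1, hab m⁻¹ (M.inv_mem hm) _ (hRM hx), inv_mul_cancel_right]
        exact hx
  have hNR : Subgroup.normalizer (R : Set G) = M := by
    rcases hM.le_iff.mp hMN with h | h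
    · have := hnorm R (Subgroup.normalizer_eq_top_iff.mp h) hRne
      exact absurd (eq_top_iff.mpr (this ▸ hRM)) hM.1
    · exact h
  obtain ⟨S, hRS⟩ := (Q.2.map M.subtype).exists_le_sylow
  have hSR : (S : Subgroup G) = R := by
    by_contra hne
    haveI : Group.IsNilpotent (S : Subgroup G) := S.2.isNilpotent
    have hlt : R.subgroupOf (S : Subgroup G) < ⊤ := lt_top_iff_ne_top.mpr fun h =>
      hne (le_antisymm (Subgroup.subgroupOf_eq_top.mp h) hRS)
    obtain ⟨x, hx, hxR⟩ := SetLike.exists_of_lt
      (Group.normalizerCondition_of_isNilpotent (R.subgroupOf (S : Subgroup G)) hlt)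
    have hxM : (x : G) ∈ M := by
      rw [← hNR, Subgroup.mem_normalizer_iff]
      intro y
      constructor
      · intro hy
        exact (Subgroup.mem_normalizer_iff.mp hx ⟨y, hRS hy⟩).mp hy
      · intro hy
        have hyS : y ∈ (S : Subgroup G) := by
          have h1 : y = (x : G)⁻¹ * ((x : G) * y * (x : G)⁻¹) * x := by group
          rw [h1]
          exact mul_mem (mul_mem (inv_mem x.2) (hRS hy)) x.2
        exact (Subgroup.mem_normalizer_iff.mp hx ⟨y, hyS⟩).mpr hy
    have hQS : (Q : Subgroup M) ≤ (S : Subgroup G).subgroupOf M := fun y hy =>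
      hRS ⟨y, hy, rfl⟩
    have hp : IsPGroup r ((S : Subgroup G).subgroupOf M) :=
      S.2.comap_of_injective M.subtype M.subtype_injective
    have : (⟨x, hxM⟩ : M) ∈ (Q : Subgroup M) := Q.is_maximal' hp hQS ▸ x.2
    exact hxR ⟨⟨x, hxM⟩, this, rfl⟩
  have hNC : Subgroup.normalizer ((S : Subgroup G) : Set G) ≤
      Subgroup.centralizer ((S : Subgroup G) : Set G) := by
    rw [hSR, hNR]
    intro m hm
    rw [Subgroup.mem_centralizer_iff]
    exact fun y hy => hab y (hRM hy) m hm
  have hc := MonoidHom.ker_transferSylow_isComplement' S hNC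
  rcases (MonoidHom.transferSylow S hNC).normal_ker.eq_bot_or_eq_top with h | h
  · rw [h, Subgroup.isComplement'_bot_left] at hc
    exact hM.1 (eq_top_iff.mpr (by rw [← hc, hSR]; exact hRM))
  · rw [h, Subgroup.isComplement'_top_left, hSR] at hc
    exact hRne hc

theorem dihedral_facts (k : ℕ) (x : DihedralGroup k) :
    (orderOf x ∣ k ∨ orderOf x ≤ 2) ∧
    (x * DihedralGroup.r 1 * x⁻¹ = DihedralGroup.r 1 ∨
      x * DihedralGroup.r 1 * x⁻¹ = (DihedralGroup.r 1)⁻¹) := by
  rcases x with i | i
  · refine ⟨Or.inl (orderOf_dvd_of_pow_eq_one ?_), Or.inl ?_⟩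
    · rw [DihedralGroup.r_pow]
      simp
    · rw [DihedralGroup.r_mul_r, DihedralGroup.inv_r, DihedralGroup.r_mul_r, add_neg_cancel_comm]
  · refine ⟨Or.inr ?_, Or.inr ?_⟩
    · rw [DihedralGroup.orderOf_sr]
    · rw [DihedralGroup.inv_sr, DihedralGroup.inv_r, DihedralGroup.sr_mul_r,
        DihedralGroup.sr_mul_sr, sub_add_cancel_left]

theorem card_map_conj {G : Type*} [Group G] (g : G) (H : Subgroup G) :
    Nat.card (H.map (MulAut.conj g).toMonoidHom) = Nat.card H :=
  (Nat.card_congr (H.equivMapOfInjective _ (MulAut.conj g).injective).toEquiv).symm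

theorem map_conj_ne_top {G : Type*} [Group G] [Finite G] (g : G) {H : Subgroup G} (h : H ≠ ⊤) :
    H.map (MulAut.conj g).toMonoidHom ≠ ⊤ := fun ht => h (Subgroup.eq_top_of_card_eq _ (by
  rw [← card_map_conj g, ht, Subgroup.card_top]))

/-- A maximal subgroup that embeds in a strictly larger proper subgroup up to conjugation. -/
theorem not_coatom_of_conj_le {G : Type*} [Group G] [Finite G] {M H : Subgroup G} (g : G)
    (hH : H ≠ ⊤) (hle : M ≤ H.map (MulAut.conj g).toMonoidHom) (hlt : Nat.card M < Nat.card H) :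
    ¬ IsCoatom M := fun hM => by
  rcases hM.le_iff.mp hle with h | h
  · exact map_conj_ne_top g hH h
  · rw [← h, card_map_conj] at hlt
    exact lt_irrefl _ hlt

section Sylow

variable {G : Type*} [Group G] [Finite G]

/-- A Sylow subgroup of prime order. -/
theorem exists_sylow_zpowers {r : ℕ} [hr : Fact r.Prime] (hr2 : ¬ r ^ 2 ∣ Nat.card G) {a : G}
    (ha : orderOf a = r) : ∃ S : Sylow r G, (S : Subgroup G) = Subgroup.zpowers a := by
  have hc : Nat.card (Subgroup.zpowers a) = r ^ 1 := by rw [Nat.card_zpowers, ha, pow_one]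
  obtain ⟨S, hS⟩ := (IsPGroup.of_card hc).exists_le_sylow
  refine ⟨S, (Subgroup.eq_of_le_of_card_ge hS ?_).symm⟩
  obtain ⟨n, hn⟩ := IsPGroup.iff_card.mp S.2
  have h1 : r ^ n ∣ Nat.card G := hn ▸ Subgroup.card_subgroup_dvd_card _
  have : n ≤ 1 := by
    by_contra h
    exact hr2 ((Nat.pow_dvd_pow r (by omega)).trans h1)
  rw [hn, hc]
  exact Nat.pow_le_pow_right hr.out.pos this

/-- A maximal dihedral subgroup of order twice a prime is not inside a larger subgroup containing
a dihedral pair of that order. -/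
theorem no_small_dihedral [IsSimpleGroup G] {r : ℕ} [hr : Fact r.Prime] (hr3 : 3 ≤ r)
    (hr2 : ¬ r ^ 2 ∣ Nat.card G) {M H : Subgroup G} (hM : IsCoatom M) (e : M ≃* DihedralGroup r)
    (hH : H ≠ ⊤) (hbig : 2 * r < Nat.card H) {a b : G} (ha : a ∈ H) (hb : b ∈ H)
    (hao : orderOf a = r) (hb2 : b * b = 1) (hba : b * a * b⁻¹ = a⁻¹) : False := by
  set c : G := (e.symm (DihedralGroup.r 1) : G) with hc
  have hco : orderOf c = r := by
    rw [hc, Subgroup.orderOf_coe, MulEquiv.orderOf_eq, DihedralGroup.orderOf_r_one]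
  have hN : Subgroup.normalizer (Subgroup.zpowers c : Set G) = M := by
    refine (hM.le_iff.mp fun m hm => Subgroup.mem_normalizer_iff_map_conj_eq.mpr ?_).resolve_left ?_
    · rw [MonoidHom.map_zpowers]
      have h2 := (dihedral_facts r (e ⟨m, hm⟩)).2
      rcases h2 with h | h <;>
      · have h' := congrArg (fun x => (e.symm x : G)) h
        simp only [map_mul, map_inv, e.symm_apply_apply, Subgroup.coe_mul, Subgroup.coe_inv,
          ← hc] at h'
        show Subgroup.zpowers (m * c * m⁻¹) = _
        rw [h']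
        try exact Subgroup.zpowers_inv
    · intro h
      have hn : (Subgroup.zpowers c).Normal := Subgroup.normalizer_eq_top_iff.mp h
      rcases hn.eq_bot_or_eq_top with h' | h'
      · rw [Subgroup.zpowers_eq_bot.mp h', orderOf_one] at hco; omega
      · exact hM.1 (eq_top_iff.mpr (h' ▸ Subgroup.zpowers_le.mpr (e.symm (DihedralGroup.r 1)).2))
  obtain ⟨S₁, hS₁⟩ := exists_sylow_zpowers hr2 hco
  obtain ⟨S₂, hS₂⟩ := exists_sylow_zpowers hr2 hao
  obtain ⟨g, hg⟩ := MulAction.exists_smul_eq G S₂ S₁
  have hmap : (Subgroup.zpowers a).map (MulAut.conj g).toMonoidHom = Subgroup.zpowers c := by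
    rw [← hS₁, ← hS₂, ← hg]; rfl
  have hout : b ∉ Subgroup.zpowers a := by
    intro hmem
    obtain ⟨i, rfl⟩ := Subgroup.mem_zpowers_iff.mp hmem
    rw [((Commute.refl a).zpow_left i).eq, mul_inv_cancel_right] at hba
    have := orderOf_dvd_of_pow_eq_one (x := a) (n := 2)
      (by rw [pow_two]; nth_rewrite 1 [hba]; rw [inv_mul_cancel])
    rw [hao] at this
    have := Nat.le_of_dvd two_pos this
    omega
  obtain ⟨D, haD, hbD, hDc, -⟩ := exists_dihedral a b hb2 hba hout
  rw [hao] at hDc
  set K := Subgroup.closure {a, b} with hK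
  have hKD : K ≤ D := (Subgroup.closure_le D).mpr (by
    intro x hx
    rcases hx with h | h
    · rw [h]; exact haD
    · rw [h]; exact hbD)
  have hKH : K ≤ H := (Subgroup.closure_le H).mpr (by
    intro x hx
    rcases hx with h | h
    · rw [h]; exact ha
    · rw [h]; exact hb)
  have hKM : K.map (MulAut.conj g).toMonoidHom ≤ M := by
    rw [Subgroup.map_le_iff_le_comap, hK, Subgroup.closure_le, ← hN]
    intro x hx
    rcases hx with h | h <;> rw [h]
    · refine Subgroup.le_normalizer ?_
      rw [← hmap]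
      exact ⟨a, Subgroup.mem_zpowers a, rfl⟩
    · refine Subgroup.mem_comap.mpr ?_
      rw [Subgroup.mem_normalizer_iff_map_conj_eq, ← hmap, Subgroup.map_map]
      have e1 : (Subgroup.zpowers a).map (MulAut.conj b).toMonoidHom = Subgroup.zpowers a := by
        rw [MonoidHom.map_zpowers]
        show Subgroup.zpowers (b * a * b⁻¹) = _
        rw [hba, Subgroup.zpowers_inv]
      conv_rhs => rw [← e1, Subgroup.map_map]
      congr 1
      ext x
      simp [MulAut.conj_apply, mul_assoc]
  have hKc : Nat.card M ≤ Nat.card (K.map (MulAut.conj g).toMonoidHom) := by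
    rw [card_map_conj, Nat.card_congr e.toEquiv, DihedralGroup.nat_card]
    have haK : a ∈ K := Subgroup.subset_closure (Set.mem_insert a {b})
    have hbK : b ∈ K := Subgroup.subset_closure (Set.mem_insert_of_mem a rfl)
    have h1 : r ∣ Nat.card K := hao ▸ (Nat.card_zpowers a ▸ Subgroup.card_dvd_of_le
      (Subgroup.zpowers_le.mpr haK))
    have h2 : Nat.card K ≠ r := fun h => hout (by
      rw [Subgroup.eq_of_le_of_card_ge (Subgroup.zpowers_le.mpr haK)
        (by rw [Nat.card_zpowers, hao, h])]
      exact hbK)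
    have h3 : Nat.card K ∣ 2 * r := hDc ▸ Subgroup.card_dvd_of_le hKD
    obtain ⟨j, hj⟩ := h1
    rw [hj, mul_comm 2 r] at h3
    rcases (Nat.dvd_prime Nat.prime_two).mp (Nat.dvd_of_mul_dvd_mul_left hr.out.pos h3) with rfl | rfl
    · omega
    · omega
  have hMeq := Subgroup.eq_of_le_of_card_ge hKM hKc
  refine not_coatom_of_conj_le g hH ?_ ?_ hM
  · rw [← hMeq]
    exact Subgroup.map_mono hKH
  · rwa [Nat.card_congr e.toEquiv, DihedralGroup.nat_card]

/-- A maximal subgroup of order 8 is not a Sylow subgroup of a larger proper subgroup. -/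
theorem no_sylow_eight (h16 : ¬ 16 ∣ Nat.card G) {M H : Subgroup G} (hM : IsCoatom M)
    (hM8 : Nat.card M = 8) (hH : H ≠ ⊤) (hH8 : Nat.card H = 24) : False := by
  haveI : Fact (Nat.Prime 2) := ⟨Nat.prime_two⟩
  have hbound : ∀ S : Sylow 2 G, Nat.card S ≤ 8 := fun S => by
    obtain ⟨n, hn⟩ := IsPGroup.iff_card.mp S.2
    have h1 : 2 ^ n ∣ Nat.card G := hn ▸ Subgroup.card_subgroup_dvd_card _
    have : n ≤ 3 := by
      by_contra h
      exact h16 ((Nat.pow_dvd_pow 2 (show 4 ≤ n by omega)).trans h1)
    rw [hn]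
    exact (Nat.pow_le_pow_right two_pos this).trans (by norm_num)
  obtain ⟨S₁, hS₁⟩ := (IsPGroup.of_card (p := 2) (n := 3) (hM8.trans (by norm_num))).exists_le_sylow
  obtain ⟨T⟩ : Nonempty (Sylow 2 H) := inferInstance
  have hT : 8 ∣ Nat.card T := by
    have := T.pow_dvd_card_of_pow_dvd_card (n := 3) (by rw [hH8]; norm_num)
    simpa using this
  obtain ⟨S₂, hS₂⟩ := (T.2.map H.subtype).exists_le_sylow
  have hTc : Nat.card ((T : Subgroup H).map H.subtype) = Nat.card T :=
    (Nat.card_congr ((T : Subgroup H).equivMapOfInjective _ H.subtype_injective).toEquiv).symm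
  have e2 : (T : Subgroup H).map H.subtype = (S₂ : Subgroup G) :=
    Subgroup.eq_of_le_of_card_ge hS₂ (by
      rw [hTc]; exact (hbound S₂).trans (Nat.le_of_dvd Nat.card_pos hT))
  obtain ⟨g, hg⟩ := MulAction.exists_smul_eq G S₂ S₁
  have hmap : (S₂ : Subgroup G).map (MulAut.conj g).toMonoidHom = S₁ := by rw [← hg]; rfl
  refine not_coatom_of_conj_le g hH (hS₁.trans ?_) (by omega) hM
  rw [← hmap, ← e2]
  exact Subgroup.map_mono (Subgroup.map_subtype_le _)

end Sylow

section PSL

variable {F : Type*} [Field F] [Fintype F]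

theorem card_PG (K : Type*) [Field K] [Fintype K] :
    Nat.card (PG K) = Fintype.card K * (Fintype.card K ^ 2 - 1) := by
  rw [Linear.card_PGL, Linear.card_SL_two]

theorem card_PS_ne_prime (h4 : 4 ≤ Fintype.card F) : ¬ (Nat.card (PS F)).Prime := by
  intro hp
  have hG := gcd_mul_card_PS (F := F)
  set q := Fintype.card F
  rcases gcd_two_sub q with ⟨hq, hd⟩ | ⟨hq, h0 | hd⟩
  · rw [hd] at hG
    have hsq : q ^ 2 - 1 = (q + 1) * (q - 1) := by simpa using Nat.sq_sub_sq q 1
    have hdvd : q ∣ Nat.card (PS F) :=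
      Nat.Coprime.dvd_of_dvd_mul_left (by rw [Nat.coprime_two_right, Nat.odd_iff]; exact hq)
        (hG ▸ dvd_mul_right q _)
    rcases hp.eq_one_or_self_of_dvd q hdvd with h | h
    · omega
    · rw [← h, hsq] at hG
      have : q * ((q + 1) * (q - 1)) ≥ q * (5 * 3) :=
        Nat.mul_le_mul_left q (Nat.mul_le_mul (by omega) (by omega))
      omega
  · omega
  · rw [hd, one_mul] at hG
    rw [hG] at hp
    refine Nat.not_prime_mul (by omega) ?_ hp
    have := Nat.pow_le_pow_left (show 4 ≤ q from h4) 2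
    omega

theorem gcd_le_two (q : ℕ) : Nat.gcd 2 q ≤ 2 := Nat.le_of_dvd two_pos (Nat.gcd_dvd_left 2 q)

theorem index_range_toPG :
    (toPG : PS F →* PG F).range.index = Nat.gcd 2 (Fintype.card F - 1) := by
  classical
  have hG := gcd_mul_card_PS (F := F)
  have h := (toPG : PS F →* PG F).range.card_mul_index
  rw [← Nat.card_congr (MonoidHom.ofInjective toPG_injective).toEquiv, card_PG, ← hG, mul_comm] at h
  exact Nat.eq_of_mul_eq_mul_right Nat.card_pos h

theorem range_toPG_normal : (toPG : PS F →* PG F).range.Normal := by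
  have : (toPG : PS F →* PG F).range =
      (SpecialLinearGroup.toPGL : SpecialLinearGroup (Fin 2) F →* PG F).range := by
    ext x
    constructor
    · rintro ⟨g, rfl⟩
      obtain ⟨s, rfl⟩ := QuotientGroup.mk_surjective g
      exact ⟨s, rfl⟩
    · rintro ⟨s, rfl⟩
      exact ⟨QuotientGroup.mk s, rfl⟩
  rw [this]
  exact range_toPGL_normal F

variable {K : Type*} [Field K] [Fintype K]

/-- The subgroup cut out by a conjugate of `PGL₂` of a subfield. -/
theorem exists_overgroup (ι : K →+* F) {S : Subgroup (PG K)} {M : Subgroup (PS F)}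
    (h : ConjFrom ι S M) :
    ∃ H : Subgroup (PS F), M ≤ H ∧ Nat.card (PG K) ≤ 2 * Nat.card H ∧
      Nat.card H ≤ Nat.card (PG K) ∧
      ((ProjGenLinGroup.map (n := Fin 2) ι).range ≤ (toPG : PS F →* PG F).range →
        Nat.card H = Nat.card (PG K)) := by
  classical
  obtain ⟨g, hg⟩ := h
  haveI : Finite (PG F) := Finite.of_surjective _ ProjGenLinGroup.mk_surjective
  set R := (ProjGenLinGroup.map (n := Fin 2) ι).range.map (MulAut.conj g).toMonoidHom with hR
  have hRc : Nat.card R = Nat.card (PG K) := by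
    rw [card_map_conj,
      ← Nat.card_congr (MonoidHom.ofInjective (map_injective_pgl ι)).toEquiv]
  set L := (toPG : PS F →* PG F).range with hL
  have hH : Nat.card (R.comap (toPG : PS F →* PG F)) = Nat.card (L ⊓ R : Subgroup (PG F)) := by
    rw [← Subgroup.map_comap_eq]
    exact Nat.card_congr ((R.comap toPG).equivMapOfInjective _ toPG_injective).toEquiv
  refine ⟨R.comap toPG, ?_, ?_, ?_, fun hle => ?_⟩
  · rw [← Subgroup.map_le_iff_le_comap, hg, hR]
    exact Subgroup.map_mono (Subgroup.map_le_range _ _)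
  · rw [hH, ← hRc]
    haveI := range_toPG_normal (F := F)
    have h1 := (L.subgroupOf R).card_mul_index
    have h2 : Nat.card (L.subgroupOf R) = Nat.card (L ⊓ R : Subgroup (PG F)) := by
      rw [← Subgroup.inf_subgroupOf_right,
        Nat.card_congr (Subgroup.subgroupOfEquivOfLe inf_le_right).toEquiv]
    have h3 : (L.subgroupOf R).index ≤ 2 := by
      have : L.relIndex R ∣ L.index := Subgroup.relIndex_dvd_index_of_normal L R
      rw [index_range_toPG] at this
      exact Nat.le_of_dvd two_pos (this.trans (Nat.gcd_dvd_left 2 _))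
    rw [h2] at h1
    rw [← h1, mul_comm]
    exact Nat.mul_le_mul_right _ h3
  · rw [hH, ← hRc]
    exact Subgroup.card_le_of_le inf_le_right
  · haveI := range_toPG_normal (F := F)
    have hRL : R ≤ L := by
      rintro _ ⟨x, hx, rfl⟩
      exact Subgroup.Normal.conj_mem inferInstance x (hle hx) g
    rw [hH, inf_eq_right.mpr hRL, hRc]

/-- A maximal subgroup is not conjugate into `PGL₂` of a subfield of intermediate size. -/
theorem not_coatom_of_conjFrom (ι : K →+* F) {S : Subgroup (PG K)} {M : Subgroup (PS F)}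
    (h : ConjFrom ι S M) (hlow : 2 * Nat.card M < Nat.card (PG K))
    (hhigh : 2 * Nat.card (PG K) < Nat.card (PG F)) : ¬ IsCoatom M := by
  classical
  intro hM
  obtain ⟨H, hle, h1, h2, -⟩ := exists_overgroup ι h
  rcases hM.le_iff.mp hle with rfl | rfl
  · rw [Subgroup.card_top] at h2
    rw [card_PG F, ← gcd_mul_card_PS] at hhigh
    have : Nat.gcd 2 (Fintype.card F - 1) * Nat.card (PS F) ≤ 2 * Nat.card (PS F) :=
      Nat.mul_le_mul_right _ (gcd_le_two _)
    omega
  · omega

theorem pg_bound (h : 2 * Fintype.card K ≤ Fintype.card F) :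
    2 * Nat.card (PG K) < Nat.card (PG F) := by
  have hk : 2 ≤ Fintype.card K := Fintype.one_lt_card
  have h2 := Nat.pow_lt_pow_left (show Fintype.card K < Fintype.card F by omega) (two_ne_zero)
  rw [card_PG, card_PG, ← mul_assoc]
  calc 2 * Fintype.card K * (Fintype.card K ^ 2 - 1)
      ≤ Fintype.card F * (Fintype.card K ^ 2 - 1) := Nat.mul_le_mul_right _ h
    _ < Fintype.card F * (Fintype.card F ^ 2 - 1) := by
        refine Nat.mul_lt_mul_of_pos_left ?_ Fintype.card_pos
        have := Nat.one_le_pow 2 (Fintype.card K) (by omega)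
        omega

theorem pg_lower {k : ℕ} (h : k ≤ Fintype.card K) : k * (k ^ 2 - 1) ≤ Nat.card (PG K) := by
  rw [card_PG]
  exact Nat.mul_le_mul h (Nat.sub_le_sub_right (Nat.pow_le_pow_left h 2) 1)

/-- Two subgroups with the same model: one inside a bigger proper subgroup gives non-maximality. -/
theorem not_coatom_of_same_model (ι : K →+* F) {S : Subgroup (PG K)} {M M' H : Subgroup (PS F)}
    (h : ConjFrom ι S M) (h' : ConjFrom ι S M') (hle : M' ≤ H) (hlt : Nat.card M < Nat.card H)
    (hH : H ≠ ⊤) : ¬ IsCoatom M := by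
  classical
  intro hM
  obtain ⟨g, hg⟩ := h
  obtain ⟨g', hg'⟩ := h'
  haveI := range_toPG_normal (F := F)
  set u := g * g'⁻¹ with hu
  have hMu : M.map toPG = (M'.map toPG).map (MulAut.conj u).toMonoidHom := by
    rw [hg', hg, Subgroup.map_map]
    congr 1
    ext x
    simp [hu, MulAut.conj_apply]
    group
  set R := (H.map toPG).map (MulAut.conj u).toMonoidHom with hR
  have hRL : R ≤ (toPG : PS F →* PG F).range := by
    rintro _ ⟨x, ⟨y, -, rfl⟩, rfl⟩
    exact Subgroup.Normal.conj_mem inferInstance (toPG y) (MonoidHom.mem_range.mpr ⟨y, rfl⟩) u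
  have hcard : Nat.card (R.comap (toPG : PS F →* PG F)) = Nat.card H := by
    rw [Nat.card_congr ((R.comap toPG).equivMapOfInjective _ toPG_injective).toEquiv,
      Subgroup.map_comap_eq_self hRL, card_map_conj,
      ← Nat.card_congr (H.equivMapOfInjective _ toPG_injective).toEquiv]
  have hle' : M ≤ R.comap toPG := by
    rw [← Subgroup.map_le_iff_le_comap, hMu]
    exact Subgroup.map_mono (Subgroup.map_mono hle)
  rcases hM.le_iff.mp hle' with e | e
  · refine hH (Subgroup.eq_top_of_card_eq _ ?_)
    rw [← hcard, e, Subgroup.card_top]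
  · rw [e] at hcard
    omega

end PSL

section Fields

variable {F : Type*} [Field F] [Fintype F]

/-- An intermediate field, realised in universe zero. -/
theorem exists_intermediate (p : ℕ) [Fact p.Prime] [CharP F p] (E : Subfield F) {a b : ℕ}
    (ha : 0 < a) (hb : 0 < b) (h : Nat.card E ^ (a * b) = Fintype.card F) :
    ∃ (K : Type) (_ : Field K) (_ : Fintype K) (ι : K →+* F),
      Fintype.card K = Nat.card E ^ a ∧ ∃ j : E →+* K, ι.comp j = E.subtype := by
  classical
  letI := Fintype.ofFinite E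
  haveI : CharP E p := (RingHom.charP_iff E.subtype Subtype.coe_injective p).mpr inferInstance
  obtain ⟨i, -, hi⟩ := FiniteField.card E p
  letI := Fintype.ofFinite (GaloisField p ((i : ℕ) * a))
  have hK : Fintype.card (GaloisField p ((i : ℕ) * a)) = Nat.card E ^ a := by
    rw [← Nat.card_eq_fintype_card, GaloisField.card p _ (Nat.mul_ne_zero i.ne_zero (by omega)),
      Nat.card_eq_fintype_card, hi, pow_mul]
  obtain ⟨ι⟩ := exists_ringHom (F := F) (K := GaloisField p ((i : ℕ) * a)) b hb
    (by rw [hK, ← pow_mul, h])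
  set N := Nat.card E ^ a with hN
  have hN2 : 2 ≤ N := by rw [← hK]; exact Fintype.one_lt_card
  have hmem : ∀ x : E, ∃ y, ι y = E.subtype x := by
    intro x
    by_contra hx
    push Not at hx
    let s : Finset F := insert (E.subtype x) (Finset.univ.image ι)
    have hs : s.card = N + 1 := by
      rw [Finset.card_insert_of_notMem (fun hh => by
        obtain ⟨y, -, hy⟩ := Finset.mem_image.mp hh
        exact hx y hy), Finset.card_image_of_injective _ ι.injective, Finset.card_univ, hK]
    have hroot : ∀ y ∈ s, y ^ N = y := by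
      intro y hy
      rcases Finset.mem_insert.mp hy with rfl | hy
      · rw [← map_pow, hN, Nat.card_eq_fintype_card, FiniteField.pow_card_pow]
      · obtain ⟨z, -, rfl⟩ := Finset.mem_image.mp hy
        rw [← map_pow, ← hK, FiniteField.pow_card]
    have hdeg := Polynomial.card_le_degree_of_subset_roots (Z := s)
      (p := (Polynomial.X ^ N - Polynomial.X : Polynomial F)) fun y hy => by
        rw [Polynomial.mem_roots (FiniteField.X_pow_card_sub_X_ne_zero F hN2)]
        simp [hroot y hy]
    rw [hs, FiniteField.X_pow_card_sub_X_natDegree_eq F hN2] at hdeg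
    omega
  choose f hf using hmem
  exact ⟨GaloisField p ((i : ℕ) * a), inferInstance, inferInstance, ι, hK,
    { toFun := f
      map_one' := ι.injective (by rw [hf, map_one, map_one])
      map_mul' := fun x y => ι.injective (by rw [hf, map_mul, map_mul, hf, hf])
      map_zero' := ι.injective (by rw [hf, map_zero, map_zero])
      map_add' := fun x y => ι.injective (by rw [hf, map_add, map_add, hf, hf]) },
    RingHom.ext hf⟩

theorem conjFrom_comp {E K : Type*} [Field E] [Field K] {ι : K →+* F} {j : E →+* K}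
    {S : Subgroup (PG E)} {M : Subgroup (PS F)} (h : ConjFrom (ι.comp j) S M) :
    ConjFrom ι (S.map (ProjGenLinGroup.map (n := Fin 2) j)) M := by
  obtain ⟨g, hg⟩ := h
  refine ⟨g, ?_⟩
  have e : ProjGenLinGroup.map (n := Fin 2) (ι.comp j) =
      (ProjGenLinGroup.map (n := Fin 2) ι).comp (ProjGenLinGroup.map (n := Fin 2) j) :=
    MonoidHom.ext fun x => pg_map_comp ι j x
  rw [hg, e, ← Subgroup.map_map]

end Fields

end CfsgLib.PSL2Sub
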