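import Cfsg.Agent.Lib.PSL2Sub.Existence

/-!
Two matrices with invariants `(tr X, det X, tr Y, det Y, tr XY)` in a subfield and without a
common eigenvector are simultaneously conjugate to a normal form over that subfield; consequently
the tetrahedral, octahedral and icosahedral subgroups of `PSL₂(q)` are conjugate into `PGL₂` of
small subfields.
-/

set_option autoImplicit false
set_option linter.unusedSectionVars false

namespace CfsgLib.PSL2Sub

open Matrix

section NormalForm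

variable {K F : Type*} [Field K] [Field F]

theorem exists_zero [Fintype K] (t₁ d₁ t₂ d₂ e : K) (hdisc : t₁ ^ 2 - 4 * d₁ ≠ 0) :
    ∃ c a : K, c ^ 2 + d₁ * a ^ 2 + t₁ * c * a + t₂ * c + e * a + d₂ = 0 := by
  set D := 4 * d₁ - t₁ ^ 2 with hD
  have hD0 : D ≠ 0 := fun h => hdisc (by linear_combination -h + hD)
  set r := (t₁ * e - 2 * d₁ * t₂) / D with hr
  set s := (t₁ * t₂ - 2 * e) / D with hs
  have h1 : 2 * r + t₁ * s + t₂ = 0 := by
    rw [hr, hs]; field_simp; rw [hD]; ring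
  have h2 : t₁ * r + 2 * d₁ * s + e = 0 := by
    rw [hr, hs]; field_simp; rw [hD]; ring
  obtain ⟨u, w, huw⟩ := CfsgLib.SL2Trace.exists_quad_eq (1 : K) t₁ d₁
    (-(r ^ 2 + d₁ * s ^ 2 + t₁ * r * s + t₂ * r + e * s + d₂)) (by simpa using hdisc)
  exact ⟨u + r, w + s, by linear_combination huw + u * h1 + w * h2⟩

theorem det_combination (X Y : Matrix (Fin 2) (Fin 2) F) (c a : F) :
    (c • (1 : Matrix (Fin 2) (Fin 2) F) + a • X + Y).det =
      c ^ 2 + X.det * a ^ 2 + X.trace * c * a + Y.trace * c +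
        (X.trace * Y.trace - (X * Y).trace) * a + Y.det := by
  simp [Matrix.det_fin_two, Matrix.trace_fin_two, Matrix.mul_apply, Fin.sum_univ_two]
  ring

theorem exists_root_of_eigen {A : Matrix (Fin 2) (Fin 2) F} {v : Fin 2 → F} {l : F} (hv : v ≠ 0)
    (h : A *ᵥ v = l • v) : l ^ 2 - A.trace * l + A.det = 0 := by
  have h0 : (A - l • 1).det = 0 := Matrix.exists_mulVec_eq_zero_iff.mp ⟨v, hv, by
    rw [sub_mulVec, smul_mulVec, one_mulVec, h, sub_self]⟩
  simp [Matrix.det_fin_two] at h0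
  rw [Matrix.trace_fin_two, Matrix.det_fin_two]
  linear_combination h0

/-- The normal form. -/
theorem exists_normal_form [Fintype K] (ι : K →+* F) (t₁ d₁ t₂ d₂ t₃ : K) (hd₁ : d₁ ≠ 0)
    (hd₂ : d₂ ≠ 0) (hdisc : t₁ ^ 2 - 4 * d₁ ≠ 0)
    (hΔ : t₁ ^ 2 * d₂ + t₂ ^ 2 * d₁ + t₃ ^ 2 - t₁ * t₂ * t₃ - 4 * d₁ * d₂ ≠ 0) :
    ∃ A B : GL (Fin 2) K, ∀ X Y : GL (Fin 2) F,
      (X : Matrix (Fin 2) (Fin 2) F).trace = ι t₁ → (X : Matrix (Fin 2) (Fin 2) F).det = ι d₁ →
      (Y : Matrix (Fin 2) (Fin 2) F).trace = ι t₂ → (Y : Matrix (Fin 2) (Fin 2) F).det = ι d₂ →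
      ((X : Matrix (Fin 2) (Fin 2) F) * (Y : Matrix (Fin 2) (Fin 2) F)).trace = ι t₃ →
      ∃ P : GL (Fin 2) F,
        X = P * GeneralLinearGroup.map ι A * P⁻¹ ∧ Y = P * GeneralLinearGroup.map ι B * P⁻¹ := by
  classical
  obtain ⟨c, a, hca⟩ := exists_zero t₁ d₁ t₂ d₂ (t₁ * t₂ - t₃) hdisc
  set MA : Matrix (Fin 2) (Fin 2) K := !![0, -d₁; 1, t₁] with hMA
  set MB : Matrix (Fin 2) (Fin 2) K :=
    !![-c, t₃ - t₁ * t₂ - a * d₁ - t₁ * c; -a, c + t₂] with hMB
  have hA : MA.det ≠ 0 := by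
    rw [hMA, Matrix.det_fin_two_of]; simpa using hd₁
  have hB : MB.det ≠ 0 := by
    have : MB.det = d₂ := by
      rw [hMB, Matrix.det_fin_two_of]; linear_combination -hca
    rw [this]; exact hd₂
  refine ⟨GeneralLinearGroup.mkOfDetNeZero MA hA, GeneralLinearGroup.mkOfDetNeZero MB hB,
    fun X Y ht₁ hd₁' ht₂ hd₂' ht₃ => ?_⟩
  set A := (X : Matrix (Fin 2) (Fin 2) F) with hXA
  set B := (Y : Matrix (Fin 2) (Fin 2) F) with hYB
  have hz : (ι c • (1 : Matrix (Fin 2) (Fin 2) F) + ι a • A + B).det = 0 := by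
    rw [det_combination, ht₁, hd₁', ht₂, hd₂', ht₃]
    have := congrArg ι hca
    simp only [map_add, map_mul, map_pow, map_sub, map_zero] at this
    linear_combination this
  obtain ⟨v, hv, hZ⟩ := Matrix.exists_mulVec_eq_zero_iff.mpr hz
  set w := A *ᵥ v with hw
  have hBv : B *ᵥ v = -(ι c • v) - ι a • w := by
    rw [add_mulVec, add_mulVec, smul_mulVec, smul_mulVec, one_mulVec, ← hw] at hZ
    linear_combination (norm := module) hZ
  let P₀ : Matrix (Fin 2) (Fin 2) F := !![v 0, w 0; v 1, w 1]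
  have hP : P₀.det ≠ 0 := by
    intro h0
    simp only [P₀, Matrix.det_fin_two_of] at h0
    obtain ⟨l, hl⟩ : ∃ l, w = l • v := by
      rcases eq_or_ne (v 0) 0 with h | h
      · have h1 : v 1 ≠ 0 := fun h' => hv (funext fun i => by fin_cases i <;> assumption)
        refine ⟨w 1 / v 1, funext fun i => ?_⟩
        fin_cases i
        · have : w 0 * v 1 = 0 := by linear_combination -h0 + w 1 * h
          simp [h, (mul_eq_zero.mp this).resolve_right h1]
        · simp [div_mul_cancel₀ _ h1]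
      · refine ⟨w 0 / v 0, funext fun i => ?_⟩
        fin_cases i
        · simp [div_mul_cancel₀ _ h]
        · simp only [Fin.mk_one, Pi.smul_apply, smul_eq_mul]
          field_simp
          linear_combination h0
    set μ := -ι c - ι a * l with hμ
    have hBμ : B *ᵥ v = μ • v := by
      rw [hBv, hl, smul_smul, hμ, sub_smul, neg_smul]
    have e1 := exists_root_of_eigen hv hl
    have e2 := exists_root_of_eigen hv hBμ
    have e3 := exists_root_of_eigen hv (show (A * B) *ᵥ v = (l * μ) • v by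
      rw [← mulVec_mulVec, hBμ, mulVec_smul, ← hw, hl, smul_smul, mul_comm])
    rw [ht₁, hd₁'] at e1
    rw [ht₂, hd₂'] at e2
    rw [ht₃, Matrix.det_mul, hd₁', hd₂'] at e3
    have hl0 : l ≠ 0 := fun h => hd₁ (ι.injective (by rw [map_zero]; rw [h] at e1; simpa using e1))
    have hμ0 : μ ≠ 0 := fun h => hd₂ (ι.injective (by rw [map_zero]; rw [h] at e2; simpa using e2))
    have h3 : ι t₃ = l * μ + (ι t₁ - l) * (ι t₂ - μ) := by
      refine mul_left_cancel₀ (mul_ne_zero hl0 hμ0) ?_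
      linear_combination -e3 + (ι t₂ * μ - μ ^ 2) * e1 + ι d₁ * e2
    have hd1 : ι d₁ = l * (ι t₁ - l) := by linear_combination e1
    have hd2 : ι d₂ = μ * (ι t₂ - μ) := by linear_combination e2
    apply hΔ
    apply ι.injective
    simp only [map_sub, map_add, map_mul, map_pow, map_zero, map_ofNat]
    rw [h3, hd1, hd2]
    ring
  let P : GL (Fin 2) F := GeneralLinearGroup.mkOfDetNeZero P₀ hP
  refine ⟨P, eq_mul_inv_iff_mul_eq.mpr (Units.ext ?_), eq_mul_inv_iff_mul_eq.mpr (Units.ext ?_)⟩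
  · show A * P₀ = P₀ * MA.map ι
    have hw0 := congrFun hw 0
    have hw1 := congrFun hw 1
    simp only [mulVec, dotProduct, Fin.sum_univ_two] at hw0 hw1
    rw [Matrix.trace_fin_two] at ht₁
    rw [Matrix.det_fin_two] at hd₁'
    ext i j
    fin_cases i <;> fin_cases j <;>
      simp [Matrix.mul_apply, Fin.sum_univ_two, P₀, hMA, hw0, hw1, ← ht₁, ← hd₁'] <;> ring
  · show B * P₀ = P₀ * MB.map ι
    have hw0 := congrFun hw 0
    have hw1 := congrFun hw 1
    have hB0 := congrFun hBv 0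
    have hB1 := congrFun hBv 1
    simp only [mulVec, dotProduct, Fin.sum_univ_two, Pi.sub_apply, Pi.neg_apply, Pi.smul_apply,
      smul_eq_mul] at hw0 hw1 hB0 hB1
    rw [Matrix.trace_fin_two] at ht₁ ht₂
    rw [Matrix.det_fin_two] at hd₁'
    rw [Matrix.trace_fin_two] at ht₃
    simp only [Matrix.mul_apply, Fin.sum_univ_two] at ht₃
    ext i j
    fin_cases i <;> fin_cases j <;>
      simp [Matrix.mul_apply, Fin.sum_univ_two, P₀, hMB, ← ht₁, ← ht₂, ← hd₁', ← ht₃]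
    · linear_combination hB0
    · rw [hw0, hw1] at *
      linear_combination (A 0 0 + A 1 1) * hB0 - A 0 0 * hB0 - A 0 1 * hB1
    · linear_combination hB1
    · rw [hw0, hw1] at *
      linear_combination (A 0 0 + A 1 1) * hB1 - A 1 0 * hB0 - A 1 1 * hB1

end NormalForm

section Traces

variable {F : Type*} [Field F]

local notation "π₂" => CfsgLib.SL2Trace.toPSL

theorem coeff_zero_of_central {s : SpecialLinearGroup (Fin 2) F}
    (hs : s ∉ Subgroup.center (SpecialLinearGroup (Fin 2) F)) {a b r : F}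
    (h : a • (s : Matrix (Fin 2) (Fin 2) F) - b • 1 = Matrix.scalar (Fin 2) r) : a = 0 := by
  by_contra ha
  refine hs (CfsgLib.SL2Trace.mem_center_of_scalar ((r + b) / a) ?_)
  ext i j
  have := congrFun (congrFun h i) j
  rcases eq_or_ne i j with rfl | hij
  · simp [Matrix.scalar] at this ⊢
    field_simp
    linear_combination this
  · simp [Matrix.scalar, hij] at this ⊢
    exact this.resolve_left ha

/-- Polynomial conditions on the trace from relations in `PSL₂`. -/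
theorem trace_of_pow (s : SpecialLinearGroup (Fin 2) F) (hne : π₂ s ≠ 1) :
    (π₂ s ^ 2 = 1 → (s : Matrix (Fin 2) (Fin 2) F).trace = 0) ∧
    (π₂ s ^ 3 = 1 → (s : Matrix (Fin 2) (Fin 2) F).trace ^ 2 = 1) ∧
    (π₂ s ^ 4 = 1 → π₂ s ^ 2 ≠ 1 → (s : Matrix (Fin 2) (Fin 2) F).trace ^ 2 = 2) ∧
    (π₂ s ^ 5 = 1 →
      ((s : Matrix (Fin 2) (Fin 2) F).trace ^ 2 + (s : Matrix (Fin 2) (Fin 2) F).trace - 1) *
      ((s : Matrix (Fin 2) (Fin 2) F).trace ^ 2 - (s : Matrix (Fin 2) (Fin 2) F).trace - 1) = 0) := by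
  set t := (s : Matrix (Fin 2) (Fin 2) F).trace with ht
  set A := (s : Matrix (Fin 2) (Fin 2) F) with hA
  have hs : s ∉ Subgroup.center (SpecialLinearGroup (Fin 2) F) := fun h =>
    hne ((QuotientGroup.eq_one_iff s).mpr h)
  have h2 : A * A = t • A - (1 : Matrix (Fin 2) (Fin 2) F) := CfsgLib.SL2Trace.mul_self_eq s
  have step : ∀ a b : F, (a • A - b • (1 : Matrix (Fin 2) (Fin 2) F)) * A =
      (a * t - b) • A - a • (1 : Matrix (Fin 2) (Fin 2) F) := fun a b => by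
    rw [sub_mul, smul_mul_assoc, smul_mul_assoc, h2, one_mul, smul_sub, smul_smul, sub_smul]
    abel
  have p2 : A ^ 2 = t • A - (1 : F) • (1 : Matrix (Fin 2) (Fin 2) F) := by
    rw [pow_two, h2, one_smul]
  have p3 : A ^ 3 = (t ^ 2 - 1) • A - t • (1 : Matrix (Fin 2) (Fin 2) F) := by
    rw [pow_succ, p2, step, pow_two]
  have p4 : A ^ 4 = (t ^ 3 - 2 * t) • A - (t ^ 2 - 1) • (1 : Matrix (Fin 2) (Fin 2) F) := by
    rw [pow_succ, p3, step, show (t ^ 2 - 1) * t - t = t ^ 3 - 2 * t by ring]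
  have p5 : A ^ 5 = (t ^ 4 - 3 * t ^ 2 + 1) • A - (t ^ 3 - 2 * t) • (1 : Matrix (Fin 2) (Fin 2) F) := by
    rw [pow_succ, p4, step, show (t ^ 3 - 2 * t) * t - (t ^ 2 - 1) = t ^ 4 - 3 * t ^ 2 + 1 by ring]
  have hcen : ∀ n, π₂ s ^ n = 1 → ∃ r : F, A ^ n = Matrix.scalar (Fin 2) r := fun n h => by
    rw [CfsgLib.SL2Trace.toPSL, ← QuotientGroup.mk_pow, QuotientGroup.eq_one_iff] at h
    obtain ⟨r, -, hr⟩ := Matrix.SpecialLinearGroup.mem_center_iff.mp h
    exact ⟨r, (hr.trans (Matrix.SpecialLinearGroup.coe_pow s n)).symm⟩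
  refine ⟨fun h => ?_, fun h => ?_, fun h h' => ?_, fun h => ?_⟩
  · obtain ⟨r, hr⟩ := hcen 2 h
    exact coeff_zero_of_central hs (p2.symm.trans hr)
  · obtain ⟨r, hr⟩ := hcen 3 h
    exact sub_eq_zero.mp (coeff_zero_of_central hs (p3.symm.trans hr))
  · obtain ⟨r, hr⟩ := hcen 4 h
    have h0 : t * (t ^ 2 - 2) = 0 := by
      linear_combination coeff_zero_of_central hs (p4.symm.trans hr)
    rcases mul_eq_zero.mp h0 with h0 | h0
    · refine absurd ?_ h'
      rw [CfsgLib.SL2Trace.toPSL, ← QuotientGroup.mk_pow, QuotientGroup.eq_one_iff]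
      exact (trace_powers s).2.2.2 h0
    · exact sub_eq_zero.mp h0
  · obtain ⟨r, hr⟩ := hcen 5 h
    linear_combination coeff_zero_of_central hs (p5.symm.trans hr)

/-- A lift of `x` to `GL₂`, rescaled by `c`. -/
theorem exists_lift (x : PS F) : ∃ s : SpecialLinearGroup (Fin 2) F, π₂ s = x ∧
    ∀ c : F, c ≠ 0 → ∃ X : GL (Fin 2) F, ProjGenLinGroup.mk X = toPG x ∧
      (X : Matrix (Fin 2) (Fin 2) F) = c • (s : Matrix (Fin 2) (Fin 2) F) ∧
      (X : Matrix (Fin 2) (Fin 2) F).trace = c * (s : Matrix (Fin 2) (Fin 2) F).trace ∧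
      (X : Matrix (Fin 2) (Fin 2) F).det = c ^ 2 := by
  obtain ⟨s, rfl⟩ := QuotientGroup.mk_surjective x
  refine ⟨s, rfl, fun c hc => ⟨GeneralLinearGroup.scalar (Fin 2) (Units.mk0 c hc) *
    SpecialLinearGroup.toGL s, ?_, ?_⟩⟩
  · rw [map_mul, show (ProjGenLinGroup.mk (GeneralLinearGroup.scalar (Fin 2) (Units.mk0 c hc)) :
      PG F) = 1 from ProjGenLinGroup.mk_eq_one.mpr
      (by rw [GeneralLinearGroup.center_eq_range_scalar]; exact ⟨_, rfl⟩), one_mul]
    rfl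
  · have hval : ((GeneralLinearGroup.scalar (Fin 2) (Units.mk0 c hc) * SpecialLinearGroup.toGL s :
        GL (Fin 2) F) : Matrix (Fin 2) (Fin 2) F) = c • (s : Matrix (Fin 2) (Fin 2) F) := by
      rw [Units.val_mul, GeneralLinearGroup.coe_scalar, Units.val_mk0, Matrix.scalar_apply,
        ← Matrix.smul_eq_diagonal_mul]
      rfl
    refine ⟨hval, ?_, ?_⟩
    · rw [hval, Matrix.trace_smul, smul_eq_mul]
    · rw [hval, Matrix.det_smul, Fintype.card_fin, s.2, mul_one]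

end Traces

section Models

variable {F : Type*} [Field F] [Fintype F] {K : Type*} [Field K] [Fintype K] (ι : K →+* F)

/-- `M` is conjugate in `PGL₂(q)` to the image of the subgroup `S` over the subfield. -/
def ConjFrom (S : Subgroup (PG K)) (M : Subgroup (PS F)) : Prop :=
  ∃ g : PG F, M.map toPG =
    (S.map (ProjGenLinGroup.map (n := Fin 2) ι)).map (MulAut.conj g).toMonoidHom

theorem conjFrom_closure {A B : GL (Fin 2) K} {X Y P : GL (Fin 2) F} {x y : PS F}
    (hx : ProjGenLinGroup.mk X = toPG x) (hy : ProjGenLinGroup.mk Y = toPG y)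
    (hX : X = P * GeneralLinearGroup.map ι A * P⁻¹) (hY : Y = P * GeneralLinearGroup.map ι B * P⁻¹) :
    ConjFrom ι (Subgroup.closure {ProjGenLinGroup.mk A, ProjGenLinGroup.mk B})
      (Subgroup.closure {x, y}) := by
  refine ⟨ProjGenLinGroup.mk P, ?_⟩
  rw [MonoidHom.map_closure, MonoidHom.map_closure, MonoidHom.map_closure, Set.image_pair,
    Set.image_pair, Set.image_pair, ← hx, ← hy, hX, hY]
  simp [ProjGenLinGroup.map_mk, MulAut.conj_apply]

theorem image_gen {G : Type*} [Group G] {M : Subgroup (PS F)} (e : M ≃* G) {a b : G}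
    (hgen : Subgroup.closure {a, b} = ⊤) :
    Subgroup.closure {(e.symm a : PS F), (e.symm b : PS F)} = M := by
  have h := MonoidHom.map_closure (M.subtype.comp e.symm.toMonoidHom) {a, b}
  rw [hgen, Set.image_pair, ← Subgroup.map_map, Subgroup.map_top_of_surjective e.symm.toMonoidHom
    e.symm.surjective, ← MonoidHom.range_eq_map, Subgroup.range_subtype] at h
  exact h.symm

theorem alt_four_gen : ∃ a b : alternatingGroup (Fin 4), a ^ 3 = 1 ∧ b ^ 3 = 1 ∧
    (a * b) ^ 2 = 1 ∧ a ≠ 1 ∧ b ≠ 1 ∧ a * b ≠ 1 ∧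
    ∀ g, ∃ i j l : Fin 3, g = a ^ (i : ℕ) * b ^ (j : ℕ) * a ^ (l : ℕ) := by
  decide +kernel

theorem sym_four_gen : ∃ a b : Equiv.Perm (Fin 4), a ^ 3 = 1 ∧ b ^ 4 = 1 ∧ (a * b) ^ 2 = 1 ∧
    a ≠ 1 ∧ b ^ 2 ≠ 1 ∧ a * b ≠ 1 ∧
    ∀ g, ∃ (i k : Fin 3) (j l : Fin 4),
      g = a ^ (i : ℕ) * b ^ (j : ℕ) * a ^ (k : ℕ) * b ^ (l : ℕ) := by
  decide +kernel

theorem symm_facts {G : Type*} [Group G] {M : Subgroup (PS F)} (e : M ≃* G) :
    (∀ (a : G) (n : ℕ), a ^ n = 1 → (e.symm a : PS F) ^ n = 1) ∧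
    (∀ (a : G) (n : ℕ), a ^ n ≠ 1 → (e.symm a : PS F) ^ n ≠ 1) ∧
    (∀ a : G, a ≠ 1 → (e.symm a : PS F) ≠ 1) := by
  refine ⟨fun a n h => ?_, fun a n h h' => h ?_, fun a h h' => h ?_⟩
  · rw [← Subgroup.coe_pow, ← map_pow, h, map_one, Subgroup.coe_one]
  · have : e.symm (a ^ n) = 1 := Subtype.ext (by rw [map_pow, Subgroup.coe_pow, h', Subgroup.coe_one])
    simpa using congrArg e this
  · have : e.symm a = 1 := Subtype.ext (by rw [h', Subgroup.coe_one])
    simpa using congrArg e this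

theorem mul_trace_zero {x y : PS F} {s s' : SpecialLinearGroup (Fin 2) F}
    (hs : CfsgLib.SL2Trace.toPSL s = x) (hs' : CfsgLib.SL2Trace.toPSL s' = y) (h : (x * y) ^ 2 = 1)
    (hne : x * y ≠ 1) :
    ((s : Matrix (Fin 2) (Fin 2) F) * (s' : Matrix (Fin 2) (Fin 2) F)).trace = 0 := by
  have e : CfsgLib.SL2Trace.toPSL (s * s') = x * y := by rw [← hs, ← hs']; rfl
  have := (trace_of_pow (s * s') (by rwa [e])).1 (by rwa [e])
  rwa [Matrix.SpecialLinearGroup.coe_mul] at this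

theorem inv_self_of_sq {c : F} (h : c ^ 2 = 1) : c ≠ 0 ∧ c * c = 1 :=
  ⟨fun h0 => by rw [h0] at h; norm_num at h, by rw [← pow_two, h]⟩

/-- All tetrahedral subgroups come from one model over any subfield. -/
theorem alt_four_model (h2 : (2 : K) ≠ 0) (h3 : (3 : K) ≠ 0) :
    ∃ S : Subgroup (PG K), ∀ M : Subgroup (PS F), Nonempty (M ≃* alternatingGroup (Fin 4)) →
      ConjFrom ι S M := by
  obtain ⟨A, B, hAB⟩ := exists_normal_form ι (1 : K) 1 1 1 0 one_ne_zero one_ne_zero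
    (fun h => h3 (by linear_combination -h)) (fun h => h2 (by linear_combination -h))
  refine ⟨Subgroup.closure {ProjGenLinGroup.mk A, ProjGenLinGroup.mk B}, ?_⟩
  rintro M ⟨e⟩
  obtain ⟨a, b, ha, hb, hab, ha1, hb1, hab1, hw⟩ := alt_four_gen
  obtain ⟨hp, hn, hn1⟩ := symm_facts e
  have hgen : Subgroup.closure {a, b} = ⊤ := by
    rw [eq_top_iff]
    intro g _
    obtain ⟨i, j, l, rfl⟩ := hw g
    exact mul_mem (mul_mem (pow_mem (Subgroup.subset_closure (by simp)) _)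
      (pow_mem (Subgroup.subset_closure (by simp)) _)) (pow_mem (Subgroup.subset_closure (by simp)) _)
  rw [← image_gen e hgen]
  set x : PS F := (e.symm a : PS F) with hx
  set y : PS F := (e.symm b : PS F) with hy
  have hxy : x * y = (e.symm (a * b) : PS F) := by rw [map_mul]; rfl
  obtain ⟨s, hs, hsX⟩ := exists_lift x
  obtain ⟨s', hs', hsY⟩ := exists_lift y
  have ts := (trace_of_pow s (by rw [hs]; exact hn1 a ha1)).2.1
    (by rw [hs]; exact hp a 3 ha)
  have ts' := (trace_of_pow s' (by rw [hs']; exact hn1 b hb1)).2.1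
    (by rw [hs']; exact hp b 3 hb)
  have t3 := mul_trace_zero hs hs' (by rw [hxy]; exact hp _ 2 hab)
    (by rw [hxy]; exact hn1 _ hab1)
  obtain ⟨hc, hcc⟩ := inv_self_of_sq ts
  obtain ⟨hc', hcc'⟩ := inv_self_of_sq ts'
  obtain ⟨X, hX, hXv, hXt, hXd⟩ := hsX _ hc
  obtain ⟨Y, hY, hYv, hYt, hYd⟩ := hsY _ hc'
  obtain ⟨P, h1, h2'⟩ := hAB X Y (by rw [hXt, hcc, map_one]) (by rw [hXd, ts, map_one])
    (by rw [hYt, hcc', map_one]) (by rw [hYd, ts', map_one])
    (by rw [hXv, hYv, smul_mul_smul_comm, Matrix.trace_smul, t3, smul_zero, map_zero])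
  exact conjFrom_closure ι hX hY h1 h2'

/-- All octahedral subgroups come from one model over any subfield. -/
theorem sym_four_model (h2 : (2 : K) ≠ 0) :
    ∃ S : Subgroup (PG K), ∀ M : Subgroup (PS F), Nonempty (M ≃* Equiv.Perm (Fin 4)) →
      ConjFrom ι S M := by
  obtain ⟨A, B, hAB⟩ := exists_normal_form ι (2 : K) 2 1 1 0 h2 one_ne_zero
    (fun h => mul_ne_zero h2 h2 (by linear_combination -h))
    (fun h => h2 (by linear_combination -h))
  refine ⟨Subgroup.closure {ProjGenLinGroup.mk A, ProjGenLinGroup.mk B}, ?_⟩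
  rintro M ⟨e⟩
  obtain ⟨a, b, ha, hb, hab, ha1, hb1, hab1, hw⟩ := sym_four_gen
  obtain ⟨hp, hn, hn1⟩ := symm_facts e
  have hgen : Subgroup.closure {b, a} = ⊤ := by
    rw [eq_top_iff]
    intro g _
    obtain ⟨i, k, j, l, rfl⟩ := hw g
    exact mul_mem (mul_mem (mul_mem (pow_mem (Subgroup.subset_closure (by simp)) _)
      (pow_mem (Subgroup.subset_closure (by simp)) _)) (pow_mem (Subgroup.subset_closure (by simp)) _))
      (pow_mem (Subgroup.subset_closure (by simp)) _)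
  rw [← image_gen e hgen]
  set x : PS F := (e.symm a : PS F) with hx
  set y : PS F := (e.symm b : PS F) with hy
  have hxy : x * y = (e.symm (a * b) : PS F) := by rw [map_mul]; rfl
  obtain ⟨s, hs, hsX⟩ := exists_lift x
  obtain ⟨s', hs', hsY⟩ := exists_lift y
  have ts := (trace_of_pow s (by rw [hs]; exact hn1 a ha1)).2.1
    (by rw [hs]; exact hp a 3 ha)
  have hy1 : y ≠ 1 := fun h => hn b 2 hb1 (by rw [← hy, h, one_pow])
  have ts' := (trace_of_pow s' (by rwa [hs'])).2.2.1 (by rw [hs']; exact hp b 4 hb)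
    (by rw [hs']; exact hn b 2 hb1)
  have t3 := mul_trace_zero hs hs' (by rw [hxy]; exact hp _ 2 hab)
    (by rw [hxy]; exact hn1 _ hab1)
  have h2F : (2 : F) ≠ 0 := by
    rw [← map_ofNat ι 2]; exact (map_ne_zero ι).mpr h2
  obtain ⟨hc, hcc⟩ := inv_self_of_sq ts
  have hc' : (s' : Matrix (Fin 2) (Fin 2) F).trace ≠ 0 := fun h => h2F (by rw [← ts', h]; ring)
  obtain ⟨X, hX, hXv, hXt, hXd⟩ := hsX _ hc
  obtain ⟨Y, hY, hYv, hYt, hYd⟩ := hsY _ hc'
  obtain ⟨P, h1, h2'⟩ := hAB Y X (by rw [hYt, ← pow_two, ts', map_ofNat])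
    (by rw [hYd, ts', map_ofNat]) (by rw [hXt, hcc, map_one]) (by rw [hXd, ts, map_one])
    (by rw [Matrix.trace_mul_comm, hXv, hYv, smul_mul_smul_comm, Matrix.trace_smul, t3, smul_zero,
      map_zero])
  exact conjFrom_closure ι hY hX h1 h2'

/-- Icosahedral subgroups come from models over the field of `τ` with `τ² + τ = 1`. -/
theorem alt_five_model (h5 : (5 : F) ≠ 0) (M : Subgroup (PS F))
    (e : M ≃* alternatingGroup (Fin 5)) :
    ∃ τ : F, τ ^ 2 + τ = 1 ∧ ∀ τ₀ : K, ι τ₀ = τ → ∃ S : Subgroup (PG K), ConjFrom ι S M := by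
  obtain ⟨a, b, ha, hb, hab, hgen⟩ := CfsgLib.Present.ico_pair
  obtain ⟨hp, hn, hn1⟩ := symm_facts e
  have ha3 : a ^ 3 = 1 := orderOf_dvd_iff_pow_eq_one.mp (dvd_of_eq ha)
  have hb5 : b ^ 5 = 1 := orderOf_dvd_iff_pow_eq_one.mp (dvd_of_eq hb)
  have hab2 : (a * b) ^ 2 = 1 := orderOf_dvd_iff_pow_eq_one.mp (dvd_of_eq hab)
  have ha1 : a ≠ 1 := fun h => by rw [h, orderOf_one] at ha; omega
  have hb1 : b ≠ 1 := fun h => by rw [h, orderOf_one] at hb; omega
  have hab1 : a * b ≠ 1 := fun h => by rw [h, orderOf_one] at hab; omega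
  have hgen' : Subgroup.closure {b, a} = ⊤ := by rwa [Set.pair_comm]
  rw [← image_gen e hgen']
  set x : PS F := (e.symm a : PS F) with hx
  set y : PS F := (e.symm b : PS F) with hy
  have hxy : x * y = (e.symm (a * b) : PS F) := by rw [map_mul]; rfl
  obtain ⟨s, hs, hsX⟩ := exists_lift x
  obtain ⟨s', hs', hsY⟩ := exists_lift y
  have ts := (trace_of_pow s (by rw [hs]; exact hn1 a ha1)).2.1
    (by rw [hs]; exact hp a 3 ha3)
  have ts' := (trace_of_pow s' (by rw [hs']; exact hn1 b hb1)).2.2.2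
    (by rw [hs']; exact hp b 5 hb5)
  have t3 := mul_trace_zero hs hs' (by rw [hxy]; exact hp _ 2 hab2)
    (by rw [hxy]; exact hn1 _ hab1)
  obtain ⟨hc, hcc⟩ := inv_self_of_sq ts
  obtain ⟨c', hc', hroot⟩ : ∃ c : F, c ^ 2 = 1 ∧
      (c * (s' : Matrix (Fin 2) (Fin 2) F).trace) ^ 2 + c * (s' : Matrix (Fin 2) (Fin 2) F).trace
        = 1 := by
    rcases mul_eq_zero.mp ts' with h | h
    · exact ⟨1, one_pow 2, by linear_combination h⟩
    · exact ⟨-1, by ring, by linear_combination h⟩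
  refine ⟨_, hroot, fun τ₀ hτ₀ => ?_⟩
  have hτ : τ₀ ^ 2 + τ₀ = 1 := ι.injective (by rw [map_add, map_pow, hτ₀, hroot, map_one])
  have h5K : (5 : K) ≠ 0 := fun h => h5 (by rw [← map_ofNat ι 5, h, map_zero])
  obtain ⟨A, B, hAB⟩ := exists_normal_form ι τ₀ 1 1 1 0 one_ne_zero one_ne_zero
    (fun h => h5K (by linear_combination h + (τ₀ - 3) * (h - hτ)))
    (fun h => h5K (by linear_combination 5 * h + 5 * (τ₀ - 2) * (h - hτ)))
  obtain ⟨X, hX, hXv, hXt, hXd⟩ := hsX _ hc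
  obtain ⟨Y, hY, hYv, hYt, hYd⟩ := hsY c' (inv_self_of_sq hc').1
  obtain ⟨P, h1, h2'⟩ := hAB Y X (by rw [hYt, hτ₀])
    (by rw [hYd, hc', map_one]) (by rw [hXt, hcc, map_one]) (by rw [hXd, ts, map_one])
    (by rw [Matrix.trace_mul_comm, hXv, hYv, smul_mul_smul_comm, Matrix.trace_smul, t3, smul_zero,
      map_zero])
  exact ⟨_, conjFrom_closure ι hY hX h1 h2'⟩

end Models

end CfsgLib.PSL2Sub
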