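import Cfsg.Agent.Lib.PSL2Sub.Finite
import Cfsg.Agent.Lib.Linear.Card
import Cfsg.Agent.Lib.Linear.Transvection

/-!
The field case of Dickson's theorem: a finite subgroup of `PGL₂` whose `s + 1` subgroups of order
`s` (a power of the characteristic) are permuted transitively is `PGL₂` or `PSL₂` of a subfield
of order `s`, up to conjugation.
-/

set_option autoImplicit false
set_option linter.unusedSectionVars false

namespace CfsgLib.PSL2Sub

open Matrix OnePoint

section Swap

variable {K : Type*} [Field K] [DecidableEq K]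

/-- The inversion `x ↦ 1/x`. -/
def invol : PG K := ProjGenLinGroup.mk (mkMat 0 1 1 0 (by simp))

theorem invol_infty : (invol : PG K) • (∞ : OnePoint K) = ((0 : K) : OnePoint K) := by
  simp [invol, mk_smul_onePoint, smul_infty_eq_ite, coe_mkMat]

theorem invol_zero : (invol : PG K) • ((0 : K) : OnePoint K) = ∞ := by
  simp [invol, mk_smul_onePoint, smul_some_eq_ite, coe_mkMat]

theorem invol_one : (invol : PG K) • ((1 : K) : OnePoint K) = ((1 : K) : OnePoint K) := by
  simp [invol, mk_smul_onePoint, smul_some_eq_ite, coe_mkMat]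

theorem invol_mul_self : (invol : PG K) * invol = 1 := by
  refine eq_of_eq_on_three (x := ∞) (OnePoint.infty_ne_coe (0 : K)) (OnePoint.infty_ne_coe (1 : K))
    zero_ne_one_onePoint ?_ ?_ ?_ <;>
    simp [mul_smul, invol_infty, invol_zero, invol_one]

theorem invol_inv : (invol : PG K)⁻¹ = invol := inv_eq_of_mul_eq_one_right invol_mul_self

/-- An element fixing only `0` is a lower translation. -/
theorem lower_eq (g : SpecialLinearGroup (Fin 2) K) (c : K)
    (hg : (g : Matrix (Fin 2) (Fin 2) K) = !![1, 0; c, 1]) :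
    ProjGenLinGroup.mk (SpecialLinearGroup.toGL g) = invol * aff 1 c * invol := by
  show ProjGenLinGroup.mk _ = ProjGenLinGroup.mk _ * ProjGenLinGroup.mk _ * ProjGenLinGroup.mk _
  rw [← map_mul, ← map_mul]
  congr 1
  apply Units.ext
  rw [Units.val_mul, Units.val_mul, coe_mkMat, coe_mkMat]
  show (g : Matrix (Fin 2) (Fin 2) K) = _
  rw [hg]
  ext i j
  fin_cases i <;> fin_cases j <;> simp [Matrix.mul_apply, Fin.sum_univ_two]

theorem upper_eq (g : SpecialLinearGroup (Fin 2) K) (c : K)
    (hg : (g : Matrix (Fin 2) (Fin 2) K) = !![1, c; 0, 1]) :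
    ProjGenLinGroup.mk (SpecialLinearGroup.toGL g) = aff 1 c := by
  show ProjGenLinGroup.mk _ = ProjGenLinGroup.mk _
  congr 1
  apply Units.ext
  show (g : Matrix (Fin 2) (Fin 2) K) = _
  rw [hg, coe_mkMat, Units.val_one]

/-- A subgroup of `PGL₂` containing the translations and the lower translations contains `PSL₂`. -/
theorem range_toPGL_le (S : Subgroup (PG K)) (hu : ∀ b : K, aff 1 b ∈ S)
    (hl : ∀ b : K, invol * aff 1 b * invol ∈ S) :
    (SpecialLinearGroup.toPGL : SpecialLinearGroup (Fin 2) K →* PG K).range ≤ S := by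
  rintro _ ⟨g, rfl⟩
  refine Linear.SL_transvection_induction (fun g => SpecialLinearGroup.toPGL g ∈ S) ?_ ?_ ?_ g
  · rw [map_one]
    exact S.one_mem
  · intro i j hij c
    show ProjGenLinGroup.mk (SpecialLinearGroup.toGL _) ∈ S
    fin_cases i <;> fin_cases j <;> first | exact absurd rfl hij | skip
    · rw [upper_eq _ c (by ext i j; fin_cases i <;> fin_cases j <;> simp [SpecialLinearGroup.transvection_coe, Matrix.one_apply, Matrix.single_apply])]
      exact hu c
    · rw [lower_eq _ c (by ext i j; fin_cases i <;> fin_cases j <;> simp [SpecialLinearGroup.transvection_coe, Matrix.one_apply, Matrix.single_apply])]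
      exact hl c
  · intro a b ha hb
    rw [map_mul]
    exact S.mul_mem ha hb

end Swap

variable {k : Type*} [Field k] [DecidableEq k] (p : ℕ) [hp : Fact p.Prime] [CharP k p]
  [IsAlgClosed k]

theorem natCard_range {G G' : Type*} [Group G] [Group G'] {f : G →* G'}
    (hf : Function.Injective f) : Nat.card f.range = Nat.card G :=
  (Nat.card_congr (MonoidHom.ofInjective hf).toEquiv).symm

/-- The core of the field case, with `0, 1, ∞` in the orbit. -/
theorem field_case_normalized (H : Subgroup (PG k)) [Finite H] {s t : ℕ}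
    (hs : Nat.card (unip p H (∞ : OnePoint k)) = s) (hs2 : 2 ≤ s)
    (ht : Nat.card (stab H (∞ : OnePoint k)) = s * t) (hts : t = s - 1 ∨ 2 * t = s - 1)
    (horb : Nat.card (MulAction.orbit H (∞ : OnePoint k)) = s + 1)
    (h0 : ((0 : k) : OnePoint k) ∈ MulAction.orbit H (∞ : OnePoint k))
    (h1 : ((1 : k) : OnePoint k) ∈ MulAction.orbit H (∞ : OnePoint k)) :
    ∃ E : Subfield k, Finite E ∧ Nat.card E = s ∧
      MulAction.orbit H (∞ : OnePoint k) = Set.range (OnePoint.map E.subtype) ∧
      ((H = (ProjGenLinGroup.map (n := Fin 2) E.subtype).range ∧ t = s - 1) ∨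
        (H = ((ProjGenLinGroup.map (n := Fin 2) E.subtype).comp
          (SpecialLinearGroup.toPGL : SpecialLinearGroup (Fin 2) E →* PG E)).range ∧
          2 * t = s - 1)) := by
  classical
  -- the translations in `H`
  let M : AddSubgroup k :=
    { carrier := {b | aff 1 b ∈ H}
      zero_mem' := by show aff 1 (0 : k) ∈ H; rw [aff_one_zero]; exact H.one_mem
      add_mem' := fun {a b} ha hb => by
        have := H.mul_mem ha hb
        rw [aff_mul, one_mul, Units.val_one, one_mul, add_comm] at this
        exact this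
      neg_mem' := fun {a} ha => by
        have e : (aff 1 a : PG k)⁻¹ = aff 1 (-a) := by
          refine inv_eq_of_mul_eq_one_right ?_
          rw [aff_mul, Units.val_one, one_mul, one_mul, neg_add_cancel, aff_one_zero]
        show aff 1 (-a) ∈ H
        rw [← e]
        exact H.inv_mem ha }
  obtain ⟨μ, hμ⟩ := exists_multiplier (1 : PG k)
  have hunip : ∀ h : H, h ∈ unip p H (∞ : OnePoint k) → ∃ b ∈ M, (h : PG k) = aff 1 b := by
    rintro h ⟨hh1, hh2⟩
    obtain ⟨b, hb⟩ := hμ ⟨(h : PG k), by rw [one_smul]; exact hh1⟩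
    rw [(multiplier_eq_one_iff p hμ _).mpr hh2, inv_one, one_mul, mul_one] at hb
    exact ⟨b, by show aff 1 b ∈ H; rw [← hb]; exact h.2, hb⟩
  let eM : M ≃ unip p H (∞ : OnePoint k) := Equiv.ofBijective
    (fun b => ⟨⟨aff 1 b.1, b.2⟩, aff_smul_infty _ _, translation_pow_char p _⟩) (by
      refine ⟨fun a b hab => Subtype.ext (aff_injective
        (congrArg (fun z : unip p H (∞ : OnePoint k) => ((z : H) : PG k)) hab)).2, fun h => ?_⟩
      obtain ⟨b, hb, e⟩ := hunip h.1 h.2
      exact ⟨⟨b, hb⟩, Subtype.ext (Subtype.ext e.symm)⟩)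
  haveI : Finite M := Finite.of_equiv _ eM.symm
  have hMcard : Nat.card M = s := (Nat.card_congr eM).trans hs
  -- the orbit is `M ∪ {∞}`
  haveI : Finite (MulAction.orbit H (∞ : OnePoint k)) :=
    Nat.finite_of_card_ne_zero (by rw [horb]; omega)
  have hincl : ∀ b ∈ M, ((b : k) : OnePoint k) ∈ MulAction.orbit H (∞ : OnePoint k) := by
    intro b hb
    obtain ⟨c, hc⟩ := h0
    refine ⟨⟨aff 1 b, hb⟩ * c, ?_⟩
    show (⟨aff 1 b, hb⟩ * c : H) • (∞ : OnePoint k) = (b : OnePoint k)
    rw [mul_smul, show c • (∞ : OnePoint k) = ((0 : k) : OnePoint k) from hc]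
    show aff 1 b • ((0 : k) : OnePoint k) = _
    rw [aff_smul_coe, mul_zero, zero_add]
  have horbit : ∀ x : OnePoint k, x ∈ MulAction.orbit H (∞ : OnePoint k) ↔
      x = ∞ ∨ ∃ b ∈ M, x = (b : OnePoint k) := by
    have hf : Function.Bijective (fun o : Option M => (match o with
        | none => ⟨∞, MulAction.mem_orbit_self _⟩
        | Option.some b => ⟨((b : k) : OnePoint k), hincl b.1 b.2⟩ :
          MulAction.orbit H (∞ : OnePoint k))) := by
      rw [Nat.bijective_iff_injective_and_card, Finite.card_option, hMcard, horb]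
      refine ⟨?_, rfl⟩
      rintro (_ | a) (_ | b) hab
      · rfl
      · exact absurd (congrArg Subtype.val hab).symm (OnePoint.coe_ne_infty _)
      · exact absurd (congrArg Subtype.val hab) (OnePoint.coe_ne_infty _)
      · exact congrArg Option.some (Subtype.ext (OnePoint.coe_eq_coe.mp (congrArg Subtype.val hab)))
    intro x
    constructor
    · intro hx
      obtain ⟨o, ho⟩ := hf.2 ⟨x, hx⟩
      rcases o with _ | b
      · exact Or.inl (congrArg Subtype.val ho).symm
      · exact Or.inr ⟨b.1, b.2, (congrArg Subtype.val ho).symm⟩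
    · rintro (rfl | ⟨b, hb, rfl⟩)
      · exact MulAction.mem_orbit_self _
      · exact hincl b hb
  have h1M : (1 : k) ∈ M := by
    rcases (horbit _).mp h1 with h | ⟨b, hb, h⟩
    · exact absurd h (OnePoint.coe_ne_infty _)
    · rwa [OnePoint.coe_eq_coe.mp h]
  -- the multiplier ring of `M` is a field
  let E : Subfield k :=
    { carrier := {a | ∀ b ∈ M, a * b ∈ M}
      zero_mem' := fun b _ => by simp [M.zero_mem]
      one_mem' := fun b hb => by rwa [one_mul]
      add_mem' := fun {a a'} ha ha' b hb => by rw [add_mul]; exact M.add_mem (ha b hb) (ha' b hb)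
      neg_mem' := fun {a} ha b hb => by rw [neg_mul]; exact M.neg_mem (ha b hb)
      mul_mem' := fun {a a'} ha ha' b hb => by rw [mul_assoc]; exact ha _ (ha' b hb)
      inv_mem' := fun a ha b hb => by
        by_cases ha0 : a = 0
        · simp [ha0, M.zero_mem]
        have hinj : Function.Injective (fun c : M => (⟨a * c.1, ha c.1 c.2⟩ : M)) :=
          fun c d hcd => Subtype.ext (mul_left_cancel₀ ha0 (congrArg Subtype.val hcd))
        obtain ⟨⟨c, hc⟩, he⟩ := (Finite.injective_iff_surjective.mp hinj) ⟨b, hb⟩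
        have he' : a * c = b := congrArg Subtype.val he
        rw [← he', inv_mul_cancel_left₀ ha0]
        exact hc }
  have hEM : ∀ a : k, a ∈ E → a ∈ M := fun a ha => by simpa using ha 1 h1M
  haveI hEfin : Finite E := Finite.of_injective (fun a : E => (⟨a.1, hEM a.1 a.2⟩ : M))
    fun a b hab => Subtype.ext (congrArg (fun c : M => c.1) hab)
  -- multipliers lie in `E`
  let ι : stab H (∞ : OnePoint k) →* MulAction.stabilizer (PG k) ((1 : PG k) • (∞ : OnePoint k)) :=
    MonoidHom.mk' (fun h => ⟨((h : H) : PG k), by rw [one_smul]; exact h.2⟩) (fun a b => rfl)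
  set ν := μ.comp ι with hν
  have hΛ : ∀ a : ν.range, ((a : kˣ) : k) ∈ E := by
    rintro ⟨a, y, rfl⟩ b hb
    obtain ⟨c, hc⟩ := hμ (ι y)
    rw [inv_one, one_mul, mul_one] at hc
    show aff 1 ((μ (ι y) : k) * b) ∈ H
    rw [← aff_conj (μ (ι y)) c b, ← hc]
    exact H.mul_mem (H.mul_mem (y : H).2 hb) (H.inv_mem (y : H).2)
  haveI : Finite ν.range := Finite.of_surjective ν.rangeRestrict ν.rangeRestrict_surjective
  have htcard : Nat.card ν.range = t := by
    have hker : ν.ker = (unip p H (∞ : OnePoint k)).subgroupOf (stab H ∞) := by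
      ext h
      rw [MonoidHom.mem_ker, Subgroup.mem_subgroupOf, hν, MonoidHom.comp_apply,
        multiplier_eq_one_iff p hμ, mem_unip]
      exact ⟨fun h' => ⟨h.2, h'⟩, fun h' => h'.2⟩
    have h := Subgroup.card_mul_index ν.ker
    rw [Subgroup.index_ker, hker, Nat.card_congr
      (Subgroup.subgroupOfEquivOfLe (unip_le_stab p H (∞ : OnePoint k))).toEquiv, hs, ht] at h
    exact Nat.eq_of_mul_eq_mul_left (by omega) h
  -- so `M = E`
  have hEcard : Nat.card E = s := by
    letI := Fintype.ofFinite E
    have hle : t ≤ Nat.card E - 1 := by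
      rw [← htcard, Nat.card_eq_fintype_card (α := E), ← Fintype.card_subtype_eq (0 : E),
        ← Fintype.card_subtype_compl, ← Nat.card_eq_fintype_card]
      exact Nat.card_le_card_of_injective (fun a : ν.range => (⟨⟨_, hΛ a⟩, fun e =>
        Units.ne_zero (a : kˣ) (congrArg Subtype.val e)⟩ : {x : E // ¬ x = 0}))
        (fun a b hab => Subtype.ext (Units.ext (congrArg (fun x : {x : E // ¬ x = 0} => x.1.1) hab)))
    let W : Submodule E k :=
      { carrier := (M : Set k)
        zero_mem' := M.zero_mem
        add_mem' := M.add_mem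
        smul_mem' := fun a b hb => a.2 b hb }
    haveI : Finite W := inferInstanceAs (Finite M)
    have hpow := Module.natCard_eq_pow_finrank (K := E) (V := W)
    rw [show Nat.card W = s from hMcard] at hpow
    have hE2 : 2 ≤ Nat.card E := Finite.one_lt_card
    rcases Nat.lt_or_ge (Module.finrank E W) 2 with hd | hd
    · interval_cases Module.finrank E W
      · rw [pow_zero] at hpow; omega
      · rw [pow_one] at hpow; exact hpow.symm
    · exfalso
      have : Nat.card E * Nat.card E ≤ s := by
        rw [hpow, ← sq]; exact Nat.pow_le_pow_right (by omega) hd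
      have h2e : 2 * Nat.card E ≤ Nat.card E * Nat.card E := Nat.mul_le_mul_right _ hE2
      rcases hts with h | h <;> omega
  have hME : ∀ a : k, a ∈ M → a ∈ E := by
    have hb : Function.Bijective (fun a : E => (⟨a.1, hEM a.1 a.2⟩ : M)) :=
      (Nat.bijective_iff_injective_and_card _).mpr
        ⟨fun a b hab => Subtype.ext (congrArg (fun c : M => c.1) hab), hEcard.trans hMcard.symm⟩
    intro a ha
    obtain ⟨⟨c, hc⟩, he⟩ := hb.2 ⟨a, ha⟩
    have : c = a := congrArg Subtype.val he
    rwa [← this]
  have hOm : MulAction.orbit H (∞ : OnePoint k) = Set.range (OnePoint.map E.subtype) := by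
    ext x
    rw [horbit]
    constructor
    · rintro (rfl | ⟨b, hb, rfl⟩)
      · exact ⟨∞, rfl⟩
      · exact ⟨((⟨b, hME b hb⟩ : E) : OnePoint E), rfl⟩
    · rintro ⟨y, rfl⟩
      cases y with
      | infty => exact Or.inl rfl
      | coe a => exact Or.inr ⟨a.1, hEM a.1 a.2, rfl⟩
  refine ⟨E, hEfin, hEcard, hOm, ?_⟩
  -- every element is rational over `E`
  have hle : H ≤ (ProjGenLinGroup.map (n := Fin 2) E.subtype).range := by
    intro h hh
    have hmem : ∀ y : OnePoint E, ∃ z : OnePoint E,
        h • OnePoint.map E.subtype y = OnePoint.map E.subtype z := by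
      intro y
      have : (⟨h, hh⟩ : H) • OnePoint.map E.subtype y ∈ Set.range (OnePoint.map E.subtype) := by
        rw [← hOm, MulAction.mem_orbit_iff]
        obtain ⟨c, hc⟩ := (hOm.symm ▸ ⟨y, rfl⟩ :
          OnePoint.map E.subtype y ∈ MulAction.orbit H (∞ : OnePoint k))
        exact ⟨⟨h, hh⟩ * c, by rw [mul_smul]; exact congrArg _ hc⟩
      obtain ⟨z, hz⟩ := this
      exact ⟨z, hz.symm⟩
    obtain ⟨x, hx⟩ := hmem ∞
    obtain ⟨y, hy⟩ := hmem ((0 : E) : OnePoint E)
    obtain ⟨z, hz⟩ := hmem ((1 : E) : OnePoint E)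
    exact mem_range_map_of_three E.subtype (OnePoint.infty_ne_coe (0 : E))
      (OnePoint.infty_ne_coe (1 : E)) zero_ne_one_onePoint hx hy hz
  letI := Fintype.ofFinite E
  have hcardPG : Nat.card (ProjGenLinGroup.map (n := Fin 2) E.subtype).range =
      s * (s ^ 2 - 1) := by
    rw [natCard_range (map_injective_pgl E.subtype), Linear.card_PGL, Linear.card_SL_two,
      ← Nat.card_eq_fintype_card, hEcard]
  have hHcard : Nat.card H = (s + 1) * (s * t) := by
    letI := Fintype.ofFinite H
    letI : Fintype (MulAction.orbit H (∞ : OnePoint k)) := Fintype.ofFinite _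
    have h := MulAction.card_orbit_mul_card_stabilizer_eq_card_group H (∞ : OnePoint k)
    simp only [← Nat.card_eq_fintype_card] at h
    rw [← h, horb, ht]
  have hsq : s ^ 2 - 1 = (s + 1) * (s - 1) := by
    simpa using Nat.sq_sub_sq s 1
  haveI : Finite (PG E) := Finite.of_surjective _ ProjGenLinGroup.mk_surjective
  haveI : Finite (ProjGenLinGroup.map (n := Fin 2) E.subtype).range :=
    Finite.of_surjective _ (MonoidHom.rangeRestrict_surjective _)
  rcases hts with hts | hts
  · refine Or.inl ⟨?_, hts⟩
    refine Subgroup.eq_of_le_of_card_ge hle ?_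
    rw [hcardPG, hHcard, hts, hsq]
    exact le_of_eq (by ring)
  · refine Or.inr ⟨?_, hts⟩
    have hu : ∀ b : E, ProjGenLinGroup.map E.subtype (aff 1 b) = aff 1 (b : k) := by
      intro b
      refine eq_of_eq_on_three (x := OnePoint.map E.subtype ∞)
        (y := OnePoint.map E.subtype ((0 : E) : OnePoint E))
        (z := OnePoint.map E.subtype ((1 : E) : OnePoint E))
        ((onePoint_map_injective _).ne (OnePoint.infty_ne_coe _))
        ((onePoint_map_injective _).ne (OnePoint.infty_ne_coe _))
        ((onePoint_map_injective _).ne zero_ne_one_onePoint) ?_ ?_ ?_ <;>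
        rw [map_smul_onePoint] <;> simp [aff_smul_infty, aff_smul_coe]
    have hinvol : ProjGenLinGroup.map E.subtype (invol : PG E) = (invol : PG k) := by
      refine eq_of_eq_on_three (x := OnePoint.map E.subtype ∞)
        (y := OnePoint.map E.subtype ((0 : E) : OnePoint E))
        (z := OnePoint.map E.subtype ((1 : E) : OnePoint E))
        ((onePoint_map_injective _).ne (OnePoint.infty_ne_coe _))
        ((onePoint_map_injective _).ne (OnePoint.infty_ne_coe _))
        ((onePoint_map_injective _).ne zero_ne_one_onePoint) ?_ ?_ ?_ <;>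
        rw [map_smul_onePoint] <;> simp [invol_infty, invol_zero, invol_one]
    set S := Subgroup.comap (ProjGenLinGroup.map (n := Fin 2) E.subtype) H with hS
    have huS : ∀ b : E, aff 1 b ∈ S := fun b => by
      rw [hS, Subgroup.mem_comap, hu]; exact hEM b.1 b.2
    obtain ⟨w, hw⟩ := h0
    have hwR : (w : PG k) ∈ (ProjGenLinGroup.map (n := Fin 2) E.subtype).range := hle w.2
    obtain ⟨w', hw'⟩ := hwR
    have hw'0 : w' • (∞ : OnePoint E) = ((0 : E) : OnePoint E) := by
      apply onePoint_map_injective E.subtype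
      rw [← map_smul_onePoint, hw']
      exact hw
    have hlS : ∀ b : E, invol * aff 1 b * invol ∈ S := by
      intro b
      obtain ⟨a, c, hac⟩ := exists_aff_of_fix_infty (g := invol * w')
        (by rw [mul_smul, hw'0, invol_zero])
      have e : invol * aff 1 b * invol =
          w' * aff 1 (((a⁻¹ : Eˣ) : E) * b) * w'⁻¹ := by
        have h2 := aff_conj a c (((a⁻¹ : Eˣ) : E) * b)
        rw [← mul_assoc ((a : E)), Units.mul_inv, one_mul, ← hac] at h2
        rw [← h2, _root_.mul_inv_rev, invol_inv]
        simp only [mul_assoc, invol_mul_self, mul_one]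
        simp only [← mul_assoc, invol_mul_self, one_mul]
      rw [e]
      exact S.mul_mem (S.mul_mem (by rw [hS, Subgroup.mem_comap, hw']; exact w.2) (huS _))
        (S.inv_mem (by rw [hS, Subgroup.mem_comap, hw']; exact w.2))
    have hsub : ((ProjGenLinGroup.map (n := Fin 2) E.subtype).comp
        (SpecialLinearGroup.toPGL : SpecialLinearGroup (Fin 2) E →* PG E)).range ≤ H := by
      rintro _ ⟨g, rfl⟩
      exact range_toPGL_le S huS hlS ⟨g, rfl⟩
    refine (Subgroup.eq_of_le_of_card_ge hsub ?_).symm
    have h := Linear.card_PSL_mul (n := Fin 2) (F := E)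
    rw [Linear.card_SL_two, Fintype.card_fin, ← Nat.card_eq_fintype_card, hEcard,
      show Nat.gcd 2 (s - 1) = 2 from Nat.gcd_eq_left ⟨t, hts.symm⟩, hsq, ← hts] at h
    have hr : ((ProjGenLinGroup.map (n := Fin 2) E.subtype).comp
        (SpecialLinearGroup.toPGL : SpecialLinearGroup (Fin 2) E →* PG E)).range =
        ((ProjGenLinGroup.map (n := Fin 2) E.subtype).comp
          ProjectiveSpecialLinearGroup.toPGL).range := by
      ext z
      constructor
      · rintro ⟨g, rfl⟩; exact ⟨QuotientGroup.mk g, rfl⟩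
      · rintro ⟨g, rfl⟩
        induction g using QuotientGroup.induction_on with
        | H g => exact ⟨g, rfl⟩
    rw [hr, natCard_range (f := (ProjGenLinGroup.map (n := Fin 2) E.subtype).comp
      ProjectiveSpecialLinearGroup.toPGL)
      ((map_injective_pgl E.subtype).comp ProjectiveSpecialLinearGroup.toPGL_injective), hHcard]
    nlinarith

end CfsgLib.PSL2Sub
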