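import Cfsg.Agent.Lib.PSL2Sub.Mobius

/-!
Finite subgroups of `PGL₂` over an algebraically closed field of characteristic `p`: point
stabilisers and the orbit counting equation.
-/

set_option autoImplicit false
set_option linter.unusedSectionVars false

namespace CfsgLib.PSL2Sub

open Matrix OnePoint

/-- A group acting freely on a finite type divides its cardinality. -/
theorem dvd_card_of_free {G α : Type*} [Group G] [MulAction G α] [Finite α]
    (h : ∀ (g : G) (a : α), g • a = a → g = 1) : Nat.card G ∣ Nat.card α := by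
  exact Dvd.intro_left _ (by
    rw [← Nat.card_prod]
    exact (Nat.card_congr (MulAction.selfEquivOrbitsQuotientProd fun b =>
      (Subgroup.eq_bot_iff_forall _).mpr fun g hg => h g b hg)).symm)

variable {k : Type*} [Field k] [DecidableEq k] (p : ℕ) [hp : Fact p.Prime] [CharP k p]

theorem units_eq_one_of_pow_char {a : kˣ} (h : a ^ p = 1) : a = 1 := by
  have h1 : ((a : k) - 1) ^ p = 0 := by
    rw [sub_pow_char, one_pow, ← Units.val_pow_eq_pow_val, h, Units.val_one, sub_self]
  exact Units.ext (sub_eq_zero.mp ((pow_eq_zero_iff hp.out.ne_zero).mp h1))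

theorem aff_zero_pow (a : kˣ) (n : ℕ) : aff a (0 : k) ^ n = aff (a ^ n) 0 := by
  induction n with
  | zero => simp [aff_one_zero]
  | succ n ih => rw [pow_succ, ih, aff_mul, pow_succ]; simp

theorem translation_pow_char (b : k) : aff (1 : kˣ) b ^ p = 1 := by
  rw [aff_translation_pow, CharP.cast_eq_zero, zero_mul, aff_one_zero]

/-- A non-trivial element of order `p` fixes at most one point. -/
theorem unique_fixed_of_pow_char {h : PG k} (h1 : h ≠ 1) (hp1 : h ^ p = 1) {x y : OnePoint k}
    (hx : h • x = x) (hy : h • y = y) : y = x := by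
  by_contra hne
  obtain ⟨g, hg, hg'⟩ := exists_smul_infty_zero (Ne.symm hne)
  obtain ⟨a, b, hab⟩ := exists_aff_of_fix_infty (g := g⁻¹ * h * g)
    (by rw [mul_smul, mul_smul, hg, hx, ← hg, inv_smul_smul])
  have hb : b = 0 := by
    have := congrArg (fun m : PG k => m • ((0 : k) : OnePoint k)) hab
    simp only [mul_smul, hg', hy, aff_smul_coe, mul_zero, zero_add] at this
    rw [← hg', inv_smul_smul] at this
    simpa using this.symm
  subst hb
  have hpow : (g⁻¹ * h * g) ^ p = 1 := by
    have := conj_pow (i := p) (a := g⁻¹) (b := h)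
    rw [inv_inv] at this
    rw [this, hp1, mul_one, inv_mul_cancel]
  rw [hab, aff_zero_pow, ← aff_one_zero] at hpow
  rw [units_eq_one_of_pow_char p (aff_injective hpow).1, aff_one_zero] at hab
  apply h1
  calc h = g * (g⁻¹ * h * g) * g⁻¹ := by group
    _ = 1 := by rw [hab]; group

/-- The multiplier of the stabiliser of a point. -/
theorem exists_multiplier (g : PG k) :
    ∃ μ : MulAction.stabilizer (PG k) (g • (∞ : OnePoint k)) →* kˣ,
      ∀ h : MulAction.stabilizer (PG k) (g • (∞ : OnePoint k)), ∃ b : k, g⁻¹ * (h : PG k) * g = aff (μ h) b := by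
  have key : ∀ h : MulAction.stabilizer (PG k) (g • (∞ : OnePoint k)),
      ∃ (a : kˣ) (b : k), g⁻¹ * (h : PG k) * g = aff a b := fun h =>
    exists_aff_of_fix_infty (by
      rw [mul_smul, mul_smul, MulAction.mem_stabilizer_iff.mp h.2, inv_smul_smul])
  choose a b hab using key
  refine ⟨MonoidHom.mk' a fun h h' => ?_, fun h => ⟨b h, hab h⟩⟩
  have e := hab (h * h')
  rw [Subgroup.coe_mul, show g⁻¹ * ((h : PG k) * (h' : PG k)) * g =
    (g⁻¹ * (h : PG k) * g) * (g⁻¹ * (h' : PG k) * g) by group, hab, hab, aff_mul] at e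
  exact (aff_injective e).1.symm

/-- An element fixing exactly one point has order dividing `p`. -/
theorem pow_char_of_unique_fixed {h : PG k} {x : OnePoint k} (hx : h • x = x)
    (huniq : ∀ y, h • y = y → y = x) : h ^ p = 1 := by
  obtain ⟨g, hg⟩ := exists_smul_infty x
  obtain ⟨a, b, hab⟩ := exists_aff_of_fix_infty (g := g⁻¹ * h * g)
    (by rw [mul_smul, mul_smul, hg, hx, ← hg, inv_smul_smul])
  have ha : a = 1 := by
    by_contra ha
    have ha' : (1 : k) - a ≠ 0 := fun e => ha (Units.ext (sub_eq_zero.mp e).symm)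
    have hfix : (g⁻¹ * h * g) • ((b / (1 - a) : k) : OnePoint k) = (b / (1 - a) : k) := by
      rw [hab, aff_smul_coe, OnePoint.coe_eq_coe]
      field_simp
      ring
    rw [mul_smul, mul_smul, inv_smul_eq_iff] at hfix
    have := huniq _ hfix
    rw [← hg, smul_left_cancel_iff] at this
    exact OnePoint.coe_ne_infty _ this
  subst ha
  have hpow : (g⁻¹ * h * g) ^ p = 1 := by rw [hab, translation_pow_char]
  rw [show h = g * (g⁻¹ * h * g) * g⁻¹ by group, conj_pow, hpow, mul_one, mul_inv_cancel]

/-- The elements of order dividing `p` in a stabiliser are the kernel of the multiplier. -/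
theorem multiplier_eq_one_iff {g : PG k}
    {μ : MulAction.stabilizer (PG k) (g • (∞ : OnePoint k)) →* kˣ}
    (hμ : ∀ h : MulAction.stabilizer (PG k) (g • (∞ : OnePoint k)), ∃ b : k, g⁻¹ * (h : PG k) * g = aff (μ h) b)
    (h : MulAction.stabilizer (PG k) (g • (∞ : OnePoint k))) :
    μ h = 1 ↔ (h : PG k) ^ p = 1 := by
  constructor
  · intro h1
    obtain ⟨b, hb⟩ := hμ h
    rw [h1] at hb
    rw [show (h : PG k) = g * (g⁻¹ * (h : PG k) * g) * g⁻¹ by group, conj_pow, hb,
      translation_pow_char, mul_one, mul_inv_cancel]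
  · intro h1
    apply units_eq_one_of_pow_char p
    rw [← map_pow, show h ^ p = 1 from Subtype.ext (by simpa using h1), map_one]

section Finite

variable [IsAlgClosed k] (H : Subgroup (PG k)) [Finite H]

/-- The stabiliser of a point in `H`. -/
abbrev stab (x : OnePoint k) : Subgroup H := MulAction.stabilizer H x

/-- The elements of order dividing `p` fixing a given point. -/
def unip (x : OnePoint k) : Subgroup H where
  carrier := {h | h • x = x ∧ (h : PG k) ^ p = 1}
  one_mem' := by simp
  mul_mem' := by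
    rintro a b ⟨ha, ha'⟩ ⟨hb, hb'⟩
    obtain ⟨g, rfl⟩ := exists_smul_infty x
    obtain ⟨μ, hμ⟩ := exists_multiplier g
    refine ⟨by rw [mul_smul, hb, ha], ?_⟩
    let A : MulAction.stabilizer (PG k) (g • (∞ : OnePoint k)) := ⟨a, ha⟩
    let B : MulAction.stabilizer (PG k) (g • (∞ : OnePoint k)) := ⟨b, hb⟩
    have := (multiplier_eq_one_iff p hμ (A * B)).mp (by
      rw [map_mul, (multiplier_eq_one_iff p hμ A).mpr ha', (multiplier_eq_one_iff p hμ B).mpr hb',
        one_mul])
    exact this
  inv_mem' := by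
    rintro a ⟨ha, ha'⟩
    exact ⟨by rw [inv_smul_eq_iff, ha], by rw [Subgroup.coe_inv, inv_pow, ha', inv_one]⟩

theorem mem_unip {x : OnePoint k} {h : H} :
    h ∈ unip p H x ↔ h • x = x ∧ (h : PG k) ^ p = 1 := Iff.rfl

theorem unip_le_stab (x : OnePoint k) : unip p H x ≤ stab H x := fun _ h => h.1

theorem coe_smul_onePoint (h : H) (x : OnePoint k) : h • x = (h : PG k) • x := rfl

/-- The data of a point stabiliser: a cyclic quotient of order prime to `p` dividing `s - 1`. -/
theorem stab_structure (x : OnePoint k) :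
    ∃ t : ℕ, Nat.card (stab H x) = Nat.card (unip p H x) * t ∧ ¬ p ∣ t ∧
      (t ∣ Nat.card (unip p H x) - 1) ∧ 0 < t ∧
      (Nat.card (unip p H x) = 1 → IsCyclic (stab H x)) := by
  classical
  obtain ⟨g, rfl⟩ := exists_smul_infty x
  obtain ⟨μ, hμ⟩ := exists_multiplier g
  let ι : stab H (g • (∞ : OnePoint k)) →* MulAction.stabilizer (PG k) (g • (∞ : OnePoint k)) :=
    MonoidHom.mk' (fun h => ⟨(h : H), h.2⟩) (fun a b => rfl)
  set ν := μ.comp ι with hν
  have hker : ν.ker = (unip p H (g • ∞)).subgroupOf (stab H (g • ∞)) := by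
    ext h
    rw [MonoidHom.mem_ker, Subgroup.mem_subgroupOf, hν, MonoidHom.comp_apply,
      multiplier_eq_one_iff p hμ, mem_unip]
    exact ⟨fun h' => ⟨h.2, h'⟩, fun h' => h'.2⟩
  have hcard : Nat.card ν.ker = Nat.card (unip p H (g • ∞)) := by
    rw [hker]
    exact Nat.card_congr (Subgroup.subgroupOfEquivOfLe (unip_le_stab p H _)).toEquiv
  haveI : Finite ν.range := Finite.of_surjective ν.rangeRestrict ν.rangeRestrict_surjective
  refine ⟨Nat.card ν.range, ?_, ?_, ?_, Nat.card_pos, ?_⟩
  · rw [← Subgroup.card_mul_index ν.ker, hcard, Subgroup.index_ker]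
  · intro hdvd
    obtain ⟨a, ha⟩ := exists_prime_orderOf_dvd_card' p hdvd
    have : (a : kˣ) ^ p = 1 := by
      rw [← Subgroup.coe_pow, ← ha, pow_orderOf_eq_one, Subgroup.coe_one]
    have h1 : a = 1 := Subtype.ext (units_eq_one_of_pow_char p this)
    rw [h1, orderOf_one] at ha
    exact hp.out.one_lt.ne ha
  · -- the multipliers act freely on the non-zero translations
    let M := {b : k // b ≠ 0 ∧ ∃ h ∈ H, g⁻¹ * h * g = aff 1 b}
    have hmem : ∀ (a : ν.range) (b : M), ((a : kˣ) : k) * b.1 ≠ 0 ∧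
        ∃ h ∈ H, g⁻¹ * h * g = aff 1 (((a : kˣ) : k) * b.1) := by
      rintro ⟨a, y, rfl⟩ ⟨b, hb0, h, hh, hb⟩
      obtain ⟨c, hc⟩ := hμ (ι y)
      refine ⟨mul_ne_zero (Units.ne_zero _) hb0, ((y : H) : PG k) * h * ((y : H) : PG k)⁻¹,
        H.mul_mem (H.mul_mem (y : H).2 hh) (H.inv_mem (y : H).2), ?_⟩
      show g⁻¹ * (((y : H) : PG k) * h * ((y : H) : PG k)⁻¹) * g = aff 1 ((μ (ι y) : k) * b)
      rw [← aff_conj (μ (ι y)) c b, ← hc, ← hb]
      show _ = g⁻¹ * ((y : H) : PG k) * g * (g⁻¹ * h * g) * (g⁻¹ * ((y : H) : PG k) * g)⁻¹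
      group
    let act : MulAction ν.range M :=
      { smul := fun a b => ⟨((a : kˣ) : k) * b.1, hmem a b⟩
        one_smul := fun b => Subtype.ext (by show ((1 : kˣ) : k) * b.1 = b.1; simp)
        mul_smul := fun a a' b => Subtype.ext (by
          show ((((a * a' : ν.range) : kˣ)) : k) * b.1 = _
          rw [Subgroup.coe_mul, Units.val_mul, mul_assoc]
          rfl) }
    let e : M ≃ {h : unip p H (g • (∞ : OnePoint k)) // h ≠ 1} :=
      { toFun := fun b => ⟨⟨⟨g * aff 1 b.1 * g⁻¹, by
            obtain ⟨h, hh, hb⟩ := b.2.2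
            rw [← hb, show g * (g⁻¹ * h * g) * g⁻¹ = h by group]
            exact hh⟩, by
            refine ⟨?_, ?_⟩
            · show (g * aff 1 b.1 * g⁻¹) • g • (∞ : OnePoint k) = g • ∞
              rw [mul_smul, inv_smul_smul, mul_smul, aff_smul_infty]
            · show (g * aff 1 b.1 * g⁻¹) ^ p = 1
              rw [conj_pow, translation_pow_char, mul_one, mul_inv_cancel]⟩, fun h => by
            have h' : g * aff 1 b.1 * g⁻¹ = 1 :=
              congrArg (fun z : unip p H (g • (∞ : OnePoint k)) => ((z : H) : PG k)) h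
            rw [conj_eq_one_iff, ← aff_one_zero] at h'
            exact b.2.1 (aff_injective h').2⟩
        invFun := fun h => ⟨((g⁻¹ * ((h.1 : H) : PG k) * g) • ((0 : k) : OnePoint k)).elim 0 id, by
            obtain ⟨⟨y, hy1, hy2⟩, hy0⟩ := h
            obtain ⟨c, hc⟩ := hμ ⟨(y : PG k), hy1⟩
            rw [(multiplier_eq_one_iff p hμ ⟨(y : PG k), hy1⟩).mpr hy2] at hc
            change g⁻¹ * (y : PG k) * g = aff 1 c at hc
            show ((g⁻¹ * (y : PG k) * g) • ((0 : k) : OnePoint k)).elim 0 id ≠ 0 ∧ _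
            rw [hc, aff_smul_coe, OnePoint.elim_some, id, mul_zero, zero_add]
            refine ⟨fun h0 => hy0 ?_, (y : PG k), y.2, ?_⟩
            · apply Subtype.ext
              apply Subtype.ext
              rw [h0, aff_one_zero] at hc
              show (y : PG k) = 1
              calc (y : PG k) = g * (g⁻¹ * (y : PG k) * g) * g⁻¹ := by group
                _ = 1 := by rw [hc]; group
            · exact hc⟩
        left_inv := fun b => Subtype.ext (by
          show ((g⁻¹ * (g * aff 1 b.1 * g⁻¹) * g) • ((0 : k) : OnePoint k)).elim 0 id = b.1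
          rw [show g⁻¹ * (g * aff 1 b.1 * g⁻¹) * g = aff 1 b.1 by group, aff_smul_coe,
            OnePoint.elim_some, id, mul_zero, zero_add])
        right_inv := fun h => Subtype.ext (Subtype.ext (Subtype.ext (by
          obtain ⟨⟨y, hy1, hy2⟩, hy0⟩ := h
          obtain ⟨c, hc⟩ := hμ ⟨(y : PG k), hy1⟩
          rw [(multiplier_eq_one_iff p hμ ⟨(y : PG k), hy1⟩).mpr hy2] at hc
          change g⁻¹ * (y : PG k) * g = aff 1 c at hc
          show g * aff 1 (((g⁻¹ * (y : PG k) * g) • ((0 : k) : OnePoint k)).elim 0 id) * g⁻¹ = (y : PG k)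
          rw [hc, aff_smul_coe, OnePoint.elim_some, id, mul_zero, zero_add, ← hc]
          group))) }
    haveI : Finite M := Finite.of_equiv _ e.symm
    have hM : Nat.card M = Nat.card (unip p H (g • (∞ : OnePoint k))) - 1 := by
      rw [Nat.card_congr e]
      letI := Fintype.ofFinite (unip p H (g • (∞ : OnePoint k)))
      rw [Nat.card_eq_fintype_card, Fintype.card_subtype_compl, Fintype.card_subtype_eq,
        Nat.card_eq_fintype_card]
    rw [← hM]
    exact @dvd_card_of_free ν.range M _ act _ fun a b hab => by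
      have h' : ((a : kˣ) : k) * b.1 = b.1 := congrArg Subtype.val hab
      exact Subtype.ext (Units.ext (mul_right_cancel₀ b.2.1 (by rw [h']; simp)))
  · intro h1
    have hinj : Function.Injective ν := by
      rw [← MonoidHom.ker_eq_bot_iff, ← Subgroup.card_eq_one, hcard, h1]
    exact isCyclic_of_injective_ringHom ((Units.coeHom k).comp ν)
      (Units.val_injective.comp hinj)

/-- The points fixed by some non-trivial element of `H`. -/
def fixedPts : SubMulAction H (OnePoint k) where
  carrier := {x | ∃ h : H, h ≠ 1 ∧ h • x = x}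
  smul_mem' := by
    rintro c x ⟨h, h1, hx⟩
    exact ⟨c * h * c⁻¹, fun e => h1 (conj_eq_one_iff.mp e), by
      rw [mul_smul, inv_smul_smul, mul_smul, hx]⟩

omit [IsAlgClosed k] in
theorem finite_fixed_of_ne_one {h : PG k} (h1 : h ≠ 1) :
    {x : OnePoint k | h • x = x}.Finite := by
  by_cases he : ∃ x y : OnePoint k, x ≠ y ∧ h • x = x ∧ h • y = y
  · obtain ⟨x, y, hxy, hx, hy⟩ := he
    exact (Set.toFinite ({x, y} : Set (OnePoint k))).subset fun z hz => fixed_eq_or h1 hxy hx hy hz
  · refine Set.Subsingleton.finite fun x hx y hy => ?_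
    by_contra hne
    exact he ⟨x, y, hne, hx, hy⟩

instance fixedPts_finite : Finite (fixedPts H) := by
  have : ((fixedPts H : SubMulAction H (OnePoint k)) : Set (OnePoint k)).Finite := by
    refine ((Set.toFinite {h : H | h ≠ 1}).biUnion fun h hh =>
      finite_fixed_of_ne_one (h := (h : PG k)) fun e => hh (Subtype.ext e)).subset ?_
    rintro x ⟨h, h1, hx⟩
    exact Set.mem_biUnion (show h ∈ {h : H | h ≠ 1} from h1) hx
  exact this.to_subtype

/-- The number of non-trivial elements fixing exactly one point. -/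
noncomputable def numUnip : ℕ := Nat.card {h : H // h ≠ 1 ∧ (h : PG k) ^ p = 1}

open Classical in
theorem card_fixedBy {h : H} (h1 : h ≠ 1) :
    Nat.card (MulAction.fixedBy (fixedPts H) h) + (if (h : PG k) ^ p = 1 then 1 else 0) = 2 := by
  have h1' : (h : PG k) ≠ 1 := fun e => h1 (Subtype.ext e)
  have e : MulAction.fixedBy (fixedPts H) h ≃ {x : OnePoint k // (h : PG k) • x = x} :=
    { toFun := fun x => ⟨x.1.1, congrArg Subtype.val x.2⟩
      invFun := fun x => ⟨⟨x.1, h, h1, x.2⟩, Subtype.ext x.2⟩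
      left_inv := fun _ => rfl
      right_inv := fun _ => rfl }
  rw [Nat.card_congr e]
  obtain ⟨x, hx⟩ := exists_fixed (h : PG k)
  by_cases hpw : (h : PG k) ^ p = 1
  · rw [if_pos hpw]
    haveI : Subsingleton {x : OnePoint k // (h : PG k) • x = x} :=
      ⟨fun a b => Subtype.ext (unique_fixed_of_pow_char p h1' hpw b.2 a.2)⟩
    haveI : Nonempty {x : OnePoint k // (h : PG k) • x = x} := ⟨⟨x, hx⟩⟩
    rw [Nat.card_unique]
  · rw [if_neg hpw]
    obtain ⟨y, hy, hyx⟩ : ∃ y, (h : PG k) • y = y ∧ y ≠ x := by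
      by_contra hc
      exact hpw (pow_char_of_unique_fixed p hx fun y hy => by
        by_contra hne
        exact hc ⟨y, hy, hne⟩)
    rw [Nat.add_zero, Nat.card_eq_two_iff]
    refine ⟨⟨x, hx⟩, ⟨y, hy⟩, fun e => hyx (congrArg Subtype.val e).symm, ?_⟩
    ext z
    simp only [Set.mem_insert_iff, Set.mem_singleton_iff, Set.mem_univ, iff_true, Subtype.ext_iff]
    exact fixed_eq_or h1' (Ne.symm hyx) hx hy z.2

/-- The orbit counting equation. -/
theorem counting :
    Nat.card (fixedPts H) + 2 * Nat.card H =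
      Nat.card (Quotient (MulAction.orbitRel H (fixedPts H))) * Nat.card H + numUnip p H + 2 := by
  classical
  letI := Fintype.ofFinite H
  letI := Fintype.ofFinite (fixedPts H)
  letI : ∀ h : H, Fintype (MulAction.fixedBy (fixedPts H) h) := fun _ => Fintype.ofFinite _
  letI : Fintype (Quotient (MulAction.orbitRel H (fixedPts H))) := Fintype.ofFinite _
  have hb := MulAction.sum_card_fixedBy_eq_card_orbits_mul_card_group H (fixedPts H)
  simp only [← Nat.card_eq_fintype_card] at hb
  have h1 : MulAction.fixedBy (fixedPts H) (1 : H) = Set.univ := by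
    ext x; simp
  have hsum : ∑ h ∈ Finset.univ.erase (1 : H), Nat.card (MulAction.fixedBy (fixedPts H) h) +
      numUnip p H = ∑ h ∈ Finset.univ.erase (1 : H), 2 := by
    have hU : numUnip p H =
        ∑ h ∈ Finset.univ.erase (1 : H), (if (h : PG k) ^ p = 1 then 1 else 0) := by
      rw [Finset.sum_boole, Nat.cast_id, numUnip, Nat.card_eq_fintype_card, Fintype.card_subtype]
      congr 1
      ext h
      simp
    rw [hU, ← Finset.sum_add_distrib]
    exact Finset.sum_congr rfl fun h hh => card_fixedBy p H (Finset.ne_of_mem_erase hh)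
  rw [← Finset.add_sum_erase _ _ (Finset.mem_univ (1 : H)), h1, Nat.card_univ] at hb
  rw [Finset.sum_const, Finset.card_erase_of_mem (Finset.mem_univ _), Finset.card_univ,
    smul_eq_mul, ← Nat.card_eq_fintype_card] at hsum
  have : 0 < Nat.card H := Nat.card_pos
  omega

/-- Conjugating a unipotent subgroup. -/
theorem card_unip_smul (c : H) (x : OnePoint k) :
    Nat.card (unip p H (c • x)) = Nat.card (unip p H x) := by
  refine Nat.card_congr
    { toFun := fun h => ⟨c⁻¹ * h * c, ?_, ?_⟩
      invFun := fun h => ⟨c * h * c⁻¹, ?_, ?_⟩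
      left_inv := fun h => Subtype.ext (by group)
      right_inv := fun h => Subtype.ext (by group) }
  · rw [mul_smul, mul_smul, h.2.1, inv_smul_smul]
  · rw [Subgroup.coe_mul, Subgroup.coe_mul, Subgroup.coe_inv]
    conv_lhs => arg 1; arg 2; rw [← inv_inv (c : PG k)]
    rw [conj_pow, h.2.2, mul_one, mul_inv_cancel]
  · rw [mul_smul, inv_smul_smul, mul_smul, h.2.1]
  · rw [Subgroup.coe_mul, Subgroup.coe_mul, Subgroup.coe_inv, conj_pow, h.2.2, mul_one,
      mul_inv_cancel]

/-- If `H` contains an element of order `p`, then all of them fix points of one orbit, which has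
size congruent to `1` modulo the order of the `p`-subgroup fixing one of its points. -/
theorem unip_data (hU : numUnip p H ≠ 0) :
    ∃ x : fixedPts H,
      (∀ (h : H) (y : OnePoint k), h ≠ 1 → (h : PG k) ^ p = 1 → h • y = y →
        y ∈ MulAction.orbit H (x : OnePoint k)) ∧
      2 ≤ Nat.card (unip p H (x : OnePoint k)) ∧
      numUnip p H = Nat.card (MulAction.orbit H x) * (Nat.card (unip p H (x : OnePoint k)) - 1) ∧
      Nat.card (MulAction.orbit H x) % Nat.card (unip p H (x : OnePoint k)) = 1 := by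
  classical
  obtain ⟨⟨u, hu1, hup⟩⟩ := (Nat.card_ne_zero.mp hU).1
  have hu1' : (u : PG k) ≠ 1 := fun e => hu1 (Subtype.ext e)
  obtain ⟨P⟩ := (inferInstance : Nonempty (Sylow p H))
  have hzp : ∀ h : H, (h : PG k) ^ p = 1 → IsPGroup p (Subgroup.zpowers h) := by
    intro h hh
    have hd : orderOf h ∣ p := orderOf_dvd_of_pow_eq_one (Subtype.ext (by simpa using hh))
    obtain ⟨i, -, hi⟩ := (Nat.dvd_prime_pow hp.out).mp (show orderOf h ∣ p ^ 1 by simpa using hd)
    exact IsPGroup.of_card (n := i) (by rw [Nat.card_zpowers, hi])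
  -- a fixed point of the Sylow subgroup
  haveI : Nontrivial (P : Subgroup H) := by
    rw [← Finite.one_lt_card_iff_nontrivial, P.card_eq_multiplicity]
    refine one_lt_pow₀ hp.out.one_lt (Nat.Prime.factorization_pos_of_dvd hp.out Nat.card_pos.ne' ?_).ne'
    have hd : orderOf u = p := orderOf_eq_prime (Subtype.ext (by simpa using hup)) hu1
    exact hd ▸ orderOf_dvd_natCard u
  have hPp : IsPGroup p (P : Subgroup H) := P.isPGroup'
  haveI : Nontrivial (Subgroup.center (P : Subgroup H)) := hPp.center_nontrivial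
  obtain ⟨z, hz⟩ : ∃ z : Subgroup.center (P : Subgroup H), orderOf z = p :=
    exists_prime_orderOf_dvd_card' p (by
      obtain ⟨j, hj⟩ := (IsPGroup.iff_card).mp (hPp.to_subgroup (Subgroup.center (P : Subgroup H)))
      have h1 : 1 < Nat.card (Subgroup.center (P : Subgroup H)) :=
        Finite.one_lt_card_iff_nontrivial.mpr inferInstance
      rw [hj] at h1 ⊢
      exact dvd_pow_self p fun h0 => by simp [h0] at h1)
  set w : H := ((z : (P : Subgroup H)) : H) with hw
  have hwp : (w : PG k) ^ p = 1 := by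
    have : z ^ p = 1 := orderOf_dvd_iff_pow_eq_one.mp hz.dvd
    exact congrArg (fun a : Subgroup.center (P : Subgroup H) =>
      (((a : (P : Subgroup H)) : H) : PG k)) this
  have hw1 : w ≠ 1 := by
    intro e
    have : z = 1 := Subtype.ext (Subtype.ext e)
    rw [this, orderOf_one] at hz
    exact hp.out.one_lt.ne hz
  obtain ⟨x₀, hx₀⟩ := exists_fixed (w : PG k)
  let x : fixedPts H := ⟨x₀, w, hw1, hx₀⟩
  have hPfix : ∀ q : (P : Subgroup H), (q : H) • x₀ = x₀ := by
    intro q
    refine unique_fixed_of_pow_char p (fun e => hw1 (Subtype.ext e)) hwp hx₀ ?_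
    show w • ((q : H) • x₀) = (q : H) • x₀
    have hc : w * (q : H) = (q : H) * w :=
      (congrArg Subtype.val (Subgroup.mem_center_iff.mp z.2 q)).symm
    rw [← mul_smul, hc, mul_smul]
    show (q : H) • ((w : PG k) • x₀) = _
    rw [hx₀]
  have horb : ∀ (h : H) (y : OnePoint k), h ≠ 1 → (h : PG k) ^ p = 1 → h • y = y →
      y ∈ MulAction.orbit H x₀ := by
    intro h y h1 hh hy
    obtain ⟨Q, hQ⟩ := (hzp h hh).exists_le_sylow
    obtain ⟨c, rfl⟩ := MulAction.exists_smul_eq H P Q
    have hh' : h ∈ (P : Subgroup H).map (MulAut.conj c).toMonoidHom := by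
      have := hQ (Subgroup.mem_zpowers h)
      rwa [Sylow.coe_subgroup_smul] at this
    obtain ⟨q, hq, rfl⟩ := Subgroup.mem_map.mp hh'
    refine ⟨c, (unique_fixed_of_pow_char p (h := ((c * q * c⁻¹ : H) : PG k))
      (fun e => h1 (Subtype.ext e)) hh hy ?_).trans rfl⟩
    show (c * q * c⁻¹) • (c • x₀) = c • x₀
    rw [mul_smul, inv_smul_smul, mul_smul, hPfix ⟨q, hq⟩]
  have hx2 : 2 ≤ Nat.card (unip p H x₀) := by
    refine Finite.one_lt_card_iff_nontrivial.mpr ?_
    exact ⟨⟨⟨w, hx₀, hwp⟩, 1, fun e => hw1 (congrArg Subtype.val e)⟩⟩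
  have horbit : Nat.card (MulAction.orbit H x) = Nat.card (MulAction.orbit H x₀) := by
    refine Nat.card_congr
      { toFun := fun y => ⟨(y.1 : OnePoint k), ?_⟩
        invFun := fun y => ⟨⟨y.1, ?_⟩, ?_⟩
        left_inv := fun y => rfl
        right_inv := fun y => rfl }
    · obtain ⟨c, hc⟩ := y.2
      exact ⟨c, congrArg Subtype.val hc⟩
    · obtain ⟨c, hc⟩ := y.2
      rw [← hc]
      exact (c • x).2
    · obtain ⟨c, hc⟩ := y.2
      exact ⟨c, Subtype.ext hc⟩
  refine ⟨x, horb, hx2, ?_, ?_⟩
  · -- count the elements of order p by their fixed point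
    rw [horbit]
    show numUnip p H = _ * (Nat.card (unip p H x₀) - 1)
    let e : {h : H // h ≠ 1 ∧ (h : PG k) ^ p = 1} ≃
        Σ y : MulAction.orbit H x₀, {h : unip p H (y : OnePoint k) // h ≠ 1} :=
      { toFun := fun h => ⟨⟨(exists_fixed ((h.1 : H) : PG k)).choose,
            horb h.1 _ h.2.1 h.2.2 (exists_fixed ((h.1 : H) : PG k)).choose_spec⟩,
          ⟨⟨h.1, (exists_fixed ((h.1 : H) : PG k)).choose_spec, h.2.2⟩,
            fun e => h.2.1 (congrArg Subtype.val e)⟩⟩
        invFun := fun yh => ⟨yh.2.1.1, fun e => yh.2.2 (Subtype.ext e), yh.2.1.2.2⟩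
        left_inv := fun h => rfl
        right_inv := by
          rintro ⟨⟨y, hy⟩, ⟨h, hh1, hh2⟩, hh0⟩
          have h' : (exists_fixed ((h : H) : PG k)).choose = y :=
            unique_fixed_of_pow_char p (fun e => hh0 (Subtype.ext (Subtype.ext e))) hh2 hh1
              (exists_fixed ((h : H) : PG k)).choose_spec
          subst h'
          rfl }
    haveI : Finite (MulAction.orbit H x₀) := Finite.of_surjective
      (fun c : H => (⟨c • x₀, c, rfl⟩ : MulAction.orbit H x₀)) (by
        rintro ⟨y, c, rfl⟩; exact ⟨c, rfl⟩)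
    letI := Fintype.ofFinite (MulAction.orbit H x₀)
    letI := Fintype.ofFinite (unip p H x₀)
    rw [numUnip, Nat.card_congr e, Nat.card_sigma,
      Finset.sum_congr rfl (g := fun _ => Nat.card (unip p H x₀) - 1) (fun y _ => ?_)]
    · simp only [Finset.sum_const, Finset.card_univ, smul_eq_mul, Nat.card_eq_fintype_card]
    · obtain ⟨y, c, rfl⟩ := y
      letI := Fintype.ofFinite (unip p H (c • x₀))
      rw [← card_unip_smul p H c x₀, Nat.card_eq_fintype_card, Fintype.card_subtype_compl,
        Fintype.card_subtype_eq, Nat.card_eq_fintype_card]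
  · rw [horbit]
    show _ % Nat.card (unip p H x₀) = 1
    haveI : Finite (MulAction.orbit H x₀) := Finite.of_surjective
      (fun c : H => (⟨c • x₀, c, rfl⟩ : MulAction.orbit H x₀)) (by
        rintro ⟨y, c, rfl⟩; exact ⟨c, rfl⟩)
    let S := {y : MulAction.orbit H x₀ // (y : OnePoint k) ≠ x₀}
    have hmem : ∀ (q : unip p H x₀) (y : S),
        (q : H) • (y.1 : OnePoint k) ∈ MulAction.orbit H x₀ ∧
          (q : H) • (y.1 : OnePoint k) ≠ x₀ := fun q y =>
      ⟨by obtain ⟨c, hc⟩ := y.1.2; exact ⟨(q : H) * c, by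
          show ((q : H) * c) • x₀ = _
          rw [mul_smul]; exact congrArg _ hc⟩,
        fun h => y.2 (MulAction.injective (q : H) (h.trans q.2.1.symm))⟩
    let act : MulAction (unip p H x₀) S :=
      { smul := fun q y => ⟨⟨_, (hmem q y).1⟩, (hmem q y).2⟩
        one_smul := fun y => Subtype.ext (Subtype.ext (one_smul H (y.1 : OnePoint k)))
        mul_smul := fun q q' y =>
          Subtype.ext (Subtype.ext (mul_smul (q : H) (q' : H) (y.1 : OnePoint k))) }
    have hd : Nat.card (unip p H x₀) ∣ Nat.card S := @dvd_card_of_free _ S _ act _ fun q y hqy => by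
      by_contra hq
      exact y.2 (unique_fixed_of_pow_char p (fun e => hq (Subtype.ext (Subtype.ext e))) q.2.2 q.2.1
        (congrArg (fun s : S => (s.1 : OnePoint k)) hqy))
    have hS : Nat.card (MulAction.orbit H x₀) = Nat.card S + 1 := by
      have := Finite.card_option (α := S)
      rw [← this]
      exact Nat.card_congr (Equiv.optionSubtypeNe (⟨x₀, MulAction.mem_orbit_self _⟩ :
        MulAction.orbit H x₀)).symm |>.trans (Nat.card_congr (Equiv.optionCongr
          (Equiv.subtypeEquivRight fun y => by simp [Subtype.ext_iff])))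
    obtain ⟨j, hj⟩ := hd
    rw [hS, hj, Nat.add_mod, Nat.mul_mod_right, zero_add, Nat.mod_mod,
      Nat.mod_eq_of_lt (by omega)]

/-- The orbit sizes. -/
theorem orbit_facts (x : fixedPts H) :
    Nat.card (MulAction.orbit H x) * Nat.card (stab H (x : OnePoint k)) = Nat.card H ∧
      2 ≤ Nat.card (stab H (x : OnePoint k)) := by
  classical
  letI := Fintype.ofFinite H
  letI : Fintype (MulAction.orbit H x) := Fintype.ofFinite _
  constructor
  · have h := MulAction.card_orbit_mul_card_stabilizer_eq_card_group H x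
    simp only [← Nat.card_eq_fintype_card] at h
    have e : MulAction.stabilizer H x = stab H (x : OnePoint k) := by
      ext h; simp [Subtype.ext_iff]
    rwa [e] at h
  · obtain ⟨h, h1, hx⟩ := x.2
    refine Finite.one_lt_card_iff_nontrivial.mpr ?_
    exact ⟨⟨⟨h, hx⟩, 1, fun e => h1 (congrArg Subtype.val e)⟩⟩

end Finite

end CfsgLib.PSL2Sub
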