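import Cfsg.Agent.Lib.PSL2Sub.MaxClassify
import Cfsg.Agent.Lib.SL2Trace.Tori

/-!
The maximal subgroups of `PG(toPG : PS F →* PG F).range(q)`, `q` odd, not containing `PS(toPG : PS F →* PG F).range(q)`.
-/

set_option autoImplicit false
set_option linter.unusedSectionVars false

namespace CfsgLib.PSL2Sub

open Matrix

section IndexTwo

variable {G : Type*} [Group G] [Finite G] {L : Subgroup G}

theorem card_of_not_le_index_two (hL : L.index = 2) (hn : L.Normal) {H : Subgroup G} (hH : ¬ H ≤ L) :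
    Nat.card H = 2 * Nat.card (L ⊓ H : Subgroup G) := by
  have h1 := (L.subgroupOf H).card_mul_index
  have h2 : Nat.card (L.subgroupOf H) = Nat.card (L ⊓ H : Subgroup G) := by
    rw [← Subgroup.inf_subgroupOf_right,
      Nat.card_congr (Subgroup.subgroupOfEquivOfLe inf_le_right).toEquiv]
  have h3 : (L.subgroupOf H).index = 2 := by
    have : L.relIndex H ∣ L.index := Subgroup.relIndex_dvd_index_of_normal L H
    rw [hL] at this
    exact ((Nat.dvd_prime Nat.prime_two).mp this).resolve_left fun h =>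
      hH (Subgroup.relIndex_eq_one.mp h)
  rw [h2, h3] at h1
  omega

/-- A normal subgroup above a simple index two subgroup is big, or has order at most two. -/
theorem card_le_two_or_le (hL : L.index = 2) (hn : L.Normal) [IsSimpleGroup L] {N : Subgroup G}
    (hN : N.Normal) : Nat.card N ≤ 2 ∨ L ≤ N := by
  rcases (show (N.subgroupOf L).Normal from inferInstance).eq_bot_or_eq_top with h | h
  · left
    have hb : (L ⊓ N : Subgroup G) = ⊥ := by
      rw [eq_bot_iff]
      rintro x ⟨hxL, hxN⟩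
      have hx : (⟨x, hxL⟩ : L) ∈ N.subgroupOf L := hxN
      rw [h, Subgroup.mem_bot] at hx
      exact Subgroup.mem_bot.mpr (congrArg Subtype.val hx)
    by_cases hNL : N ≤ L
    · rw [inf_eq_right.mpr hNL] at hb
      rw [hb, Subgroup.card_bot]
      omega
    · rw [card_of_not_le_index_two hL hn hNL, hb, Subgroup.card_bot]
  · exact Or.inr (Subgroup.subgroupOf_eq_top.mp h)

/-- No abelian maximal subgroup outside a simple subgroup of index two. -/
theorem no_abelian_coatom_two (hL : L.index = 2) (hn : L.Normal) [IsSimpleGroup L]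
    (h4 : 4 ∣ Nat.card L) {M : Subgroup G} (hM : IsCoatom M) (hML : ¬ L ≤ M)
    (hab : ∀ a ∈ M, ∀ b ∈ M, a * b = b * a) : False := by
  have hcardG : Nat.card G = 2 * Nat.card L := by
    rw [← L.card_mul_index, hL, mul_comm]
  have hnot : ∀ r : ℕ, r.Prime → ¬ ∃ a, Nat.card L = r ^ a := by
    rintro r hr ⟨a, ha⟩
    haveI := Fact.mk hr
    have hP : IsPGroup r L := IsPGroup.of_card ha
    haveI : Nontrivial L := Finite.one_lt_card_iff_nontrivial.mp (by
      have := Nat.le_of_dvd Nat.card_pos h4; omega)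
    have hc : Subgroup.center L = ⊤ :=
      (inferInstance : (Subgroup.center L).Normal).eq_bot_or_eq_top.resolve_left
        (bot_lt_iff_ne_bot.mp hP.bot_lt_center)
    letI : CommGroup L := Group.commGroupOfCenterEqTop hc
    have hp : (Nat.card L).Prime := IsSimpleGroup.prime_card
    rcases hp.eq_one_or_self_of_dvd 4 h4 with h | h
    · omega
    · exact absurd (h ▸ hp) (by norm_num)
  obtain ⟨r, hr, hrdvd, hrn⟩ : ∃ r : ℕ, r.Prime ∧ r ∣ Nat.card M ∧
      ∀ R : Subgroup G, R ≤ M → IsPGroup r R → r ∣ Nat.card R →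
        (∀ S : Subgroup G, S ≤ M → IsPGroup r S → R ≤ S → S = R) → ¬ R.Normal := by
    by_contra hcon
    push Not at hcon
    have hM2 : Nat.card M ≤ 2 := by
      have key : ∀ r : ℕ, r.Prime → r ∣ Nat.card M → r = 2 ∧ ¬ 2 ^ 2 ∣ Nat.card M := by
        intro r hr hd
        haveI := Fact.mk hr
        obtain ⟨R, hRM, hRp, hrR, hmax, hRn⟩ := hcon r hr hd
        rcases card_le_two_or_le hL hn hRn with h | h
        · have h2 : r = 2 := le_antisymm ((Nat.le_of_dvd Nat.card_pos hrR).trans h) hr.two_le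
          subst h2
          refine ⟨rfl, fun h22 => ?_⟩
          obtain ⟨Q, hQ⟩ := (hRp.comap_of_injective M.subtype M.subtype_injective).exists_le_sylow
          have hQ4 : 4 ∣ Nat.card Q := Q.pow_dvd_card_of_pow_dvd_card h22
          have e := hmax ((Q : Subgroup M).map M.subtype) (Subgroup.map_subtype_le _)
            (Q.2.map M.subtype) (fun x hx => ⟨⟨x, hRM hx⟩, hQ hx, rfl⟩)
          have hc : Nat.card ((Q : Subgroup M).map M.subtype) = Nat.card Q :=
            (Nat.card_congr ((Q : Subgroup M).equivMapOfInjective _ M.subtype_injective).toEquiv).symm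
          rw [e] at hc
          have := Nat.le_of_dvd Nat.card_pos hQ4
          omega
        · exact absurd (h.trans hRM) hML
      by_contra hlt
      obtain ⟨r, hr, hd⟩ := Nat.exists_prime_and_dvd (n := Nat.card M) (by omega)
      obtain ⟨rfl, -⟩ := key r hr hd
      obtain ⟨c, hc⟩ := hd
      obtain ⟨s, hs, hsd⟩ := Nat.exists_prime_and_dvd (n := c) (by omega)
      obtain ⟨rfl, h22⟩ := key s hs (hc ▸ hsd.mul_left 2)
      exact h22 (by rw [hc, pow_two]; exact Nat.mul_dvd_mul_left 2 hsd)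
    haveI : Fact (Nat.Prime 2) := ⟨Nat.prime_two⟩
    have hMp : IsPGroup 2 M := by
      rcases (show Nat.card M = 1 ∨ Nat.card M = 2 by have := Nat.card_pos (α := M); omega) with h | h
      · exact IsPGroup.of_card (n := 0) h
      · exact IsPGroup.of_card (n := 1) h
    obtain ⟨S, hS⟩ := hMp.exists_le_sylow
    have h8 : 8 ∣ Nat.card S := by
      have := S.pow_dvd_card_of_pow_dvd_card (n := 3)
        (by rw [hcardG]; exact Nat.mul_dvd_mul_left 2 h4)
      simpa using this
    rcases hM.le_iff.mp hS with h | h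
    · have htop : IsPGroup 2 (⊤ : Subgroup G) := h ▸ S.2
      obtain ⟨a, ha⟩ := IsPGroup.iff_card.mp htop
      rw [Subgroup.card_top, hcardG] at ha
      refine hnot 2 Nat.prime_two ⟨a - 1, ?_⟩
      cases a with
      | zero => omega
      | succ a => rw [pow_succ] at ha; simp; omega
    · have := Nat.le_of_dvd Nat.card_pos h8
      rw [show Nat.card S = Nat.card M by rw [← h]] at this
      omega
  haveI := Fact.mk hr
  obtain ⟨Q⟩ : Nonempty (Sylow r M) := inferInstance
  set R : Subgroup G := (Q : Subgroup M).map M.subtype with hR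
  have hRM : R ≤ M := Subgroup.map_subtype_le _
  have hRc : Nat.card R = Nat.card Q :=
    (Nat.card_congr ((Q : Subgroup M).equivMapOfInjective _ M.subtype_injective).toEquiv).symm
  have hRn : ¬ R.Normal := hrn R hRM (Q.2.map M.subtype) (hRc ▸ Q.dvd_card_of_dvd_card hrdvd)
    fun S hSM hSp hle => by
      have e : S.subgroupOf M = Q := Q.is_maximal'
        (hSp.comap_of_injective M.subtype M.subtype_injective)
        (fun x hx => hle ⟨x, hx, rfl⟩)
      rw [hR, ← e, Subgroup.map_subgroupOf_eq_of_le hSM]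
  have hMN : M ≤ Subgroup.normalizer (R : Set G) := fun m hm =>
    Subgroup.mem_normalizer_iff.mpr fun x => by
      constructor
      · intro hx
        rwa [hab m hm x (hRM hx), mul_inv_cancel_right]
      · intro hx
        have h1 : x = m⁻¹ * (m * x * m⁻¹) * m := by group
        rw [h1, hab m⁻¹ (M.inv_mem hm) _ (hRM hx), inv_mul_cancel_right]
        exact hx
  have hNR : Subgroup.normalizer (R : Set G) = M :=
    (hM.le_iff.mp hMN).resolve_left fun h => hRn (Subgroup.normalizer_eq_top_iff.mp h)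
  obtain ⟨S, hRS⟩ := (Q.2.map M.subtype).exists_le_sylow
  have hSR : (S : Subgroup G) = R := by
    by_contra hne
    haveI : Group.IsNilpotent (S : Subgroup G) := S.2.isNilpotent
    have hlt : R.subgroupOf (S : Subgroup G) < ⊤ := lt_top_iff_ne_top.mpr fun h =>
      hne (le_antisymm (Subgroup.subgroupOf_eq_top.mp h) hRS)
    obtain ⟨x, hx, hxR⟩ := SetLike.exists_of_lt
      (Group.normalizerCondition_of_isNilpotent (R.subgroupOf (S : Subgroup G)) hlt)
    have hxM : (x : G) ∈ M := by
      rw [← hNR, Subgroup.mem_normalizer_iff]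
      intro y
      constructor
      · intro hy
        exact (Subgroup.mem_normalizer_iff.mp hx ⟨y, hRS hy⟩).mp hy
      · intro hy
        have hyS : y ∈ (S : Subgroup G) := by
          have h1 : y = (x : G)⁻¹ * ((x : G) * y * (x : G)⁻¹) * x := by group
          rw [h1]
          exact mul_mem (mul_mem (inv_mem x.2) (hRS hy)) x.2
        exact (Subgroup.mem_normalizer_iff.mp hx ⟨y, hyS⟩).mpr hy
    have hQS : (Q : Subgroup M) ≤ (S : Subgroup G).subgroupOf M := fun y hy =>
      hRS ⟨y, hy, rfl⟩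
    have hp : IsPGroup r ((S : Subgroup G).subgroupOf M) :=
      S.2.comap_of_injective M.subtype M.subtype_injective
    have : (⟨x, hxM⟩ : M) ∈ (Q : Subgroup M) := Q.is_maximal' hp hQS ▸ x.2
    exact hxR ⟨⟨x, hxM⟩, this, rfl⟩
  have hNC : Subgroup.normalizer ((S : Subgroup G) : Set G) ≤
      Subgroup.centralizer ((S : Subgroup G) : Set G) := by
    rw [hSR, hNR]
    intro m hm
    rw [Subgroup.mem_centralizer_iff]
    exact fun y hy => hab y (hRM hy) m hm
  have hc := MonoidHom.ker_transferSylow_isComplement' S hNC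
  have hmul := hc.card_mul
  rw [hcardG] at hmul
  have hKn : (MonoidHom.transferSylow S hNC).ker.Normal := inferInstance
  obtain ⟨a, ha⟩ := IsPGroup.iff_card.mp S.2
  rcases card_le_two_or_le hL hn hKn with h | h
  · rcases (show Nat.card (MonoidHom.transferSylow S hNC).ker = 1 ∨
        Nat.card (MonoidHom.transferSylow S hNC).ker = 2 by
        have := Nat.card_pos (α := (MonoidHom.transferSylow S hNC).ker); omega) with h' | h'
    · rw [h', one_mul] at hmul
      have := Subgroup.card_le_of_le hRM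
      rw [← hSR] at this
      exact hM.1 (Subgroup.eq_top_of_card_eq _ (le_antisymm (Subgroup.card_le_card_group M)
        (by rw [hcardG, ← hmul]; exact this)))
    · rw [h'] at hmul
      exact hnot r hr ⟨a, by rw [← ha]; omega⟩
  · have h2 := Subgroup.card_le_of_le h
    have hS8 : r = 2 → 8 ≤ Nat.card S := fun hr2 => by
      subst hr2
      have := S.pow_dvd_card_of_pow_dvd_card (n := 3)
        (by rw [hcardG]; exact Nat.mul_dvd_mul_left 2 h4)
      exact Nat.le_of_dvd Nat.card_pos (by simpa using this)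
    have hSle : Nat.card S ≤ 2 := by
      by_contra hlt
      have := Nat.mul_le_mul h2 (show 3 ≤ Nat.card S by omega)
      have := Nat.card_pos (α := L)
      omega
    have hr2 : r = 2 := by
      have hd : r ∣ Nat.card S := by
        rw [show Nat.card S = Nat.card R by rw [← hSR], hRc]
        exact Q.dvd_card_of_dvd_card hrdvd
      exact le_antisymm ((Nat.le_of_dvd Nat.card_pos hd).trans hSle) hr.two_le
    have := hS8 hr2
    omega

end IndexTwo

variable {F : Type*} [Field F] [Fintype F]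

theorem isConjFrom_pair {K : Type*} [Field K] (ι : K →+* F) {A B : GL (Fin 2) K}
    {X Y P : GL (Fin 2) F} (hX : X = P * GeneralLinearGroup.map ι A * P⁻¹)
    (hY : Y = P * GeneralLinearGroup.map ι B * P⁻¹) :
    (X : Matrix (Fin 2) (Fin 2) F).trace = ι (A : Matrix (Fin 2) (Fin 2) K).trace ∧
    (X : Matrix (Fin 2) (Fin 2) F).det = ι (A : Matrix (Fin 2) (Fin 2) K).det ∧
    ((X : Matrix (Fin 2) (Fin 2) F) * (Y : Matrix (Fin 2) (Fin 2) F)).trace =
      ι ((A : Matrix (Fin 2) (Fin 2) K) * (B : Matrix (Fin 2) (Fin 2) K)).trace := by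
  refine ⟨?_, ?_, ?_⟩
  · rw [hX, Units.val_mul, Units.val_mul, Matrix.trace_units_conj]
    simp [Matrix.trace_fin_two]
  · rw [hX, Units.val_mul, Units.val_mul, Matrix.det_units_conj]
    simp [Matrix.det_fin_two]
  · rw [← Units.val_mul, show X * Y = P * GeneralLinearGroup.map ι (A * B) * P⁻¹ by
      rw [hX, hY, map_mul]; group, Units.val_mul, Units.val_mul, Matrix.trace_units_conj]
    simp [Matrix.trace_fin_two, Matrix.mul_apply, Fin.sum_univ_two]

theorem alt_four_gen_swap : ∃ a b : alternatingGroup (Fin 4), a ^ 3 = 1 ∧ b ^ 3 = 1 ∧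
    (a * b) ^ 2 = 1 ∧ a ≠ 1 ∧ b ≠ 1 ∧ a * b ≠ 1 ∧
    (∀ g, ∃ i j l : Fin 3, g = a ^ (i : ℕ) * b ^ (j : ℕ) * a ^ (l : ℕ)) ∧
    ∀ x, x * a * x⁻¹ ≠ b := by
  decide +kernel

/-- A tetrahedral subgroup is, with an element swapping two generators of it, defined over any
subfield. -/
theorem alt_four_swap {K : Type*} [Field K] [Fintype K] (ι : K →+* F) (h2 : (2 : K) ≠ 0)
    (h3 : (3 : K) ≠ 0) {H : Subgroup (PS F)} (e : H ≃* alternatingGroup (Fin 4)) :
    ∃ (a b : H) (R : Subgroup (PG F)), (∀ x : H, x * a * x⁻¹ ≠ b) ∧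
      Nat.card R = Nat.card (PG K) ∧ H.map toPG ≤ R ∧
      ∃ z ∈ R, z * toPG (a : PS F) * z⁻¹ = toPG (b : PS F) ∧
        (H.map toPG).map (MulAut.conj z).toMonoidHom = H.map toPG := by
  classical
  obtain ⟨A, B, hAB⟩ := exists_normal_form ι (1 : K) 1 1 1 0 one_ne_zero one_ne_zero
    (fun h => h3 (by linear_combination -h)) (fun h => h2 (by linear_combination -h))
  obtain ⟨A₀, B₀, hAB₀⟩ := exists_normal_form (RingHom.id K) (1 : K) 1 1 1 0 one_ne_zero one_ne_zero
    (fun h => h3 (by linear_combination -h)) (fun h => h2 (by linear_combination -h))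
  obtain ⟨a, b, ha, hb, hab, ha1, hb1, hab1, hw, hnc⟩ := alt_four_gen_swap
  obtain ⟨hp, hn, hn1⟩ := symm_facts e
  have hgen : Subgroup.closure {a, b} = ⊤ := by
    rw [eq_top_iff]
    intro g _
    obtain ⟨i, j, l, rfl⟩ := hw g
    exact mul_mem (mul_mem (pow_mem (Subgroup.subset_closure (by simp)) _)
      (pow_mem (Subgroup.subset_closure (by simp)) _)) (pow_mem (Subgroup.subset_closure (by simp)) _)
  set x : PS F := (e.symm a : PS F) with hx
  set y : PS F := (e.symm b : PS F) with hy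
  have hxy : x * y = (e.symm (a * b) : PS F) := by rw [map_mul]; rfl
  obtain ⟨s, hs, hsX⟩ := exists_lift x
  obtain ⟨s', hs', hsY⟩ := exists_lift y
  have ts := (trace_of_pow s (by rw [hs]; exact hn1 a ha1)).2.1
    (by rw [hs]; exact hp a 3 ha)
  have ts' := (trace_of_pow s' (by rw [hs']; exact hn1 b hb1)).2.1
    (by rw [hs']; exact hp b 3 hb)
  have t3 := mul_trace_zero hs hs' (by rw [hxy]; exact hp _ 2 hab)
    (by rw [hxy]; exact hn1 _ hab1)
  obtain ⟨hc, hcc⟩ := inv_self_of_sq ts
  obtain ⟨hc', hcc'⟩ := inv_self_of_sq ts'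
  obtain ⟨X, hX, hXv, hXt, hXd⟩ := hsX _ hc
  obtain ⟨Y, hY, hYv, hYt, hYd⟩ := hsY _ hc'
  have e1 : (X : Matrix (Fin 2) (Fin 2) F).trace = 1 := by rw [hXt, hcc]
  have e2 : (X : Matrix (Fin 2) (Fin 2) F).det = 1 := by rw [hXd, ts]
  have e3 : (Y : Matrix (Fin 2) (Fin 2) F).trace = 1 := by rw [hYt, hcc']
  have e4 : (Y : Matrix (Fin 2) (Fin 2) F).det = 1 := by rw [hYd, ts']
  have e5 : ((X : Matrix (Fin 2) (Fin 2) F) * (Y : Matrix (Fin 2) (Fin 2) F)).trace = 0 := by
    rw [hXv, hYv, smul_mul_smul_comm, Matrix.trace_smul, t3, smul_zero]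
  obtain ⟨P, hPX, hPY⟩ := hAB X Y (by rw [e1, map_one]) (by rw [e2, map_one])
    (by rw [e3, map_one]) (by rw [e4, map_one]) (by rw [e5, map_zero])
  obtain ⟨a1, a2, a5⟩ := isConjFrom_pair ι hPX hPY
  obtain ⟨b1, b2, b5⟩ := isConjFrom_pair ι hPY hPX
  have f5 : ((Y : Matrix (Fin 2) (Fin 2) F) * (X : Matrix (Fin 2) (Fin 2) F)).trace = 0 := by
    rw [Matrix.trace_mul_comm, e5]
  have tA := ι.injective ((a1.symm.trans e1).trans ι.map_one.symm)
  have dA := ι.injective ((a2.symm.trans e2).trans ι.map_one.symm)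
  have tB := ι.injective ((b1.symm.trans e3).trans ι.map_one.symm)
  have dB := ι.injective ((b2.symm.trans e4).trans ι.map_one.symm)
  have tAB := ι.injective ((a5.symm.trans e5).trans ι.map_zero.symm)
  have tBA := ι.injective ((b5.symm.trans f5).trans ι.map_zero.symm)
  obtain ⟨Q₁, h11, h12⟩ := hAB₀ A B tA dA tB dB tAB
  obtain ⟨Q₂, h21, h22⟩ := hAB₀ B A tB dB tA dA tBA
  set z₀ : GL (Fin 2) K := Q₂ * Q₁⁻¹ with hz₀
  have hzA : z₀ * A * z₀⁻¹ = B := by rw [hz₀, h11, h21]; group
  have hzB : z₀ * B * z₀⁻¹ = A := by rw [hz₀, h12, h22]; group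
  set φ := ProjGenLinGroup.map (n := Fin 2) ι with hφ
  set g : PG F := ProjGenLinGroup.mk P with hg
  have hgx : toPG x = g * φ (ProjGenLinGroup.mk A) * g⁻¹ := by
    rw [← hX, hPX, map_mul, map_mul, map_inv, hφ, ProjGenLinGroup.map_mk, hg]
  have hgy : toPG y = g * φ (ProjGenLinGroup.mk B) * g⁻¹ := by
    rw [← hY, hPY, map_mul, map_mul, map_inv, hφ, ProjGenLinGroup.map_mk, hg]
  set z : PG F := g * φ (ProjGenLinGroup.mk z₀) * g⁻¹ with hz
  have hzx : z * toPG x * z⁻¹ = toPG y := by
    rw [hgx, hgy, ← hzA, map_mul, map_mul, map_inv, map_mul, map_mul, map_inv, hz]; group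
  have hzy : z * toPG y * z⁻¹ = toPG x := by
    rw [hgx, hgy, ← hzB, map_mul, map_mul, map_inv, map_mul, map_mul, map_inv, hz]; group
  refine ⟨e.symm a, e.symm b, φ.range.map (MulAut.conj g).toMonoidHom, fun w hw' => hnc (e w) ?_,
    ?_, ?_, z, ?_, hzx, ?_⟩
  · have := congrArg e hw'
    simpa using this
  · rw [card_map_conj, ← Nat.card_congr (MonoidHom.ofInjective (map_injective_pgl ι)).toEquiv]
  · rw [← image_gen e hgen, MonoidHom.map_closure, Subgroup.closure_le, Set.image_pair]
    rintro w (rfl | rfl)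
    · exact ⟨_, ⟨_, rfl⟩, hgx.symm⟩
    · exact ⟨_, ⟨_, rfl⟩, hgy.symm⟩
  · exact ⟨_, ⟨_, rfl⟩, rfl⟩
  · rw [← image_gen e hgen, MonoidHom.map_closure, MonoidHom.map_closure, Set.image_pair,
      Set.image_pair]
    simp only [MulEquiv.coe_toMonoidHom, MulAut.conj_apply]
    rw [hzx, hzy, Set.pair_comm]

theorem four_dvd_card_PS (p : ℕ) [Fact p.Prime] [CharP F p] (hp : p ≠ 2) :
    4 ∣ Nat.card (PS F) := by
  obtain ⟨hq, hd⟩ := (card_parity (F := F) p).1 hp
  have hG := gcd_mul_card_PS (F := F)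
  rw [hd] at hG
  obtain ⟨j, hj⟩ : ∃ j, Fintype.card F = 2 * j + 1 := ⟨Fintype.card F / 2, by omega⟩
  rw [hj, show (2 * j + 1) ^ 2 - 1 = 4 * (j * (j + 1)) by
    rw [show (2 * j + 1) ^ 2 = 4 * (j * (j + 1)) + 1 by ring, Nat.add_sub_cancel]] at hG
  obtain ⟨i, hi⟩ := Nat.even_mul_succ_self j
  refine ⟨(2 * j + 1) * i, ?_⟩
  rw [hi] at hG
  have : (2 * j + 1) * (4 * (i + i)) = 2 * (4 * ((2 * j + 1) * i)) := by ring
  omega

/-- Tori and their inverters inside the normaliser of a cyclic subgroup. -/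
theorem exists_torus_normalizing (p : ℕ) [Fact p.Prime] [CharP F p] (hp2 : p ≠ 2) {c : PS F}
    (hc1 : c ≠ 1) (hc : ¬ p ∣ orderOf c) :
    ∃ n, (n = Fintype.card F - 1 ∨ n = Fintype.card F + 1) ∧ orderOf c ∣ n / 2 ∧
      (6 ≤ n → ∃ D : Subgroup (PS F), n / 2 < Nat.card D ∧ n / 2 ∣ Nat.card D ∧
        D ≤ Subgroup.normalizer (Subgroup.zpowers c : Set (PS F))) := by
  obtain ⟨L, rfl⟩ := QuotientGroup.mk_surjective c
  obtain ⟨hq, hd⟩ := (card_parity (F := F) p).1 hp2
  have h2 : (2 : F) ≠ 0 := two_ne_zero_of_card_odd hq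
  have hreg : (L : Matrix (Fin 2) (Fin 2) F).trace ^ 2 ≠ 4 := fun h => by
    rcases (Nat.dvd_prime Fact.out).mp (orderOf_dvd_of_pow_eq_one (x := (QuotientGroup.mk L : PS F))
      (n := p) (by rw [← QuotientGroup.mk_pow, QuotientGroup.eq_one_iff]
                   exact CfsgLib.SL2Trace.pow_char_mem_center p L h)) with h' | h'
    · exact hc1 (orderOf_eq_one_iff.mp h')
    · exact hc h'.symm.dvd
  obtain ⟨hcyc, hyes, hno⟩ := CfsgLib.SL2Trace.centralizer_card_cyclic L hreg
  set T := Subgroup.centralizer ({L} : Set (SpecialLinearGroup (Fin 2) F)) with hT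
  obtain ⟨g, hg⟩ := hcyc.exists_generator
  have hn : Nat.card T = Fintype.card F - 1 ∨ Nat.card T = Fintype.card F + 1 := by
    by_cases h : ∃ u : F, u ^ 2 - (L : Matrix (Fin 2) (Fin 2) F).trace * u + 1 = 0
    · exact Or.inl (hyes h)
    · exact Or.inr (hno h)
  have hgo : orderOf (g : SpecialLinearGroup (Fin 2) F) = Nat.card T := by
    rw [Subgroup.orderOf_coe]
    exact orderOf_eq_card_of_forall_mem_zpowers hg
  set t : PS F := CfsgLib.SL2Trace.toPSL (g : SpecialLinearGroup (Fin 2) F) with ht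
  have hto : orderOf t = Nat.card T / 2 := by
    rw [ht, CfsgLib.SL2Trace.orderOf_toPSL _ (by rw [hgo]; omega), hgo, hd]
  have hct : (QuotientGroup.mk L : PS F) ∈ Subgroup.zpowers t := by
    obtain ⟨i, hi⟩ := Subgroup.mem_zpowers_iff.mp
      (hg ⟨L, Subgroup.mem_centralizer_singleton_iff.mpr rfl⟩)
    refine Subgroup.mem_zpowers_iff.mpr ⟨i, ?_⟩
    rw [ht]
    show (QuotientGroup.mk (g : SpecialLinearGroup (Fin 2) F) : PS F) ^ i = QuotientGroup.mk L
    rw [← QuotientGroup.mk_zpow, ← Subgroup.coe_zpow, hi]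
  refine ⟨Nat.card T, hn, hto ▸ orderOf_dvd_of_mem_zpowers hct, fun h6 => ?_⟩
  obtain ⟨U, hU⟩ := CfsgLib.SL2Trace.exists_inverter hreg
  obtain ⟨-, hinv⟩ := CfsgLib.SL2Trace.inverts_of_conj_eq_inv hreg h2 hU
  set u : PS F := CfsgLib.SL2Trace.toPSL U with hu
  have hut : ∀ w ∈ T, u * (QuotientGroup.mk w : PS F) * u⁻¹ = (QuotientGroup.mk w : PS F)⁻¹ := by
    intro w hw
    rw [hu, CfsgLib.SL2Trace.toPSL, ← QuotientGroup.mk_mul, ← QuotientGroup.mk_inv,
      ← QuotientGroup.mk_mul, ← QuotientGroup.mk_inv, hinv w hw]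
  have hnot : u ∉ Subgroup.zpowers t := fun h => by
    obtain ⟨i, hi⟩ := Subgroup.mem_zpowers_iff.mp h
    have h1 := hut _ g.2
    rw [← hi] at h1
    change t ^ i * t * (t ^ i)⁻¹ = t⁻¹ at h1
    rw [((Commute.refl t).zpow_left i).eq, mul_inv_cancel_right] at h1
    have := orderOf_le_of_pow_eq_one (x := t) two_pos
      (by rw [pow_two]; nth_rewrite 1 [h1]; rw [inv_mul_cancel])
    omega
  refine ⟨Subgroup.zpowers t ⊔ Subgroup.zpowers u, ?_, ?_, sup_le ?_ ?_⟩
  · rw [← hto, ← Nat.card_zpowers]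
    by_contra h
    exact hnot (Subgroup.eq_of_le_of_card_ge le_sup_left (not_lt.mp h) ▸
      Subgroup.mem_sup_right (Subgroup.mem_zpowers u))
  · rw [← hto, ← Nat.card_zpowers]
    exact Subgroup.card_dvd_of_le le_sup_left
  · rw [Subgroup.zpowers_le, Subgroup.mem_normalizer_iff_map_conj_eq, MonoidHom.map_zpowers]
    show Subgroup.zpowers (t * (QuotientGroup.mk L : PS F) * t⁻¹) = _
    obtain ⟨i, hi⟩ := Subgroup.mem_zpowers_iff.mp hct
    rw [← hi, ((Commute.refl t).zpow_right i).eq, mul_inv_cancel_right]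
  · rw [Subgroup.zpowers_le, Subgroup.mem_normalizer_iff_map_conj_eq, MonoidHom.map_zpowers]
    show Subgroup.zpowers (u * (QuotientGroup.mk L : PS F) * u⁻¹) = _
    rw [hut L (Subgroup.mem_centralizer_singleton_iff.mpr rfl), Subgroup.zpowers_inv]

section Odd

variable (p : ℕ) [Fact p.Prime] [CharP F p]

theorem psl_index_two (hp : p ≠ 2) : ((toPG : PS F →* PG F).range).index = 2 := by
  rw [index_range_toPG, ((card_parity (F := F) p).1 hp).2]

theorem card_eq_two_mul (hp : p ≠ 2) {M : Subgroup (PG F)} (hM : ¬ M ≤ (toPG : PS F →* PG F).range) :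
    Nat.card M = 2 * Nat.card (M.comap (toPG : PS F →* PG F)) := by
  haveI : Finite (PG F) := Finite.of_surjective _ ProjGenLinGroup.mk_surjective
  rw [card_of_not_le_index_two (psl_index_two p hp) range_toPG_normal hM, ← Subgroup.map_comap_eq,
    Nat.card_congr ((M.comap (toPG : PS F →* PG F)).equivMapOfInjective _ toPG_injective).toEquiv]

theorem not_le_psl (hp : p ≠ 2) {M : Subgroup (PG F)} (hM : IsCoatom M) (hML : ¬ (toPG : PS F →* PG F).range ≤ M) :
    ¬ M ≤ (toPG : PS F →* PG F).range := by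
  intro h
  have hne : ((toPG : PS F →* PG F).range) ≠ ⊤ := fun ht => by
    have := psl_index_two (F := F) p hp
    rw [ht, Subgroup.index_top] at this
    omega
  rcases hM.le_iff.mp h with h' | h'
  · exact hne h'
  · exact hML h'.le

theorem normalizer_eq_of_le_psl (h4 : 4 ≤ Fintype.card F) {M : Subgroup (PG F)} (hM : IsCoatom M)
    (hML : ¬ (toPG : PS F →* PG F).range ≤ M) {C : Subgroup (PS F)} (hC : C ≠ ⊥) (hCM : C.map toPG ≤ M)
    (hle : M ≤ Subgroup.normalizer (C.map toPG : Set (PG F))) :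
    Subgroup.normalizer (C.map toPG : Set (PG F)) = M := by
  refine (hM.le_iff.mp hle).resolve_left fun h => ?_
  haveI := isSimpleGroup_PS h4
  haveI hn : (C.map (toPG : PS F →* PG F)).Normal := Subgroup.normalizer_eq_top_iff.mp h
  have : (C : Subgroup (PS F)).Normal := by
    have := hn.comap (toPG : PS F →* PG F)
    rwa [Subgroup.comap_map_eq_self_of_injective toPG_injective] at this
  rcases this.eq_bot_or_eq_top with h' | h'
  · exact hC h'
  · apply hML
    rw [MonoidHom.range_eq_map, ← h']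
    exact hCM

theorem no_eight_five (hp : p ≠ 2) (h5 : Fintype.card F = 5) {M : Subgroup (PG F)} (hM : IsCoatom M)
    (hML : ¬ (toPG : PS F →* PG F).range ≤ M) (h8 : Nat.card M = 8) : False := by
  classical
  haveI : Finite (PG F) := Finite.of_surjective _ ProjGenLinGroup.mk_surjective
  haveI := isSimpleGroup_PS (F := F) (by omega)
  haveI : Fact (Nat.Prime 2) := ⟨Nat.prime_two⟩
  have hnl := not_le_psl p hp hM hML
  set V := M.comap (toPG : PS F →* PG F) with hV
  have hV4 : Nat.card V = 4 := by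
    have := card_eq_two_mul p hp hnl
    rw [h8, ← hV] at this
    omega
  have h60 : Nat.card (PS F) = 60 := by
    have := gcd_mul_card_PS (F := F)
    rw [((card_parity (F := F) p).1 hp).2, h5, show 5 * (5 ^ 2 - 1) = 2 * 60 from rfl] at this
    omega
  have hle : M ≤ Subgroup.normalizer (V.map toPG : Set (PG F)) := by
    intro m hm
    rw [hV, Subgroup.map_comap_eq, Subgroup.mem_normalizer_iff]
    intro x
    haveI := range_toPG_normal (F := F)
    constructor
    · rintro ⟨hx, hx'⟩
      exact ⟨Subgroup.Normal.conj_mem inferInstance x hx m, M.mul_mem (M.mul_mem hm hx') (M.inv_mem hm)⟩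
    · rintro ⟨hx, hx'⟩
      have e : x = m⁻¹ * (m * x * m⁻¹) * m⁻¹⁻¹ := by group
      rw [e]
      exact ⟨Subgroup.Normal.conj_mem inferInstance _ hx _,
        M.mul_mem (M.mul_mem (M.inv_mem hm) hx') (M.inv_mem (M.inv_mem hm))⟩
  have hN := normalizer_eq_of_le_psl (by omega) hM hML
    (C := V) (fun h => by rw [h, Subgroup.card_bot] at hV4; omega)
    (Subgroup.map_comap_le _ _) hle
  obtain ⟨S, hS⟩ := (IsPGroup.of_card (p := 2) (n := 2) (hV4.trans (by norm_num))).exists_le_sylow
  have hSV : (S : Subgroup (PS F)) = V := by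
    obtain ⟨a, ha⟩ := IsPGroup.iff_card.mp S.2
    have hd : 2 ^ a ∣ 60 := h60 ▸ ha ▸ Subgroup.card_subgroup_dvd_card _
    refine (Subgroup.eq_of_le_of_card_ge hS ?_).symm
    rw [ha, hV4]
    have : a ≤ 2 := by
      by_contra h
      exact absurd ((Nat.pow_dvd_pow 2 (show 3 ≤ a by omega)).trans hd) (by norm_num)
    exact (Nat.pow_le_pow_right two_pos this).trans (by norm_num)
  have hcomm : ∀ a ∈ V, ∀ b ∈ V, a * b = b * a := by
    intro a ha b hb
    have hc := IsPGroup.commutative_of_card_eq_prime_sq (p := 2) (G := V)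
      (hV4.trans (by norm_num)) ⟨a, ha⟩ ⟨b, hb⟩
    exact congrArg Subtype.val hc
  have hNC : Subgroup.normalizer ((S : Subgroup (PS F)) : Set (PS F)) ≤
      Subgroup.centralizer ((S : Subgroup (PS F)) : Set (PS F)) := by
    rw [hSV]
    intro x hx
    have : x ∈ V := by
      rw [hV, Subgroup.mem_comap, ← hN]
      exact (Subgroup.le_normalizer_map (toPG : PS F →* PG F)) ⟨x, hx, rfl⟩
    rw [Subgroup.mem_centralizer_iff]
    exact fun y hy => hcomm y hy x this
  have hc := MonoidHom.ker_transferSylow_isComplement' S hNC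
  have hmul := hc.card_mul
  have hS4 : Nat.card S = 4 :=
    (congrArg (fun H : Subgroup (PS F) => Nat.card H) hSV).trans hV4
  rw [hS4, h60] at hmul
  rcases (MonoidHom.transferSylow S hNC).normal_ker.eq_bot_or_eq_top with h | h
  · rw [h, Subgroup.card_bot] at hmul; omega
  · rw [h, Subgroup.card_top] at hmul; omega

theorem dihedral_case (hp : p ≠ 2) (h5 : 5 ≤ Fintype.card F) {M : Subgroup (PG F)}
    (hM : IsCoatom M) (hML : ¬ (toPG : PS F →* PG F).range ≤ M) {k : ℕ} (hk : 3 ≤ k) (hpk : ¬ p ∣ k)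
    (e : M ≃* DihedralGroup k) :
    (k = Fintype.card F - 1 ∧ Fintype.card F ≠ 5) ∨ k = Fintype.card F + 1 := by
  classical
  haveI : Finite (PG F) := Finite.of_surjective _ ProjGenLinGroup.mk_surjective
  haveI : NeZero k := ⟨by omega⟩
  have hq := ((card_parity (F := F) p).1 hp).1
  have hnl := not_le_psl p hp hM hML
  set r : M := e.symm (DihedralGroup.r 1) with hr
  have hro : orderOf (r : PG F) = k := by
    rw [Subgroup.orderOf_coe, hr, MulEquiv.orderOf_eq, DihedralGroup.orderOf_r_one]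
  have hkq : k ≤ Fintype.card F + 1 := by
    have := orderOf_le_card_add_one (r : PG F)
    rwa [hro, Nat.card_eq_fintype_card] at this
  have hcard : Nat.card M = 2 * k := (Nat.card_congr e.toEquiv).trans DihedralGroup.nat_card
  obtain ⟨c, hc⟩ : (r : PG F) ^ 2 ∈ (toPG : PS F →* PG F).range :=
    Subgroup.sq_mem_of_index_two (psl_index_two p hp) _
  have hc2 : orderOf c = k / Nat.gcd k 2 := by
    rw [← orderOf_injective (toPG : PS F →* PG F) toPG_injective, hc, orderOf_pow, hro]
  have hg2 : Nat.gcd k 2 ≤ 2 := Nat.le_of_dvd two_pos (Nat.gcd_dvd_right k 2)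
  have hk2c : k ∣ 2 * orderOf c := by
    rw [← hro]
    apply orderOf_dvd_of_pow_eq_one
    rw [pow_mul, ← hc, ← map_pow, pow_orderOf_eq_one, map_one]
  have hcne : c ≠ 1 := fun h => by
    rw [h, orderOf_one, mul_one] at hk2c
    have := Nat.le_of_dvd two_pos hk2c
    omega
  have hpc : ¬ p ∣ orderOf c := fun h => hpk (h.trans (by
    rw [hc2]; exact Nat.div_dvd_of_dvd (Nat.gcd_dvd_left k 2)))
  obtain ⟨n, hn, hcn, hD⟩ := exists_torus_normalizing p hp hcne hpc
  by_cases h6 : 6 ≤ n
  · obtain ⟨D, hD1, hD2, hD3⟩ := hD h6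
    have hrr := fun m : M => (dihedral_facts k (e m)).2
    have hN : Subgroup.normalizer ((Subgroup.zpowers c).map toPG : Set (PG F)) = M := by
      refine normalizer_eq_of_le_psl (by omega) hM hML ?_ ?_ fun m hm =>
        Subgroup.mem_normalizer_iff_map_conj_eq.mpr ?_
      · simpa [Subgroup.zpowers_eq_bot] using hcne
      · rw [MonoidHom.map_zpowers, hc, Subgroup.zpowers_le]
        exact pow_mem r.2 2
      · rw [MonoidHom.map_zpowers, MonoidHom.map_zpowers, hc]
        show Subgroup.zpowers (m * (r : PG F) ^ 2 * m⁻¹) = _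
        rcases hrr ⟨m, hm⟩ with h | h <;>
        · have h' := congrArg (fun x => (e.symm x : PG F)) h
          simp only [map_mul, map_inv, e.symm_apply_apply, Subgroup.coe_mul, Subgroup.coe_inv,
            ← hr] at h'
          rw [← conj_pow, h']
          try rw [inv_pow, Subgroup.zpowers_inv]
    have hDM : D ≤ M.comap toPG := by
      intro x hx
      rw [Subgroup.mem_comap, ← hN]
      exact Subgroup.le_normalizer_map _ ⟨x, hD3 hx, rfl⟩
    have hH : Nat.card (M.comap (toPG : PS F →* PG F)) = k := by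
      have := card_eq_two_mul p hp hnl
      omega
    have h1 := Subgroup.card_le_of_le hDM
    have h2 : n / 2 ∣ k := hH ▸ hD2.trans (Subgroup.card_dvd_of_le hDM)
    rw [hH] at h1
    obtain ⟨j, hj⟩ := h2
    have hn2 : n % 2 = 0 := by omega
    have hj2 : 2 ≤ j := by
      by_contra hlt
      have : n / 2 * j ≤ n / 2 * 1 := Nat.mul_le_mul_left _ (by omega)
      omega
    have hj3 : j ≤ 2 ∨ (n / 2) * 3 ≤ k := by
      rcases (show j ≤ 2 ∨ 3 ≤ j by omega) with h | h
      · exact Or.inl h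
      · exact Or.inr (hj ▸ Nat.mul_le_mul_left _ h)
    rcases hj3 with hj3 | hj3
    · obtain rfl : j = 2 := by omega
      rcases hn with hn | hn
      · exact Or.inl ⟨by omega, by omega⟩
      · exact Or.inr (by omega)
    · exact Or.inr (by omega)
  · exfalso
    clear hD
    have h4 : n = 4 ∧ Fintype.card F = 5 := by omega
    obtain ⟨rfl, hq5⟩ := h4
    have : orderOf c ≤ 2 := Nat.le_of_dvd two_pos hcn
    have h3 : k ≤ 4 := (Nat.le_of_dvd (by have := orderOf_pos c; omega) hk2c).trans (by omega)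
    have hk4 : k = 4 := by
      rcases (show k = 3 ∨ k = 4 by omega) with rfl | rfl
      · rw [show Nat.gcd 3 2 = 1 by norm_num, Nat.div_one] at hc2
        omega
      · rfl
    exact no_eight_five p hp hq5 hM hML (by omega)

theorem comap_normal_le (hp : p ≠ 2) {M : Subgroup (PG F)} :
    M ≤ Subgroup.normalizer ((M.comap (toPG : PS F →* PG F)).map toPG : Set (PG F)) := by
  intro m hm
  rw [Subgroup.map_comap_eq, Subgroup.mem_normalizer_iff]
  intro x
  haveI := range_toPG_normal (F := F)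
  constructor
  · rintro ⟨hx, hx'⟩
    exact ⟨Subgroup.Normal.conj_mem inferInstance x hx m, M.mul_mem (M.mul_mem hm hx') (M.inv_mem hm)⟩
  · rintro ⟨hx, hx'⟩
    have e : x = m⁻¹ * (m * x * m⁻¹) * m⁻¹⁻¹ := by group
    rw [e]
    exact ⟨Subgroup.Normal.conj_mem inferInstance _ hx _,
      M.mul_mem (M.mul_mem (M.inv_mem hm) hx') (M.inv_mem (M.inv_mem hm))⟩

theorem octahedral_case (hp : p ≠ 2) (h5 : 5 ≤ Fintype.card F) {M : Subgroup (PG F)}
    (hM : IsCoatom M) (hML : ¬ (toPG : PS F →* PG F).range ≤ M) (hp24 : ¬ p ∣ Nat.card M) (e : M ≃* Equiv.Perm (Fin 4)) :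
    Fintype.card F = p ∧ (p % 8 = 3 ∨ p % 8 = 5) := by
  classical
  haveI : Finite (PG F) := Finite.of_surjective _ ProjGenLinGroup.mk_surjective
  have hnl := not_le_psl p hp hM hML
  have h24 : Nat.card M = 24 := (Nat.card_congr e.toEquiv).trans card_sym_four
  rw [h24] at hp24
  have hpp : p.Prime := Fact.out
  have hp5 : 5 ≤ p := by
    rcases (show p = 3 ∨ p = 4 ∨ 5 ≤ p by have := hpp.two_le; omega) with h | h | h
    · exact absurd (by rw [h]; norm_num) hp24
    · exact absurd (h ▸ hpp) (by norm_num)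
    · exact h
  set H := M.comap (toPG : PS F →* PG F) with hH
  have hH12 : Nat.card H = 12 := by
    have := card_eq_two_mul p hp hnl
    rw [← hH] at this
    omega
  have hHM : H.map toPG ≤ M := Subgroup.map_comap_le _ _
  obtain ⟨eH⟩ : Nonempty (H ≃* alternatingGroup (Fin 4)) := by
    let ψ : H →* Equiv.Perm (Fin 4) := e.toMonoidHom.comp
      (((toPG : PS F →* PG F).comp H.subtype).codRestrict M fun x => x.2)
    have hψ : Function.Injective ψ := by
      intro x y h
      exact Subtype.ext (toPG_injective (congrArg Subtype.val (e.injective h)))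
    have hc : Nat.card ψ.range = 12 := by
      rw [← Nat.card_congr (MonoidHom.ofInjective hψ).toEquiv, hH12]
    have hidx : ψ.range.index = 2 := by
      have := ψ.range.card_mul_index
      rw [hc, card_sym_four] at this
      omega
    exact ⟨(MonoidHom.ofInjective hψ).trans
      (MulEquiv.subgroupCongr (Equiv.Perm.eq_alternatingGroup_of_index_eq_two hidx))⟩
  have hN : Subgroup.normalizer (H.map toPG : Set (PG F)) = M :=
    normalizer_eq_of_le_psl (by omega) hM hML
      (fun h => by rw [h, Subgroup.card_bot] at hH12; omega) hHM (comap_normal_le p hp)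
  obtain ⟨n, -, hn⟩ := FiniteField.card F p
  have h23 : ∀ a : ℕ, 0 < a → a < p → (a : ZMod p) ≠ 0 := fun a ha hlt h => by
    rw [ZMod.natCast_eq_zero_iff] at h
    exact absurd (Nat.le_of_dvd ha h) (by omega)
  have hnp : Fintype.card F = p := by
    by_contra hne
    have hn2 : 2 ≤ (n : ℕ) := by
      by_contra h
      exact hne (by rw [hn, show (n : ℕ) = 1 by have := n.pos; omega, pow_one])
    obtain ⟨a, b, R, hnc, hRc, hHR, z, hzR, hzab, hzH⟩ :=
      alt_four_swap (ZMod.castHom (dvd_refl p) F) (by exact_mod_cast h23 2 two_pos (by omega))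
        (by exact_mod_cast h23 3 (by norm_num) (by omega)) eH
    have hzM : z ∈ M := by
      rw [← hN, Subgroup.mem_normalizer_iff_map_conj_eq]
      exact hzH
    have hzL : z ∉ (toPG : PS F →* PG F).range := by
      rintro ⟨w, rfl⟩
      refine hnc ⟨w, hzM⟩ (Subtype.ext (toPG_injective ?_))
      rw [← hzab, Subgroup.coe_mul, Subgroup.coe_mul, Subgroup.coe_inv, map_mul, map_mul, map_inv]
    have hMR : M ≤ R := by
      intro m hm
      by_cases hmL : m ∈ (toPG : PS F →* PG F).range
      · obtain ⟨w, rfl⟩ := hmL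
        exact hHR ⟨w, hm, rfl⟩
      · have hmz : m * z⁻¹ ∈ (toPG : PS F →* PG F).range := by
          rw [Subgroup.mul_mem_iff_of_index_two (psl_index_two p hp), inv_mem_iff]
          exact iff_of_false hmL hzL
        obtain ⟨w, hw⟩ := hmz
        have hwM : toPG w ∈ M := hw ▸ mul_mem hm (inv_mem hzM)
        have := mul_mem (hHR ⟨w, hwM, rfl⟩) hzR
        rwa [hw, inv_mul_cancel_right] at this
    have hlow := pg_lower (K := ZMod p) (k := 5) (by rw [ZMod.card]; exact hp5)
    have hhigh := pg_bound (K := ZMod p) (F := F)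
      (by rw [ZMod.card, hn]; exact two_mul_le_pow (by omega) hn2)
    rcases hM.le_iff.mp hMR with h | h
    · rw [h, Subgroup.card_top] at hRc
      omega
    · rw [h, h24] at hRc
      norm_num at hlow
      omega
  refine ⟨hnp, ?_⟩
  by_contra h8
  have hodd := hpp.odd_of_ne_two hp
  rw [Nat.odd_iff] at hodd
  obtain ⟨W, ⟨eW⟩⟩ := (sym_four_iff (F := F)).mpr
    (by rw [hnp]; exact sq_mod_sixteen (by omega))
  have h2F : (2 : F) ≠ 0 := Ring.two_ne_zero (by rw [ringChar.eq F p]; omega)
  have h3F : (3 : F) ≠ 0 := fun h => by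
    have := (CharP.cast_eq_zero_iff F p 3).mp (by exact_mod_cast h)
    exact absurd (Nat.le_of_dvd (by norm_num) this) (by omega)
  obtain ⟨S, hS⟩ := alt_four_model (RingHom.id F) h2F h3F
  let φ : alternatingGroup (Fin 4) →* PS F :=
    (W.subtype.comp eW.symm.toMonoidHom).comp (alternatingGroup (Fin 4)).subtype
  have hφ : Function.Injective φ :=
    (W.subtype_injective.comp eW.symm.injective).comp (Subgroup.subtype_injective _)
  obtain ⟨g, hg⟩ := hS H ⟨eH⟩
  obtain ⟨g', hg'⟩ := hS φ.range ⟨(MonoidHom.ofInjective hφ).symm⟩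
  set u := g * g'⁻¹ with hu
  have hHu : H.map toPG = (φ.range.map toPG).map (MulAut.conj u).toMonoidHom := by
    rw [hg', hg]
    conv_rhs => rw [Subgroup.map_map]
    congr 1
    ext x
    simp [hu, MulAut.conj_apply]
    group
  have hWN : (W.map toPG).map (MulAut.conj u).toMonoidHom ≤ M := by
    rintro _ ⟨_, ⟨w, hw, rfl⟩, rfl⟩
    rw [← hN, Subgroup.mem_normalizer_iff_map_conj_eq, hHu, Subgroup.map_map]
    have key : (φ.range.map toPG).map (MulAut.conj (toPG w)).toMonoidHom = φ.range.map toPG := by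
      rw [MonoidHom.map_range, MonoidHom.map_range]
      obtain ⟨σ, hσ⟩ : ∃ σ, eW ⟨w, hw⟩ = σ := ⟨_, rfl⟩
      have hw' : w = W.subtype (eW.symm σ) := by rw [← hσ, eW.symm_apply_apply]; rfl
      ext x
      constructor
      · rintro ⟨a, rfl⟩
        refine ⟨⟨σ * a * σ⁻¹, (alternatingGroup.normal (α := Fin 4)).conj_mem a a.2 σ⟩, ?_⟩
        simp [φ, hw', MulAut.conj_apply]
      · rintro ⟨a, rfl⟩
        refine ⟨⟨σ⁻¹ * a * σ⁻¹⁻¹, (alternatingGroup.normal (α := Fin 4)).conj_mem a a.2 σ⁻¹⟩, ?_⟩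
        simp [φ, hw', MulAut.conj_apply, mul_assoc]
    conv_rhs => rw [← key, Subgroup.map_map]
    congr 1
    ext x
    simp [MulAut.conj_apply, mul_assoc]
  have hWH : (W.map toPG).map (MulAut.conj u).toMonoidHom ≤ H.map toPG := by
    rw [hH, Subgroup.map_comap_eq]
    refine le_inf ?_ hWN
    rintro _ ⟨_, ⟨w, -, rfl⟩, rfl⟩
    haveI := range_toPG_normal (F := F)
    exact Subgroup.Normal.conj_mem inferInstance (toPG w) (MonoidHom.mem_range.mpr ⟨w, rfl⟩) u
  have := Subgroup.card_le_of_le hWH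
  rw [card_map_conj, ← Nat.card_congr (W.equivMapOfInjective _ toPG_injective).toEquiv,
    ← Nat.card_congr (H.equivMapOfInjective _ toPG_injective).toEquiv,
    Nat.card_congr eW.toEquiv, card_sym_four, hH12] at this
  omega

theorem subfield_case (hp : p ≠ 2) (h5 : 5 ≤ Fintype.card F) {M : Subgroup (PG F)}
    (hM : IsCoatom M) (hML : ¬ (toPG : PS F →* PG F).range ≤ M) (E : Subfield F) (g : PG F)
    (hE : M.map (MulAut.conj g⁻¹).toMonoidHom =
        (ProjGenLinGroup.map (n := Fin 2) E.subtype).range ∨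
      (p ≠ 2 ∧ M.map (MulAut.conj g⁻¹).toMonoidHom =
        ((ProjGenLinGroup.map (n := Fin 2) E.subtype).comp
          (SpecialLinearGroup.toPGL : SpecialLinearGroup (Fin 2) E →* PG E)).range)) :
    ∃ (F₀ : Type) (_ : Field F₀) (_ : Fintype F₀) (r : ℕ), r.Prime ∧ Odd r ∧
      Fintype.card F = Fintype.card F₀ ^ r ∧ Nonempty (M ≃* PG F₀) := by
  classical
  haveI : Finite (PG F) := Finite.of_surjective _ ProjGenLinGroup.mk_surjective
  letI := Fintype.ofFinite E
  haveI : CharP E p := (RingHom.charP_iff E.subtype Subtype.coe_injective p).mpr inferInstance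
  have hnl := not_le_psl p hp hM hML
  haveI := range_toPG_normal (F := F)
  have hback : ∀ R : Subgroup (PG F), M.map (MulAut.conj g⁻¹).toMonoidHom = R →
      M = R.map (MulAut.conj g).toMonoidHom := by
    rintro R rfl
    rw [Subgroup.map_map, show (MulAut.conj g).toMonoidHom.comp (MulAut.conj g⁻¹).toMonoidHom =
      MonoidHom.id (PG F) from MonoidHom.ext fun x => by simp [MulAut.conj_apply, mul_assoc],
      Subgroup.map_id]
  have hinL : ∀ R : Subgroup (PG F), R ≤ (toPG : PS F →* PG F).range → R.map (MulAut.conj g).toMonoidHom ≤ (toPG : PS F →* PG F).range := by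
    rintro R hR _ ⟨x, hx, rfl⟩
    exact Subgroup.Normal.conj_mem inferInstance x (hR hx) g
  rcases hE with hE | ⟨-, hE⟩
  swap
  · exfalso
    refine hnl ((hback _ hE).le.trans (hinL _ ?_))
    rintro _ ⟨s, rfl⟩
    exact ⟨QuotientGroup.mk (SpecialLinearGroup.map E.subtype s), (pg_map_toPGL E.subtype s).symm⟩
  have hMg := hback _ hE
  obtain ⟨m, hm0, hm⟩ := card_subfield_pow E
  have hcE : Fintype.card E = Nat.card E := (Nat.card_eq_fintype_card).symm
  have hq := ((card_parity (F := F) p).1 hp).1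
  have hmodd : ¬ Even m := fun hev => hnl (hMg.le.trans (hinL _
    (pgl_subfield_le_range E.subtype m (by rw [hcE, hm]) hq hev)))
  let φ := ProjGenLinGroup.map (n := Fin 2) E.subtype
  have eME : M ≃* PG E := ((MonoidHom.ofInjective (map_injective_pgl E.subtype)).trans
    ((φ.range.equivMapOfInjective _ (MulAut.conj g).injective).trans
      (MulEquiv.subgroupCongr hMg.symm))).symm
  have hcM : Nat.card M = Nat.card (PG E) := Nat.card_congr eME.toEquiv
  have hE2 : 2 ≤ Nat.card E := hcE ▸ Fintype.one_lt_card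
  have hm2 : 2 ≤ m := by
    by_contra hlt
    obtain rfl : m = 1 := by omega
    rw [pow_one] at hm
    refine hM.1 (Subgroup.eq_top_of_card_eq _ ?_)
    rw [hcM, card_PG, card_PG, hcE, hm]
  have hint : ∀ a b : ℕ, m = a * b → 2 ≤ a → 2 ≤ b → False := by
    intro a b hab ha hb
    obtain ⟨K, _, _, ι, hK, j, hj⟩ := exists_intermediate p E (a := a) (b := b) (by omega)
      (by omega) (by rw [← hab, hm])
    set R := (ProjGenLinGroup.map (n := Fin 2) ι).range.map (MulAut.conj g).toMonoidHom with hR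
    have hRc : Nat.card R = Nat.card (PG K) := by
      rw [card_map_conj, ← Nat.card_congr (MonoidHom.ofInjective (map_injective_pgl ι)).toEquiv]
    have hle : M ≤ R := by
      rw [hMg, hR]
      refine Subgroup.map_mono ?_
      rintro _ ⟨x, rfl⟩
      exact ⟨ProjGenLinGroup.map (n := Fin 2) j x, by rw [← pg_map_comp, hj]⟩
    have hKb : 2 * Fintype.card K ≤ Fintype.card F := by
      rw [hK, ← hm, hab, pow_mul]
      exact two_mul_le_pow (le_trans hE2 (Nat.le_self_pow (by omega) _)) hb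
    have hhigh := pg_bound hKb
    rcases hM.le_iff.mp hle with h | h
    · rw [h, Subgroup.card_top] at hRc
      omega
    · rw [h, hcM, card_PG, card_PG, hK, hcE] at hRc
      have hlt : Nat.card E < Nat.card E ^ a :=
        lt_self_pow₀ (show 1 < Nat.card E by omega) (by omega)
      have := Nat.mul_lt_mul_of_lt_of_le hlt
        (Nat.sub_le_sub_right (Nat.pow_le_pow_left hlt.le 2) 1)
        (by have := Nat.pow_le_pow_left (show 2 ≤ Nat.card E ^ a by omega) 2; omega)
      omega
  have hprime : m.Prime := by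
    by_contra hnp
    obtain ⟨a, ⟨b, hab⟩, ha2, halt⟩ := Nat.exists_dvd_of_not_prime2 hm2 hnp
    refine hint a b hab ha2 ?_
    by_contra hb
    interval_cases b <;> omega
  obtain ⟨K, _, _, ι, hK, j, -⟩ := exists_intermediate p E (a := 1) (b := m) one_pos (by omega)
    (by rw [one_mul, hm])
  rw [pow_one] at hK
  let ej : E ≃+* K := RingEquiv.ofBijective j ((Fintype.bijective_iff_injective_and_card j).mpr
    ⟨j.injective, by rw [hK, hcE]⟩)
  obtain ⟨ePG⟩ := nonempty_pgEquiv ej
  exact ⟨K, inferInstance, inferInstance, m, hprime, Nat.not_even_iff_odd.mp hmodd,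
    by rw [hK, hm], ⟨eME.trans ePG⟩⟩

theorem alt_four_squares : ∀ g : alternatingGroup (Fin 4), ∃ a b, g = a ^ 2 * b ^ 2 := by
  decide +kernel

theorem alt_five_squares : ∀ g : alternatingGroup (Fin 5), ∃ a b, g = a ^ 2 * b ^ 2 := by
  decide +kernel

theorem le_psl_of_squares (hp : p ≠ 2) {M : Subgroup (PG F)} {A : Type} [Group A] (e : M ≃* A)
    (h : ∀ g : A, ∃ a b, g = a ^ 2 * b ^ 2) : M ≤ (toPG : PS F →* PG F).range := by
  intro m hm
  obtain ⟨a, b, hab⟩ := h (e ⟨m, hm⟩)
  have : m = (e.symm a : PG F) ^ 2 * (e.symm b : PG F) ^ 2 := by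
    rw [← Subgroup.coe_pow, ← Subgroup.coe_pow, ← Subgroup.coe_mul, ← map_pow, ← map_pow, ← map_mul,
      ← hab, e.symm_apply_apply]
  rw [this]
  exact mul_mem (Subgroup.sq_mem_of_index_two (psl_index_two p hp) _)
    (Subgroup.sq_mem_of_index_two (psl_index_two p hp) _)

/-- The maximal subgroups of `PG(toPG : PS F →* PG F).range(q)` not containing `PS(toPG : PS F →* PG F).range(q)`. -/
theorem classify_max_pgl (hp : p ≠ 2) (h5 : 5 ≤ Fintype.card F) (M : Subgroup (PG F))
    (hM : IsCoatom M) (hML : ¬ (toPG : PS F →* PG F).range ≤ M) :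
    Nat.card M = Fintype.card F * (Fintype.card F - 1) ∨
    (Fintype.card F ≠ 5 ∧ Nonempty (M ≃* DihedralGroup (Fintype.card F - 1))) ∨
    Nonempty (M ≃* DihedralGroup (Fintype.card F + 1)) ∨
    (Fintype.card F = p ∧ (p % 8 = 3 ∨ p % 8 = 5) ∧ Nonempty (M ≃* Equiv.Perm (Fin 4))) ∨
    (∃ (F₀ : Type) (_ : Field F₀) (_ : Fintype F₀) (r : ℕ), r.Prime ∧ Odd r ∧
      Fintype.card F = Fintype.card F₀ ^ r ∧ Nonempty (M ≃* PG F₀)) := by
  classical
  haveI : Finite (PG F) := Finite.of_surjective _ ProjGenLinGroup.mk_surjective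
  haveI := isSimpleGroup_PS (F := F) (by omega)
  haveI : IsSimpleGroup ((toPG : PS F →* PG F).range) :=
    (MonoidHom.ofInjective (toPG_injective (K := F))).symm.isSimpleGroup
  have hnl := not_le_psl p hp hM hML
  have hab : ¬ ∀ a ∈ M, ∀ b ∈ M, a * b = b * a :=
    no_abelian_coatom_two (psl_index_two p hp) range_toPG_normal
      (by rw [← Nat.card_congr (MonoidHom.ofInjective toPG_injective).toEquiv]
          exact four_dvd_card_PS p hp) hM hML
  rcases classify_finite p M with h | h | h | h | h | h | h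
  · exfalso
    haveI := h.1
    refine hab fun a ha b hb => ?_
    letI : CommGroup M := IsCyclic.commGroup
    exact congrArg Subtype.val (mul_comm (⟨a, ha⟩ : M) ⟨b, hb⟩)
  · obtain ⟨A, -, -, hpA, h2, ⟨d⟩⟩ := h
    rcases (show Nat.card A = 2 ∨ 3 ≤ Nat.card A by omega) with hA | hA
    · exfalso
      refine hab fun a ha b hb => ?_
      have hcomm : ∀ x y : DihedralGroup 2, x * y = y * x := by decide
      obtain ⟨d'⟩ : Nonempty (M ≃* DihedralGroup 2) := by
        have d₀ := d
        rw [hA] at d₀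
        exact ⟨d₀⟩
      exact congrArg Subtype.val (d'.injective (a₁ := ⟨a, ha⟩ * ⟨b, hb⟩) (a₂ := ⟨b, hb⟩ * ⟨a, ha⟩)
        (by rw [map_mul, map_mul, hcomm]))
    · rcases dihedral_case p hp h5 hM hML hA hpA d with ⟨hk, h5'⟩ | hk
      · exact Or.inr (Or.inl ⟨h5', hk ▸ ⟨d⟩⟩)
      · exact Or.inr (Or.inr (Or.inl (hk ▸ ⟨d⟩)))
  · obtain ⟨-, y, hy⟩ := h
    left
    have hle : M ≤ MulAction.stabilizer (PG F) y := fun x hx => hy ⟨x, hx⟩
    rcases hM.le_iff.mp hle with h' | h'
    · exfalso
      have hidx := index_pointStab y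
      rw [pointStab, h', Subgroup.comap_top, Subgroup.index_top] at hidx
      omega
    · have hc := card_eq_two_mul p hp hnl
      rw [← h'] at hc ⊢
      rw [hc, show (MulAction.stabilizer (PG F) y).comap (toPG : PS F →* PG F) = pointStab y from rfl,
        ← gcd_mul_card_pointStab y, ((card_parity (F := F) p).1 hp).2]
  · exact absurd (le_psl_of_squares p hp h.2.some alt_four_squares) hnl
  · obtain ⟨h24, ⟨d⟩⟩ := h
    obtain ⟨hq, h8⟩ := octahedral_case p hp h5 hM hML h24 d
    exact Or.inr (Or.inr (Or.inr (Or.inl ⟨hq, h8, ⟨d⟩⟩)))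
  · exact absurd (le_psl_of_squares p hp h.2.some alt_five_squares) hnl
  · obtain ⟨g, E, -, -, hE⟩ := h
    exact Or.inr (Or.inr (Or.inr (Or.inr (subfield_case p hp h5 hM hML E g hE))))

end Odd

end CfsgLib.PSL2Sub
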