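import Cfsg.Agent.Lib.PSL2Sub.MaxPGL

/-!
Maximal subgroups of `PGL₂(q)` meet `PSL₂(q)` maximally, with a few exceptions.
-/

set_option autoImplicit false
set_option linter.unusedSectionVars false

namespace CfsgLib.PSL2Sub

open Matrix

theorem dvd_pow_odd_sub {q r : ℕ} (hq : 3 ≤ q) (hr : Odd r)
    (h : q ^ 2 - 1 ∣ 2 * (q ^ r - 1)) : False := by
  obtain ⟨j, rfl⟩ := hr
  have h1 : q ^ 2 - 1 ∣ (q ^ 2) ^ j - 1 := by simpa using Nat.sub_dvd_pow_sub_pow (q ^ 2) 1 j
  have h2 : q ^ (2 * j + 1) - 1 = q * ((q ^ 2) ^ j - 1) + (q - 1) := by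
    rw [pow_succ, pow_mul, Nat.mul_sub, mul_one, mul_comm ((q ^ 2) ^ j) q]
    have : q ≤ q * (q ^ 2) ^ j := Nat.le_mul_of_pos_right _ (pow_pos (by positivity) _)
    omega
  rw [h2, mul_add, Nat.dvd_add_right ((h1.mul_left q).mul_left 2),
    show q ^ 2 - 1 = (q + 1) * (q - 1) by simpa using Nat.sq_sub_sq q 1] at h
  have := Nat.le_of_dvd two_pos (Nat.dvd_of_mul_dvd_mul_right (by omega) h)
  omega

theorem coprime_sq_sub_one {p : ℕ} (hp : p.Prime) {q : ℕ} (hq : p ∣ q) (hq0 : 0 < q) (b : ℕ) :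
    Nat.Coprime (q ^ 2 - 1) (p ^ b) := by
  apply Nat.Coprime.pow_right
  rw [Nat.coprime_comm, hp.coprime_iff_not_dvd]
  intro h
  have h0 : p ∣ q ^ 2 := dvd_pow hq two_ne_zero
  have := Nat.dvd_sub h0 h
  rw [show q ^ 2 - (q ^ 2 - 1) = 1 by have := Nat.one_le_pow 2 q hq0; omega, Nat.dvd_one] at this
  exact hp.ne_one this

theorem alt_four_not_comm : ∃ a b : alternatingGroup (Fin 4), a * b ≠ b * a := by
  decide +kernel

theorem dihedral_sq_comm {k : ℕ} (x y : DihedralGroup k) : x ^ 2 * y ^ 2 = y ^ 2 * x ^ 2 := by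
  have key : ∀ z : DihedralGroup k, ∃ i, z ^ 2 = DihedralGroup.r i := by
    rintro (i | i)
    · exact ⟨i + i, by rw [pow_two, DihedralGroup.r_mul_r]⟩
    · exact ⟨0, by rw [pow_two, DihedralGroup.sr_mul_self]; rfl⟩
  obtain ⟨i, hi⟩ := key x
  obtain ⟨j, hj⟩ := key y
  rw [hi, hj, DihedralGroup.r_mul_r, DihedralGroup.r_mul_r, add_comm]

/-- A subgroup isomorphic to the alternating group of degree four is not inside a dihedral one. -/
theorem alt_four_not_in_dihedral {G : Type*} [Group G] {H K : Subgroup G}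
    (e : H ≃* alternatingGroup (Fin 4)) {k : ℕ} (d : K ≃* DihedralGroup k) (h : H ≤ K) : False := by
  let f : alternatingGroup (Fin 4) →* DihedralGroup k :=
    d.toMonoidHom.comp ((Subgroup.inclusion h).comp e.symm.toMonoidHom)
  have hf : Function.Injective f :=
    d.injective.comp ((Subgroup.inclusion_injective h).comp e.symm.injective)
  obtain ⟨a, b, hab⟩ := alt_four_not_comm
  refine hab (hf ?_)
  obtain ⟨a₁, a₂, rfl⟩ := alt_four_squares a
  obtain ⟨b₁, b₂, rfl⟩ := alt_four_squares b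
  simp only [map_mul, map_pow]
  have hc : ∀ x y : DihedralGroup k, Commute (x ^ 2) (y ^ 2) := dihedral_sq_comm
  exact (((hc _ _).mul_left (hc _ _)).mul_right ((hc _ _).mul_left (hc _ _))).eq

variable {F : Type*} [Field F] [Fintype F] (p : ℕ) [Fact p.Prime] [CharP F p]

include p

theorem comap_alt_four (hp : p ≠ 2) {M : Subgroup (PG F)} (hM : ¬ M ≤ (toPG : PS F →* PG F).range)
    (e : M ≃* Equiv.Perm (Fin 4)) :
    Nonempty (M.comap (toPG : PS F →* PG F) ≃* alternatingGroup (Fin 4)) := by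
  classical
  have h24 : Nat.card M = 24 := (Nat.card_congr e.toEquiv).trans card_sym_four
  set H := M.comap (toPG : PS F →* PG F) with hH
  have hH12 : Nat.card H = 12 := by
    have := card_eq_two_mul p hp hM
    rw [← hH] at this
    omega
  let ψ : H →* Equiv.Perm (Fin 4) := e.toMonoidHom.comp
    (((toPG : PS F →* PG F).comp H.subtype).codRestrict M fun x => x.2)
  have hψ : Function.Injective ψ := by
    intro x y h
    exact Subtype.ext (toPG_injective (congrArg Subtype.val (e.injective h)))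
  have hc : Nat.card ψ.range = 12 := by
    rw [← Nat.card_congr (MonoidHom.ofInjective hψ).toEquiv, hH12]
  have hidx : ψ.range.index = 2 := by
    have := ψ.range.card_mul_index
    rw [hc, card_sym_four] at this
    omega
  exact ⟨(MonoidHom.ofInjective hψ).trans
    (MulEquiv.subgroupCongr (Equiv.Perm.eq_alternatingGroup_of_index_eq_two hidx))⟩

/-- Trivial in even characteristic, where `PSL₂ = PGL₂`. -/
theorem isCoatom_comap_even (hp : p = 2) {M : Subgroup (PG F)} (hM : IsCoatom M) :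
    IsCoatom (M.comap (toPG : PS F →* PG F)) := by
  have hidx := index_range_toPG (F := F)
  rw [((card_parity (F := F) p).2.1 hp).2, Subgroup.index_eq_one] at hidx
  have hs : Function.Surjective (toPG : PS F →* PG F) := MonoidHom.range_eq_top.mp hidx
  refine ⟨fun h => hM.1 ?_, fun K hK => ?_⟩
  · rw [← Subgroup.map_comap_eq_self_of_surjective hs M, h, Subgroup.map_top_of_surjective _ hs]
  · have h2 : M < K.map (toPG : PS F →* PG F) := by
      rw [← Subgroup.map_comap_eq_self_of_surjective hs M]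
      exact (Subgroup.map_lt_map_iff_of_injective toPG_injective).mpr hK
    have h3 := hM.2 _ h2
    rw [← Subgroup.comap_map_eq_self_of_injective toPG_injective K, h3, Subgroup.comap_top]

theorem dihedral_meet (hp : p ≠ 2) (h5 : 5 ≤ Fintype.card F) (h7 : Fintype.card F ≠ 7)
    (h9 : Fintype.card F ≠ 9) (h11 : Fintype.card F ≠ 11) {M : Subgroup (PG F)} {n : ℕ}
    (hn : n = Fintype.card F - 1 ∨ n = Fintype.card F + 1) (hn4 : 6 ≤ n)
    (e : M ≃* DihedralGroup n) (hnl : ¬ M ≤ (toPG : PS F →* PG F).range)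
    {K : Subgroup (PS F)} (hK : IsCoatom K) (hHK : M.comap (toPG : PS F →* PG F) ≤ K) :
    Nat.card K ≤ Nat.card (M.comap (toPG : PS F →* PG F)) := by
  classical
  haveI : Finite (PG F) := Finite.of_surjective _ ProjGenLinGroup.mk_surjective
  obtain ⟨hodd, hd⟩ := (card_parity (F := F) p).1 hp
  haveI : NeZero n := ⟨by omega⟩
  have h4 : 4 ≤ Fintype.card F := by omega
  set H := M.comap (toPG : PS F →* PG F) with hH
  have hcard := card_eq_two_mul p hp hnl
  rw [← hH] at hcard
  have hMn := (Nat.card_congr e.toEquiv).trans DihedralGroup.nat_card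
  have hHn : Nat.card H = n := by omega
  have hdvd : Nat.card H ∣ Nat.card K := Subgroup.card_dvd_of_le hHK
  have hKtop := hK.1
  have hG := gcd_mul_card_PS (F := F)
  rw [hd] at hG
  have hclass := classify_max p h4 K hK
  rw [hd] at hclass
  have hn2 : n % 2 = 0 := by omega
  obtain ⟨c, hc⟩ : ((e.symm (DihedralGroup.r 1) : M) : PG F) ^ 2 ∈
      (toPG : PS F →* PG F).range := Subgroup.sq_mem_of_index_two (psl_index_two p hp) _
  have hcH : c ∈ H := by
    rw [hH, Subgroup.mem_comap, hc]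
    exact pow_mem (e.symm (DihedralGroup.r 1)).2 2
  have hco : orderOf c = n / 2 := by
    rw [← orderOf_injective (toPG : PS F →* PG F) toPG_injective, hc, orderOf_pow,
      Subgroup.orderOf_coe, MulEquiv.orderOf_eq, DihedralGroup.orderOf_r_one,
      Nat.gcd_eq_right (Nat.dvd_of_mod_eq_zero hn2)]
  have hbound : ∀ m, (∀ g ∈ K, orderOf g ≤ m) → n / 2 ≤ m := fun m hm => hco ▸ hm c (hHK hcH)
  have hexc : p ≠ 2 ∧ ((Nat.card K = 12 ∧ ∀ g ∈ K, orderOf g ≤ 3) ∨
      (Nat.card K = 24 ∧ ∀ g ∈ K, orderOf g ≤ 4) ∨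
      (Nat.card K = 60 ∧ ∀ g ∈ K, orderOf g ≤ 5)) → Fintype.card F = 5 := by
    rintro ⟨-, hc'⟩
    rcases hc' with ⟨-, h⟩ | ⟨-, h⟩ | ⟨-, h⟩ <;> have := hbound _ h <;> omega
  rw [hHn] at hdvd ⊢
  rcases hclass with hB | ⟨k, -, hk, ⟨d⟩⟩ | ⟨-, ⟨d⟩⟩ | ⟨-, ⟨d⟩⟩ | ⟨-, ⟨d⟩⟩ |
      ⟨-, F₁, _, _, hF1, ⟨d⟩⟩ | ⟨F₁, _, _, r, hr, -, hrodd, hF1, ⟨d⟩⟩
  · exfalso
    have h2 : n * 2 ∣ Fintype.card F * (Fintype.card F - 1) := by
      rw [← hB, mul_comm]; exact Nat.mul_dvd_mul_left 2 hdvd
    rcases hn with hn | hn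
    · rw [hn, mul_comm (Fintype.card F)] at h2
      have := Nat.dvd_of_mul_dvd_mul_left (by omega) h2
      omega
    · rw [hn] at h2
      have h3 : Fintype.card F + 1 ∣ Fintype.card F - 1 :=
        Nat.Coprime.dvd_of_dvd_mul_left (by simp) ((dvd_mul_right _ 2).trans h2)
      have := Nat.le_of_dvd (by omega) h3
      omega
  · have hKk := (Nat.card_congr d.toEquiv).trans DihedralGroup.nat_card
    rw [hKk] at hdvd ⊢
    rcases hn with hn | hn <;> rcases hk with hk | hk
    · omega
    · rw [hn, hk, show Fintype.card F + 1 = (Fintype.card F - 1) + 2 by omega] at hdvd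
      have := Nat.le_of_dvd two_pos ((Nat.dvd_add_right dvd_rfl).mp hdvd)
      omega
    · rw [hn, hk] at hdvd
      have := Nat.le_of_dvd (by omega) hdvd
      omega
    · omega
  · exfalso
    have hKc := (Nat.card_congr d.toEquiv).trans card_alt_four
    have hq := hexc ⟨hp, Or.inl ⟨hKc, fun g hg => by
      rw [← Subgroup.orderOf_mk g hg, ← MulEquiv.orderOf_eq d]
      exact (orderOf_le_of_pow_cases (by norm_num) (by norm_num) (alt_four_pow _)).trans
        (by norm_num)⟩⟩
    have hn6 : n = 6 := by omega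
    let f : H →* alternatingGroup (Fin 4) := d.toMonoidHom.comp (Subgroup.inclusion hHK)
    have hf : Function.Injective f := d.injective.comp (Subgroup.inclusion_injective hHK)
    have hc : Nat.card f.range = 6 := by
      rw [← Nat.card_congr (MonoidHom.ofInjective hf).toEquiv, hHn, hn6]
    have hidx : f.range.index = 2 := by
      have := f.range.card_mul_index
      rw [hc, card_alt_four] at this
      omega
    have htop : f.range = ⊤ := eq_top_iff.mpr fun g _ => by
      obtain ⟨a, b, rfl⟩ := alt_four_squares g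
      exact mul_mem (Subgroup.sq_mem_of_index_two hidx a) (Subgroup.sq_mem_of_index_two hidx b)
    rw [htop, Subgroup.index_top] at hidx
    omega
  · exfalso
    have hKc := (Nat.card_congr d.toEquiv).trans card_sym_four
    have hq := hexc ⟨hp, Or.inr (Or.inl ⟨hKc, fun g hg => by
      rw [← Subgroup.orderOf_mk g hg, ← MulEquiv.orderOf_eq d]
      exact (orderOf_le_of_pow_cases (by norm_num) (by norm_num) (sym_four_pow _)).trans
        (by norm_num)⟩)⟩
    have := K.card_subgroup_dvd_card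
    rw [hq, show 5 * (5 ^ 2 - 1) = 2 * 60 from rfl] at hG
    rw [hKc, show Nat.card (PS F) = 60 by omega] at this
    norm_num at this
  · exfalso
    have hKc := (Nat.card_congr d.toEquiv).trans card_alt_five
    have hq := hexc ⟨hp, Or.inr (Or.inr ⟨hKc, fun g hg => by
      rw [← Subgroup.orderOf_mk g hg, ← MulEquiv.orderOf_eq d]
      rcases alt_five_pow (d ⟨g, hg⟩) with h | h | h <;>
        exact (orderOf_le_of_pow_eq_one (by norm_num) h).trans (by norm_num)⟩)⟩
    rw [hq, show 5 * (5 ^ 2 - 1) = 2 * 60 from rfl] at hG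
    exact hKtop (Subgroup.eq_top_of_card_eq _ (by omega))
  · exfalso
    have hb := hbound (Nat.card F₁ + 1) fun g hg => by
      rw [← Subgroup.orderOf_mk g hg, ← MulEquiv.orderOf_eq d]
      exact orderOf_le_card_add_one _
    rw [Nat.card_eq_fintype_card] at hb
    rw [hF1] at h4 hn h9 h5 hodd
    have : 4 ≤ Fintype.card F₁ → False := fun h => by
      have := Nat.mul_le_mul_right (Fintype.card F₁) h
      rw [← pow_two] at this
      omega
    have h23 : Fintype.card F₁ = 2 ∨ Fintype.card F₁ = 3 := by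
      have h' := Fintype.one_lt_card (α := F₁)
      by_contra h
      exact this (by omega)
    rcases h23 with h | h <;> rw [h] at h9 h5 hodd <;> omega
  · exfalso
    have hb := hbound (Nat.card F₁ + 1) fun g hg => by
      rw [← Subgroup.orderOf_mk g hg, ← MulEquiv.orderOf_eq d,
        ← orderOf_injective (toPG : PS F₁ →* PG F₁) toPG_injective]
      exact orderOf_le_card_add_one _
    rw [Nat.card_eq_fintype_card] at hb
    have hr3 : 3 ≤ r := by
      have := hr.two_le
      rcases hrodd hp with ⟨j, hj⟩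
      omega
    have hq1 := Fintype.one_lt_card (α := F₁)
    rw [hF1] at hn h5
    have h8' : Fintype.card F₁ * Fintype.card F₁ * Fintype.card F₁ ≤ Fintype.card F₁ ^ r := by
      rw [show Fintype.card F₁ * Fintype.card F₁ * Fintype.card F₁ = Fintype.card F₁ ^ 3 by ring]
      exact Nat.pow_le_pow_right (by omega) hr3
    rw [hF1] at hodd
    have h3 : 3 ≤ Fintype.card F₁ := by
      by_contra h
      rw [show Fintype.card F₁ = 2 by omega, Nat.pow_mod] at hodd
      simp [zero_pow hr.ne_zero] at hodd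
    have := Nat.mul_le_mul_right (Fintype.card F₁) (Nat.mul_le_mul h3 h3)
    omega

set_option maxHeartbeats 1000000 in
/-- The intersection with `PSL₂(q)` of a maximal subgroup of `PGL₂(q)` is maximal. -/
theorem isCoatom_comap (h4 : 4 ≤ Fintype.card F) (h7 : Fintype.card F ≠ 7) (h9 : Fintype.card F ≠ 9)
    (h11 : Fintype.card F ≠ 11)
    (h40 : (Fintype.card F).Prime → Fintype.card F % 40 ∉ ({11, 19, 21, 29} : Finset ℕ))
    {M : Subgroup (PG F)} (hM : IsCoatom M) (hML : ¬ (toPG : PS F →* PG F).range ≤ M) :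
    IsCoatom (M.comap (toPG : PS F →* PG F)) := by
  classical
  by_cases hp : p = 2
  · exact isCoatom_comap_even p hp hM
  haveI : Finite (PG F) := Finite.of_surjective _ ProjGenLinGroup.mk_surjective
  obtain ⟨hodd, hd⟩ := (card_parity (F := F) p).1 hp
  have h5 : 5 ≤ Fintype.card F := by omega
  have hnl := not_le_psl p hp hM hML
  set H := M.comap (toPG : PS F →* PG F) with hH
  have hcard := card_eq_two_mul p hp hnl
  rw [← hH] at hcard
  have hHtop : H ≠ ⊤ := fun h => hML (by
    rw [MonoidHom.range_eq_map, ← h]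
    exact Subgroup.map_comap_le _ _)
  obtain ⟨K, hK, hHK⟩ := (eq_top_or_exists_le_coatom H).resolve_left hHtop
  suffices Nat.card K ≤ Nat.card H by rwa [Subgroup.eq_of_le_of_card_ge hHK this]
  have hdvd : Nat.card H ∣ Nat.card K := Subgroup.card_dvd_of_le hHK
  have hKtop := hK.1
  have hG := gcd_mul_card_PS (F := F)
  rw [hd] at hG
  have hpp : p.Prime := Fact.out
  have hp3 : 3 ≤ p := by have := hpp.two_le; omega
  obtain ⟨nn, -, hnn⟩ := FiniteField.card F p
  have hclass := classify_max p h4 K hK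
  rw [hd] at hclass
  rcases classify_max_pgl p hp h5 M hM hML with h | ⟨h5', ⟨e⟩⟩ | ⟨⟨e⟩⟩ | ⟨hq, h8, ⟨e⟩⟩ |
      ⟨F₀, i₁, i₂, r, hr, hrodd, hF, ⟨e⟩⟩
  · -- Borel
    rw [h] at hcard
    have hi := H.card_mul_index
    have hKi := K.card_mul_index
    rcases eq_or_ne (Fintype.card F) 5 with h5' | h5'
    · rw [h5'] at hcard hclass hG
      have hG' : Nat.card (PS F) = 60 := by
        rw [show 5 * (5 ^ 2 - 1) = 2 * 60 from rfl] at hG; omega
      have hlt : Nat.card K < 60 := lt_of_le_of_ne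
        (hG' ▸ Subgroup.card_le_card_group K) fun e => hKtop (Subgroup.eq_top_of_card_eq _
          (e.trans hG'.symm))
      rw [show Nat.card H = 10 by clear hclass; omega] at hdvd
      rcases hclass with h | ⟨k, -, hk, ⟨d⟩⟩ | ⟨-, ⟨d⟩⟩ | ⟨-, ⟨d⟩⟩ | ⟨-, ⟨d⟩⟩ |
          ⟨-, F₁, _, _, hF1, -⟩ | ⟨F₁, _, _, r, hr, -, -, hF1, -⟩
      · omega
      · have := (Nat.card_congr d.toEquiv).trans DihedralGroup.nat_card
        omega
      · have := (Nat.card_congr d.toEquiv).trans card_alt_four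
        omega
      · have := (Nat.card_congr d.toEquiv).trans card_sym_four
        omega
      · have := (Nat.card_congr d.toEquiv).trans card_alt_five
        omega
      · exact absurd (hF1 ▸ (Nat.prime_five : (5 : ℕ).Prime))
          (Nat.Prime.not_prime_pow le_rfl)
      · exact absurd (hF1 ▸ (Nat.prime_five : (5 : ℕ).Prime))
          (Nat.Prime.not_prime_pow hr.two_le)
    · have hmin := min_index (F := F) (by clear hclass; simp; omega) K hKtop
      have hq1 : Fintype.card F ^ 2 - 1 = (Fintype.card F + 1) * (Fintype.card F - 1) := by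
        simpa using Nat.sq_sub_sq (Fintype.card F) 1
      rw [hq1, ← mul_assoc, mul_comm (Fintype.card F) (Fintype.card F + 1), mul_assoc, hcard] at hG
      by_contra hlt
      have := Nat.mul_le_mul (show Nat.card H + 1 ≤ Nat.card K by omega) hmin
      rw [hKi, Nat.add_mul, one_mul] at this
      rw [show (Fintype.card F + 1) * (2 * Nat.card H) = 2 * (Nat.card H * (Fintype.card F + 1)) by
        ring] at hG
      omega
  · have hMc := (Nat.card_congr e.toEquiv).trans DihedralGroup.nat_card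
    exact dihedral_meet p hp h5 h7 h9 h11 (Or.inl rfl) (by clear hclass; omega) e hnl hK hHK
  · exact dihedral_meet p hp h5 h7 h9 h11 (Or.inr rfl) (by clear hclass; omega) e hnl hK hHK
  · -- octahedral
    obtain ⟨eH⟩ := comap_alt_four p hp hnl e
    rw [← hH] at eH
    have hHc := (Nat.card_congr eH.toEquiv).trans card_alt_four
    rw [hHc] at hdvd ⊢
    have hprime : (Fintype.card F).Prime := hq ▸ hpp
    rcases hclass with hB | ⟨k, -, -, ⟨d⟩⟩ | ⟨-, ⟨d⟩⟩ | ⟨⟨-, -, h8'⟩, -⟩ | ⟨⟨-, h10, -⟩, -⟩ |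
        ⟨-, F₁, _, _, hF1, -⟩ | ⟨F₁, _, _, r, hr, -, -, hF1, -⟩
    · exfalso
      have h2 : 4 * 2 ∣ p * (p - 1) := by
        rw [← hq, ← hB, mul_comm]
        exact Nat.mul_dvd_mul_left 2 ((show 4 ∣ 12 by norm_num).trans hdvd)
      have hcop : Nat.Coprime (4 * 2) p := (Nat.Coprime.pow_left 3
        ((Nat.coprime_primes Nat.prime_two hpp).mpr (Ne.symm hp)) : Nat.Coprime (2 ^ 3) p)
      have := hcop.dvd_of_dvd_mul_left h2
      omega
    · exact (alt_four_not_in_dihedral eH d hHK).elim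
    · exact ((Nat.card_congr d.toEquiv).trans card_alt_four).le
    · omega
    · exfalso
      have := h40 hprime
      simp only [Finset.mem_insert, Finset.mem_singleton, not_or] at this
      omega
    · exact absurd (hF1 ▸ hprime) (Nat.Prime.not_prime_pow le_rfl)
    · exact absurd (hF1 ▸ hprime) (Nat.Prime.not_prime_pow hr.two_le)
  · -- subfield
    have hMc : Nat.card M = Fintype.card F₀ * (Fintype.card F₀ ^ 2 - 1) :=
      (Nat.card_congr e.toEquiv).trans (card_PG F₀)
    rw [hMc] at hcard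
    set q₀ := Fintype.card F₀ with hq₀
    have hr3 : 3 ≤ r := by
      have := hr.two_le
      rcases hrodd with ⟨j, hj⟩
      omega
    have hq₀d : q₀ ∣ p ^ (nn : ℕ) := hnn ▸ hF ▸ dvd_pow_self q₀ (by omega)
    obtain ⟨a, -, ha⟩ := (Nat.dvd_prime_pow hpp).mp hq₀d
    have ha0 : 0 < a := by
      by_contra h
      have := Fintype.one_lt_card (α := F₀)
      rw [show a = 0 by omega, pow_zero] at ha
      omega
    have hpq₀ : p ∣ q₀ := ha ▸ dvd_pow_self p ha0.ne'
    have hq₀3 : 3 ≤ q₀ := hp3.trans (Nat.le_of_dvd (by have := Fintype.one_lt_card (α := F₀); omega) hpq₀)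
    have hpH : p ∣ Nat.card H := by
      have : p ∣ 2 * Nat.card H := hcard ▸ hpq₀.mul_right _
      exact ((Nat.coprime_primes hpp Nat.prime_two).mpr hp).dvd_of_dvd_mul_left this
    have hsq : q₀ ^ 2 - 1 ∣ 2 * Nat.card H := hcard ▸ dvd_mul_left _ _
    have hcop : ∀ b, Nat.Coprime (q₀ ^ 2 - 1) (p ^ b) :=
      coprime_sq_sub_one hpp hpq₀ (by omega)
    have hnotprime : ¬ (Fintype.card F).Prime := fun h =>
      Nat.Prime.not_prime_pow hr.two_le (hF ▸ h)
    rcases hclass with hB | ⟨k, -, hk, ⟨d⟩⟩ | ⟨⟨-, hq, -⟩, -⟩ | ⟨⟨-, hq, -⟩, -⟩ |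
        ⟨⟨-, -, hq⟩, -⟩ | ⟨-, F₁, _, _, hF1, ⟨d⟩⟩ | ⟨F₁, _, _, r', hr', -, hrodd', hF1, ⟨d⟩⟩
    · exfalso
      have h2 : q₀ ^ 2 - 1 ∣ Fintype.card F * (Fintype.card F - 1) :=
        hB ▸ hsq.trans (Nat.mul_dvd_mul_left 2 hdvd)
      have := (hnn ▸ hcop nn : Nat.Coprime (q₀ ^ 2 - 1) (Fintype.card F)).dvd_of_dvd_mul_left h2
      exact dvd_pow_odd_sub hq₀3 hrodd (by rw [← hF]; exact this.mul_left 2)
    · exfalso
      rw [Nat.card_congr d.toEquiv, DihedralGroup.nat_card] at hdvd
      have hpF : p ∣ Fintype.card F := hnn ▸ dvd_pow_self p nn.ne_zero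
      rcases hk with hk | hk <;> rw [hk] at hdvd
      · have := Nat.dvd_sub hpF (hpH.trans hdvd)
        rw [show Fintype.card F - (Fintype.card F - 1) = 1 by omega, Nat.dvd_one] at this
        omega
      · have := (Nat.dvd_add_right hpF).mp (hpH.trans hdvd)
        rw [Nat.dvd_one] at this
        omega
    · exact absurd (hq ▸ hpp) hnotprime
    · exact absurd (hq ▸ hpp) hnotprime
    · exfalso
      rcases hq with hq | ⟨hq, -⟩
      · exact hnotprime (hq ▸ hpp)
      · rw [hF, ha, ← pow_mul] at hq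
        have := Nat.pow_right_injective hpp.two_le hq
        have := Nat.mul_le_mul (show 1 ≤ a from ha0) hr3
        omega
    · exfalso
      have hKc : Nat.card K = Fintype.card F₁ * (Fintype.card F₁ ^ 2 - 1) :=
        (Nat.card_congr d.toEquiv).trans (card_PG F₁)
      have h2 : q₀ ^ 2 - 1 ∣ 2 * (Fintype.card F₁ * (Fintype.card F₁ ^ 2 - 1)) :=
        hKc ▸ hsq.trans (Nat.mul_dvd_mul_left 2 hdvd)
      obtain ⟨b, -, hb⟩ := (Nat.dvd_prime_pow hpp).mp
        (hnn ▸ hF1 ▸ dvd_pow_self (Fintype.card F₁) two_ne_zero)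
      rw [mul_left_comm, hb] at h2
      have h3 := (hcop b).dvd_of_dvd_mul_left h2
      rw [← hb, ← hF1, hF] at h3
      exact dvd_pow_odd_sub hq₀3 hrodd h3
    · have hKc : 2 * Nat.card K = Fintype.card F₁ * (Fintype.card F₁ ^ 2 - 1) := by
        obtain ⟨c, -, hc⟩ := (Nat.dvd_prime_pow hpp).mp
          (hnn ▸ hF1 ▸ dvd_pow_self (Fintype.card F₁) hr'.ne_zero)
        have hg : Nat.gcd 2 (Fintype.card F₁ - 1) = 2 := by
          rcases gcd_two_sub (Fintype.card F₁) with ⟨-, h⟩ | ⟨h, -⟩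
          · exact h
          · rw [hF1, Nat.pow_mod, h, zero_pow hr'.ne_zero] at hodd
            omega
        have h' := gcd_mul_card_PS (F := F₁)
        rw [hg] at h'
        rw [Nat.card_congr d.toEquiv]
        exact h'
      set q₁ := Fintype.card F₁ with hq₁
      obtain ⟨b, -, hb⟩ := (Nat.dvd_prime_pow hpp).mp
        (hnn ▸ hF1 ▸ dvd_pow_self q₁ hr'.ne_zero)
      have hdiv : q₀ ^ 2 - 1 ∣ q₁ ^ 2 - 1 := by
        refine (hcop b).dvd_of_dvd_mul_left ?_
        rw [← hb, ← hKc]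
        exact hsq.trans (Nat.mul_dvd_mul_left 2 hdvd)
      have hgcd := Nat.gcd_eq_left hdiv
      rw [ha, hb, ← pow_mul, ← pow_mul, Nat.pow_sub_one_gcd_pow_sub_one] at hgcd
      have hab : a * 2 ∣ b * 2 := by
        have h1 : Nat.gcd (a * 2) (b * 2) = a * 2 := Nat.pow_right_injective hpp.two_le (by
          have h2 := Nat.one_le_pow (Nat.gcd (a * 2) (b * 2)) p hpp.pos
          have h3 := Nat.one_le_pow (a * 2) p hpp.pos
          simp only
          omega)
        exact h1 ▸ Nat.gcd_dvd_right _ _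
      have hdab : a ∣ b := Nat.dvd_of_mul_dvd_mul_right two_pos hab
      obtain ⟨c, rfl⟩ := hdab
      have hpow : a * r = a * c * r' := Nat.pow_right_injective hpp.two_le (by
        show p ^ (a * r) = p ^ (a * c * r')
        rw [pow_mul, pow_mul, ← ha, ← hb, ← hF, hF1])
      rw [mul_assoc] at hpow
      have hrc : r = c * r' := Nat.eq_of_mul_eq_mul_left ha0 hpow
      have hc1 : c = 1 := by
        rcases hr.eq_one_or_self_of_dvd r' ⟨c, by rw [hrc, mul_comm]⟩ with h | h
        · exact absurd h hr'.ne_one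
        · rw [h] at hrc
          nth_rewrite 1 [← one_mul r] at hrc
          exact (Nat.eq_of_mul_eq_mul_right hr.pos hrc).symm
      rw [hc1, mul_one, ← ha] at hb
      rw [hb] at hKc
      omega

end CfsgLib.PSL2Sub
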