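import Mathlib

/-!
`PGL₂(K)` acting on the projective line `OnePoint K` by Möbius transformations: fixed points,
sharp 3-transitivity, the stabiliser of `∞` as the affine group, maps of fields.
-/

set_option autoImplicit false
set_option linter.unusedSectionVars false

namespace CfsgLib.PSL2Sub

open Matrix OnePoint

/-- `PGL₂` over a field. -/
abbrev PG (K : Type*) [Field K] := Matrix.ProjGenLinGroup (Fin 2) K

variable {K : Type*} [Field K] [DecidableEq K]

theorem scalar_smul_onePoint (u : Kˣ) (a : OnePoint K) :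
    GeneralLinearGroup.scalar (Fin 2) u • a = a := by
  cases a with
  | infty => simp [smul_infty_eq_self_iff]
  | coe x => simp [smul_some_eq_ite, GeneralLinearGroup.coe_scalar, Units.ne_zero]

/-- The action of `PGL₂(K)` on the projective line. -/
instance pglOnePointAction : MulAction (PG K) (OnePoint K) :=
  ProjGenLinGroup.mulActionOfGL scalar_smul_onePoint

theorem mk_smul_onePoint (g : GL (Fin 2) K) (a : OnePoint K) :
    (ProjGenLinGroup.mk g : PG K) • a = g • a := rfl

/-- An invertible matrix given by its entries. -/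
def mkMat (a b c d : K) (h : a * d - b * c ≠ 0) : GL (Fin 2) K :=
  Matrix.GeneralLinearGroup.mkOfDetNeZero !![a, b; c, d] (by rwa [det_fin_two_of])

theorem coe_mkMat (a b c d : K) (h : a * d - b * c ≠ 0) :
    ((mkMat a b c d h : GL (Fin 2) K) : Matrix (Fin 2) (Fin 2) K) = !![a, b; c, d] := rfl

theorem mk_eq_one_of_entries {g : GL (Fin 2) K} (h01 : g 0 1 = 0) (h10 : g 1 0 = 0)
    (h : g 0 0 = g 1 1) : (ProjGenLinGroup.mk g : PG K) = 1 := by
  have hd : g 0 0 ≠ 0 := by
    intro h0
    apply g.det_ne_zero
    rw [det_fin_two, h0, h10]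
    ring
  rw [ProjGenLinGroup.mk_eq_one, GeneralLinearGroup.center_eq_range_scalar]
  refine ⟨Units.mk0 (g 0 0) hd, ?_⟩
  ext i j
  fin_cases i <;> fin_cases j <;> simp [GeneralLinearGroup.coe_scalar, h01, h10, h]

/-- A projective transformation fixing three points is trivial. -/
theorem eq_one_of_fix_three {g : PG K} {x y z : OnePoint K} (hxy : x ≠ y) (hxz : x ≠ z)
    (hyz : y ≠ z) (hx : g • x = x) (hy : g • y = y) (hz : g • z = z) : g = 1 := by
  induction g using ProjGenLinGroup.induction_on with
  | mk g =>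
  simp only [mk_smul_onePoint] at hx hy hz
  have hfin : ∀ t : K, g • (t : OnePoint K) = t →
      g 1 0 * (t * t) + (g 1 1 - g 0 0) * t - g 0 1 = 0 := by
    intro t ht
    rw [smul_some_eq_ite] at ht
    split_ifs at ht with h
    · exact absurd ht.symm (OnePoint.coe_ne_infty t)
    · rw [OnePoint.coe_eq_coe, div_eq_iff h] at ht
      linear_combination -ht
  have key : ∀ s t : K, s ≠ t → g • (s : OnePoint K) = s → g • (t : OnePoint K) = t →
      g 1 0 * (s + t) + (g 1 1 - g 0 0) = 0 := by
    intro s t hst hs ht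
    have : (s - t) * (g 1 0 * (s + t) + (g 1 1 - g 0 0)) = 0 := by
      linear_combination hfin s hs - hfin t ht
    exact (mul_eq_zero.mp this).resolve_left (sub_ne_zero.mpr hst)
  have main : g 1 0 = 0 → ∀ s t : K, s ≠ t → g • (s : OnePoint K) = s →
      g • (t : OnePoint K) = t → (ProjGenLinGroup.mk g : PG K) = 1 := by
    intro h0 s t hst hs ht
    have h1 := key s t hst hs ht
    rw [h0, zero_mul, zero_add] at h1
    have h2 := hfin s hs
    rw [h0, h1] at h2
    exact mk_eq_one_of_entries (by linear_combination -h2) h0 (by linear_combination -h1)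
  cases x with
  | infty =>
    cases y with
    | infty => exact absurd rfl hxy
    | coe s =>
      cases z with
      | infty => exact absurd rfl hxz
      | coe t => exact main (smul_infty_eq_self_iff.mp hx) s t (by simpa using hyz) hy hz
  | coe r =>
    cases y with
    | infty =>
      cases z with
      | infty => exact absurd rfl hyz
      | coe t => exact main (smul_infty_eq_self_iff.mp hy) r t (by simpa using hxz) hx hz
    | coe s =>
      cases z with
      | infty => exact main (smul_infty_eq_self_iff.mp hz) r s (by simpa using hxy) hx hy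
      | coe t =>
        have hrs : r ≠ s := by simpa using hxy
        have h1 := key r s hrs hx hy
        have h2 := key r t (by simpa using hxz) hx hz
        have h0 : g 1 0 * (s - t) = 0 := by linear_combination h1 - h2
        exact main ((mul_eq_zero.mp h0).resolve_right (sub_ne_zero.mpr (by simpa using hyz)))
          r s hrs hx hy

theorem eq_of_eq_on_three {g h : PG K} {x y z : OnePoint K} (hxy : x ≠ y) (hxz : x ≠ z)
    (hyz : y ≠ z) (hx : g • x = h • x) (hy : g • y = h • y) (hz : g • z = h • z) : g = h := by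
  have := eq_one_of_fix_three (g := h⁻¹ * g) hxy hxz hyz
    (by rw [mul_smul, hx, inv_smul_smul]) (by rw [mul_smul, hy, inv_smul_smul])
    (by rw [mul_smul, hz, inv_smul_smul])
  exact (inv_mul_eq_one.mp this).symm

theorem fixed_eq_or {g : PG K} (hg : g ≠ 1) {x y z : OnePoint K} (hxy : x ≠ y)
    (hx : g • x = x) (hy : g • y = y) (hz : g • z = z) : z = x ∨ z = y := by
  by_contra h
  rw [not_or] at h
  exact hg (eq_one_of_fix_three hxy (Ne.symm h.1) (Ne.symm h.2) hx hy hz)

/-- The affine transformation `x ↦ a x + b`. -/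
def aff (a : Kˣ) (b : K) : PG K :=
  ProjGenLinGroup.mk (mkMat (a : K) b 0 1 (by simp))

theorem aff_smul_infty (a : Kˣ) (b : K) : aff a b • (∞ : OnePoint K) = ∞ := by
  rw [aff, mk_smul_onePoint, smul_infty_eq_self_iff, coe_mkMat]
  simp

theorem aff_smul_coe (a : Kˣ) (b x : K) :
    aff a b • (x : OnePoint K) = ((a : K) * x + b : K) := by
  simp [aff, mk_smul_onePoint, smul_some_eq_ite, coe_mkMat]

theorem zero_ne_one_onePoint : ((0 : K) : OnePoint K) ≠ ((1 : K) : OnePoint K) := by simp

theorem aff_mul (a a' : Kˣ) (b b' : K) :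
    aff a b * aff a' b' = aff (a * a') ((a : K) * b' + b) := by
  refine eq_of_eq_on_three (x := ∞) (OnePoint.infty_ne_coe (0 : K)) (OnePoint.infty_ne_coe (1 : K))
    zero_ne_one_onePoint ?_ ?_ ?_ <;>
    simp [mul_smul, aff_smul_infty, aff_smul_coe] <;> ring

theorem aff_one_zero : aff (1 : Kˣ) (0 : K) = 1 := by
  refine eq_of_eq_on_three (x := ∞) (OnePoint.infty_ne_coe (0 : K)) (OnePoint.infty_ne_coe (1 : K))
    zero_ne_one_onePoint ?_ ?_ ?_ <;>
    simp [aff_smul_infty, aff_smul_coe]

theorem aff_injective {a a' : Kˣ} {b b' : K} (h : aff a b = aff a' b') : a = a' ∧ b = b' := by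
  have h0 := congrArg (fun g : PG K => g • ((0 : K) : OnePoint K)) h
  have h1 := congrArg (fun g : PG K => g • ((1 : K) : OnePoint K)) h
  simp [aff_smul_coe] at h0 h1
  subst h0
  exact ⟨Units.ext (by linear_combination h1), rfl⟩

theorem aff_translation_pow (b : K) (n : ℕ) : aff (1 : Kˣ) b ^ n = aff 1 ((n : K) * b) := by
  induction n with
  | zero => simp [aff_one_zero]
  | succ n ih =>
    rw [pow_succ, ih, aff_mul]
    simp
    ring_nf

theorem aff_conj (a : Kˣ) (b b' : K) :
    aff a b * aff 1 b' * (aff a b)⁻¹ = aff 1 ((a : K) * b') := by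
  rw [mul_inv_eq_iff_eq_mul, aff_mul, aff_mul]
  congr 1
  · simp
  · simp; ring

theorem exists_aff_of_fix_infty {g : PG K} (hg : g • (∞ : OnePoint K) = ∞) :
    ∃ (a : Kˣ) (b : K), g = aff a b := by
  induction g using ProjGenLinGroup.induction_on with
  | mk g =>
  rw [mk_smul_onePoint, smul_infty_eq_self_iff] at hg
  have hdet : g 0 0 * g 1 1 ≠ 0 := by
    intro h
    apply g.det_ne_zero
    rw [det_fin_two, hg]
    linear_combination h
  refine ⟨Units.mk0 (g 0 0 / g 1 1) (div_ne_zero (left_ne_zero_of_mul hdet)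
    (right_ne_zero_of_mul hdet)), g 0 1 / g 1 1, ?_⟩
  refine eq_of_eq_on_three (x := ∞) (OnePoint.infty_ne_coe (0 : K)) (OnePoint.infty_ne_coe (1 : K))
    zero_ne_one_onePoint ?_ ?_ ?_
  · rw [mk_smul_onePoint, aff_smul_infty, smul_infty_eq_self_iff, hg]
  · rw [mk_smul_onePoint, aff_smul_coe, smul_some_eq_ite, if_neg (by simp [right_ne_zero_of_mul hdet])]
    simp [hg]
  · rw [mk_smul_onePoint, aff_smul_coe, smul_some_eq_ite,
      if_neg (by simp [hg, right_ne_zero_of_mul hdet])]
    simp [hg, add_div]

theorem exists_smul_infty (x : OnePoint K) : ∃ g : PG K, g • (∞ : OnePoint K) = x := by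
  cases x with
  | infty => exact ⟨1, one_smul _ _⟩
  | coe x =>
    refine ⟨ProjGenLinGroup.mk (mkMat x (-1) 1 0 (by simp)), ?_⟩
    rw [mk_smul_onePoint, smul_infty_eq_ite]
    simp [coe_mkMat]

theorem exists_smul_infty_zero {x y : OnePoint K} (hxy : x ≠ y) :
    ∃ g : PG K, g • (∞ : OnePoint K) = x ∧ g • ((0 : K) : OnePoint K) = y := by
  obtain ⟨g, hg⟩ := exists_smul_infty x
  cases hy : g⁻¹ • y with
  | infty => exact absurd (by rw [← hg, ← hy, smul_inv_smul]) hxy
  | coe t =>
    refine ⟨g * aff 1 t, ?_, ?_⟩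
    · rw [mul_smul, aff_smul_infty, hg]
    · rw [mul_smul, aff_smul_coe, mul_zero, zero_add, ← hy, smul_inv_smul]

/-- Sharp three-transitivity, existence part. -/
theorem exists_smul_three {x y z : OnePoint K} (hxy : x ≠ y) (hxz : x ≠ z) (hyz : y ≠ z) :
    ∃ g : PG K, g • (∞ : OnePoint K) = x ∧ g • ((0 : K) : OnePoint K) = y ∧
      g • ((1 : K) : OnePoint K) = z := by
  obtain ⟨g, hg, hg'⟩ := exists_smul_infty_zero hxy
  cases hz : g⁻¹ • z with
  | infty => exact absurd (by rw [← hg, ← hz, smul_inv_smul]) hxz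
  | coe t =>
    have ht : t ≠ 0 := by
      rintro rfl
      exact hyz (by rw [← hg', ← hz, smul_inv_smul])
    refine ⟨g * aff (Units.mk0 t ht) 0, ?_, ?_, ?_⟩
    · rw [mul_smul, aff_smul_infty, hg]
    · rw [mul_smul, aff_smul_coe, mul_zero, zero_add, hg']
    · rw [mul_smul, aff_smul_coe, Units.val_mk0, mul_one, add_zero, ← hz, smul_inv_smul]

theorem exists_fixed [IsAlgClosed K] (g : PG K) : ∃ x : OnePoint K, g • x = x := by
  induction g using ProjGenLinGroup.induction_on with
  | mk g =>
  simp only [mk_smul_onePoint]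
  by_cases h : g 1 0 = 0
  · exact ⟨∞, smul_infty_eq_self_iff.mpr h⟩
  open Polynomial in
  obtain ⟨r, hr⟩ := IsAlgClosed.exists_root
    (C (g 1 0) * X ^ 2 + C (g 1 1 - g 0 0) * X + C (-g 0 1)) (by
      rw [Polynomial.degree_quadratic h]; decide)
  simp only [Polynomial.IsRoot.def, Polynomial.eval_add, Polynomial.eval_mul, Polynomial.eval_C,
    Polynomial.eval_pow, Polynomial.eval_X] at hr
  have hden : g 1 0 * r + g 1 1 ≠ 0 := by
    intro h0
    apply g.det_ne_zero
    rw [det_fin_two]
    have h1 : g 0 0 * r + g 0 1 = 0 := by linear_combination -hr + r * h0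
    linear_combination g 0 0 * h0 - g 1 0 * h1
  exact ⟨r, by
    rw [smul_some_eq_ite, if_neg hden, OnePoint.coe_eq_coe, div_eq_iff hden]
    linear_combination -hr⟩

/-! ### Field homomorphisms -/

section Map

variable {L : Type*} [Field L] [DecidableEq L] (f : L →+* K)

theorem map_smul_onePoint (g : PG L) (c : OnePoint L) :
    ProjGenLinGroup.map f g • OnePoint.map f c = OnePoint.map f (g • c) := by
  induction g using ProjGenLinGroup.induction_on with
  | mk g =>
  rw [ProjGenLinGroup.map_mk, mk_smul_onePoint, mk_smul_onePoint, OnePoint.map_smul]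

theorem onePoint_map_injective : Function.Injective (OnePoint.map f : OnePoint L → OnePoint K) :=
  Option.map_injective f.injective

theorem map_injective_pgl : Function.Injective (ProjGenLinGroup.map f : PG L → PG K) := by
  rw [injective_iff_map_eq_one]
  intro g hg
  have key : ∀ c : OnePoint L, g • c = c := fun c => onePoint_map_injective f (by
    rw [← map_smul_onePoint, hg, one_smul])
  exact eq_one_of_fix_three (OnePoint.infty_ne_coe (0 : L)) (OnePoint.infty_ne_coe (1 : L))
    zero_ne_one_onePoint (key _) (key _) (key _)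

/-- An element mapping three rational points to rational points is rational. -/
theorem mem_range_map_of_three {g : PG K} {a b c x y z : OnePoint L} (hab : a ≠ b) (hac : a ≠ c)
    (hbc : b ≠ c) (ha : g • OnePoint.map f a = OnePoint.map f x)
    (hb : g • OnePoint.map f b = OnePoint.map f y)
    (hc : g • OnePoint.map f c = OnePoint.map f z) :
    g ∈ (ProjGenLinGroup.map f : PG L →* PG K).range := by
  have inj := onePoint_map_injective f
  have hxy : x ≠ y := fun h => hab (inj (MulAction.injective g (by show g • _ = g • _; rw [ha, hb, h])))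
  have hxz : x ≠ z := fun h => hac (inj (MulAction.injective g (by show g • _ = g • _; rw [ha, hc, h])))
  have hyz : y ≠ z := fun h => hbc (inj (MulAction.injective g (by show g • _ = g • _; rw [hb, hc, h])))
  obtain ⟨h, h1, h2, h3⟩ := exists_smul_three hxy hxz hyz
  obtain ⟨k, k1, k2, k3⟩ := exists_smul_three hab hac hbc
  refine ⟨h * k⁻¹, eq_of_eq_on_three (x := OnePoint.map f a) (inj.ne hab) (inj.ne hac)
    (inj.ne hbc) ?_ ?_ ?_⟩
  · rw [map_smul_onePoint, ha, mul_smul, ← k1, inv_smul_smul, h1]
  · rw [map_smul_onePoint, hb, mul_smul, ← k2, inv_smul_smul, h2]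
  · rw [map_smul_onePoint, hc, mul_smul, ← k3, inv_smul_smul, h3]

end Map

end CfsgLib.PSL2Sub
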